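import Mathlib
import Cfsg.Agent.Lib.Blocks.Bau
import Cfsg.Agent.Lib.Push.NatSylow

/-!
Definitions for the theorem: a finite group with a coprime automorphism of odd prime order whose fixed point
subgroup has odd order is solvable.
-/

set_option autoImplicit false

namespace CfsgLib.OFP

open Subgroup Cfsg CfsgLib.LAE CfsgLib.Push CfsgLib.Blocks CfsgLib.ZJ
open scoped commutatorElement

/-- Normalizer of a subgroup. -/
scoped notation "𝒩[" H "]" => Subgroup.normalizer (SetLike.coe (H : Subgroup _))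
/-- Centralizer of a subgroup. -/
scoped notation "𝒞[" H "]" => Subgroup.centralizer (SetLike.coe (H : Subgroup _))

variable {Γ : Type*} [Group Γ]

/-- `x` is a `2`-element. -/
def Two (x : Γ) : Prop := ∃ n : ℕ, x ^ 2 ^ n = 1

/-- `x` is a `2`-element modulo `C(Q)`. -/
def P2 (Q : Subgroup Γ) (x : Γ) : Prop := ∃ n : ℕ, x ^ 2 ^ n ∈ 𝒞[Q]

/-- The group of automorphisms of `Q` induced by `N_H(Q)` is `2`-closed. -/
def ACin (H Q : Subgroup Γ) : Prop :=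
  ∀ x ∈ H, ∀ y ∈ H, x ∈ 𝒩[Q] → y ∈ 𝒩[Q] → P2 Q x → P2 Q y → P2 Q (x * y)

/-- The automizer of `Q` is `2`-closed. -/
abbrev AC (Q : Subgroup Γ) : Prop := ACin ⊤ Q

/-- The hypothesis of the theorem for `φ` acting on `G`. -/
structure Hy (r : ℕ) (G : Subgroup Γ) (φ : Γ) : Prop where
  hr : r.Prime
  r2 : r ≠ 2
  hφ : φ ^ r = 1
  φG : φ ∈ 𝒩[G]
  rG : ¬ r ∣ Nat.card G
  odd : ∀ x ∈ G, x * x = 1 → Commute φ x → x = 1

/-- A minimal counterexample. -/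
structure Cx (r : ℕ) (G : Subgroup Γ) (φ : Γ) : Prop extends Hy r G φ where
  gen : G ⊔ zpowers φ = ⊤
  simple : IsSimpleGroup G
  nc : ¬ IsMulCommutative G
  solv : ∀ H ≤ G, H ≠ G → φ ∈ 𝒩[H] → Group.IsSolvable H

/-- The global facts about a minimal counterexample used in the local analysis. -/
structure Gl (r : ℕ) (G S : Subgroup Γ) (φ : Γ) : Prop where
  hr : r.Prime
  hφ : φ ^ r = 1
  syl : IsSylowIn 2 S ⊤
  φS : φ ∈ 𝒩[S]
  φG : φ ∉ G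
  two : ∀ x : Γ, Two x → x ∈ G
  cenG : ∀ x : Γ, x * x = 1 → x ≠ 1 → ∀ g : Γ, Commute g x → g ∈ G
  fix : ∀ g ∈ S ⊔ zpowers φ, g ∈ G → g ∈ S
  ac : ∀ V : Subgroup Γ, IsPGroup 2 V → V ≠ ⊥ → ¬ 𝒩[V] ≤ G →
    ∀ Q ≤ 𝒩[V], IsPGroup 2 Q → ACin 𝒩[V] Q
  i2 : ∀ n ∈ 𝒩[S], ∀ z ∈ omegaZ 2 S, n * (φ * z * φ⁻¹) * n⁻¹ = φ * (n * z * n⁻¹) * φ⁻¹

/-- The maximality property of the Baumann subgroup `B`. -/
def HM (B : Subgroup Γ) : Prop :=
  ∀ U T : Subgroup Γ, IsPGroup 2 U → ¬ AC U → IsPGroup 2 T → B ≤ T → T ≤ 𝒩[U] → bau 2 T = B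

/-- A `2`-subgroup `U` whose automizer is not `2`-closed, chosen with `B(T)` extremal. -/
structure Mx (S U T : Subgroup Γ) : Prop where
  pU : IsPGroup 2 U
  nac : ¬ AC U
  syl : IsSylowIn 2 T 𝒩[U]
  TS : T ≤ S
  hm : HM (bau 2 T)

/-- A subgroup `Y` which is a minimal parabolic of characteristic `2` modulo the odd normal subgroup `O`. -/
structure Loc (T Q O Y : Subgroup Γ) : Prop where
  syl : IsSylowIn 2 T Y
  QT : Q ≤ T
  nQ : Y ≤ 𝒩[Q]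
  OY : O ≤ Y
  nO : Y ≤ 𝒩[O]
  odd : Odd (Nat.card O)
  OC : O ≤ 𝒞[Q]
  cQ : Y ⊓ 𝒞[Q] ≤ Q ⊔ O
  nn : ¬ Y ≤ 𝒩[T ⊔ O]
  min : ∀ Y' : Subgroup Γ, T ⊔ O ≤ Y' → Y' < Y → Y' ≤ 𝒩[T ⊔ O]

/-- `P / O₂(P) ≅ SL₂(F)` acts naturally on `V / V₀`, the only non-central chief factor in `O₂(P)`. -/
structure NS (F : Type) [Field F] (B P V V₀ : Subgroup Γ) : Prop where
  nat : ∃ D : NatData F ⊤ P V V₀, D.img B = upU F ∧ D.ker = pCoreOf 2 P
  VQ : V ≤ pCoreOf 2 P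
  QK : ⁅pCoreOf 2 P, pResOf 2 P⁆ ≤ V
  K0 : pResOf 2 P ≤ 𝒞[V₀]
  ZV : omegaZ 2 B ≤ V

/-- The local configuration for fields with more than two elements. -/
def Big (B P Z : Subgroup Γ) : Prop :=
  ∃ f ∈ P, f ∈ 𝒩[B] ∧ (∃ z ∈ Z, ⁅f, z⁆ ≠ 1) ∧
    ∀ z ∈ omegaZ 2 B, ∀ z' ∈ omegaZ 2 B, ⁅f, z⁆ ≠ 1 → ⁅f, z'⁆ ≠ 1 →
      ∃ g ∈ P, g ∈ 𝒩[B] ∧ g * ⁅f, z⁆ * g⁻¹ = ⁅f, z'⁆

/-- The four-group `⟨a, w⟩`. -/
def WW (a w : Γ) : Subgroup Γ := closure {a, w}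

/-- A block: `k` permutes the involutions of the central four-group `⟨a, w⟩ = [Q, k]` cyclically. -/
structure Blk (Q : Subgroup Γ) (a w k : Γ) : Prop where
  aQ : a ∈ Q
  wQ : w ∈ Q
  ac : a ∈ 𝒞[Q]
  wc : w ∈ 𝒞[Q]
  aa : a * a = 1
  ww : w * w = 1
  w1 : w ≠ 1
  aw : a ≠ w
  kN : k ∈ 𝒩[Q]
  kw : k * w * k⁻¹ = a
  ka : k * a * k⁻¹ = a * w
  kQ : ∀ x ∈ Q, ⁅k, x⁆ ∈ WW a w

/-- The local configuration for the field with two elements. -/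
structure Sm (B Q : Subgroup Γ) (a w k b : Γ) : Prop extends Blk Q a w k where
  pB : IsPGroup 2 B
  QB : Q ≤ B
  bB : b ∈ B
  bQ : b ∉ Q
  idx : ∀ x ∈ B, x ∈ Q ∨ x * b ∈ Q
  ba : b * a * b⁻¹ = a * w
  Db : ∀ d ∈ Q, Commute k d → Commute k (b * d * b⁻¹)

/-- The configuration with `b` conjugate to `a` in `N_S(B)`. -/
structure Cf (S B Q : Subgroup Γ) (a w k b t : Γ) : Prop extends Sm B Q a w k b where
  syl : IsSylowIn 2 S ⊤
  BS : B ≤ S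
  hm : HM B
  bD : ∀ d ∈ Q, Commute k d → Commute b d
  tS : t ∈ S
  tB : t ∈ 𝒩[B]
  tw : t * w * t⁻¹ = w
  ta : t * a * t⁻¹ = b

/-- The final configuration inside the `2`-group `S`. -/
structure Ed (S D : Subgroup Γ) (a b w t : Γ) : Prop where
  pS : IsPGroup 2 S
  aS : a ∈ S
  bS : b ∈ S
  tS : t ∈ S
  DS : D ≤ S
  aa : a * a = 1
  ww : w * w = 1
  w1 : w ≠ 1
  aw : Commute a w
  bw : Commute b w
  ba : b * a * b⁻¹ = a * w
  Da : ∀ d ∈ D, Commute a d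
  Db : ∀ d ∈ D, Commute b d
  wD : w ∉ D
  cQ : ∀ x ∈ S, Commute a x → Commute w x → ∃ u ∈ WW a w, ∃ d ∈ D, x = u * d
  nQ : ∀ y ∈ S, y ∈ 𝒩[S ⊓ 𝒞[WW a w]] → y * a * y⁻¹ = a ∨ y * a * y⁻¹ = a * w
  ta : t * a * t⁻¹ = b
  tw : t * w * t⁻¹ = w
  tb : t * b * t⁻¹ = a ∨ t * b * t⁻¹ = a * w

/-- The two groups have the same prime graph. -/
def SameG (G H : Type*) [Group G] [Group H] : Prop :=
  (∀ p : ℕ, p.Prime → (p ∣ Nat.card G ↔ p ∣ Nat.card H)) ∧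
    (∀ p q : ℕ, p.Prime → q.Prime → p ≠ q → ((∃ g : G, orderOf g = p * q) ↔ (∃ g : H, orderOf g = p * q)))

theorem mem_WW {a w x : Γ} (aa : a * a = 1) (ww : w * w = 1) (h : Commute a w) :
    x ∈ WW a w ↔ x = 1 ∨ x = a ∨ x = w ∨ x = a * w := by
  have ia : a⁻¹ = a := inv_eq_of_mul_eq_one_right aa
  have iw : w⁻¹ = w := inv_eq_of_mul_eq_one_right ww
  have e1 : a * (a * w) = w := by rw [← mul_assoc, aa, one_mul]
  have e2 : w * (a * w) = a := by rw [← mul_assoc, ← h.eq, mul_assoc, ww, mul_one]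
  have e3 : a * w * a = w := by rw [mul_assoc, ← h.eq, e1]
  have e4 : a * w * w = a := by rw [mul_assoc, ww, mul_one]
  have e5 : a * w * (a * w) = 1 := by rw [← mul_assoc, e3, ww]
  have ha : a ∈ WW a w := subset_closure (by simp)
  have hw : w ∈ WW a w := subset_closure (by simp)
  refine ⟨fun hx => ?_, ?_⟩
  · induction hx using closure_induction with
    | mem x hx => rcases hx with rfl | rfl <;> simp
    | one => simp
    | mul x y _ _ hx hy =>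
      rcases hx with rfl | rfl | rfl | rfl <;> rcases hy with rfl | rfl | rfl | rfl <;>
        simp [aa, ww, e1, e2, e3, e4, e5, ← h.eq]
    | inv x _ hx =>
      rcases hx with rfl | rfl | rfl | rfl <;> simp [ia, iw, ← h.eq]
  · rintro (rfl | rfl | rfl | rfl)
    exacts [one_mem _, ha, hw, mul_mem ha hw]

theorem left_mem_WW (a w : Γ) : a ∈ WW a w := subset_closure (by simp)

theorem right_mem_WW (a w : Γ) : w ∈ WW a w := subset_closure (by simp)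

theorem WW_le {a w : Γ} {H : Subgroup Γ} : WW a w ≤ H ↔ a ∈ H ∧ w ∈ H := by
  simp [WW, closure_le, Set.insert_subset_iff]

theorem mem_cent_WW {a w x : Γ} : x ∈ 𝒞[WW a w] ↔ Commute a x ∧ Commute w x := by
  rw [WW, centralizer_closure, mem_centralizer_iff]
  simp [commute_iff_eq]

end CfsgLib.OFP
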