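import Mathlib
import Cfsg.Agent.Lib.OFP.Defs

set_option autoImplicit false
set_option linter.unusedSectionVars false

namespace CfsgLib.OFP

open Subgroup Cfsg CfsgLib.LAE CfsgLib.Push CfsgLib.Blocks CfsgLib.ZJ
open scoped commutatorElement

variable {Γ : Type*} [Group Γ] [Finite Γ]

variable {H K Q C P R : Subgroup Γ} {x y v g : Γ}

theorem Two.p2 (h : Two x) (Q : Subgroup Γ) : P2 Q x := h.imp fun _ hn => by
  rw [hn]; exact one_mem _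

theorem two_of_mem (hT : IsPGroup 2 H) (hx : x ∈ H) : Two x := (hT ⟨x, hx⟩).imp fun _ hn => congrArg Subtype.val hn

theorem Two.isPGroup (h : Two x) : IsPGroup 2 (zpowers x) := by
  rintro ⟨_, k, rfl⟩
  exact h.imp fun n hn => Subtype.ext (by
    show (x ^ k) ^ 2 ^ n = 1
    rw [← zpow_natCast, ← zpow_mul, mul_comm, zpow_mul, zpow_natCast, hn, one_zpow])

theorem Two.conj (h : Two x) (g : Γ) : Two (g * x * g⁻¹) := h.imp fun n hn => by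
  rw [conj_pow, hn, mul_one, mul_inv_cancel]

theorem Two.eq_one (h : Two x) (ho : Odd (orderOf x)) : x = 1 := by
  obtain ⟨n, hn⟩ := h
  exact orderOf_eq_one_iff.1 (Nat.Coprime.eq_one_of_dvd
    (Nat.Coprime.pow_right n (Nat.coprime_two_right.2 ho)) (orderOf_dvd_of_pow_eq_one hn))

/-- A non-trivial `2`-element has an involution among its powers. -/
theorem Two.exists_inv (h : Two x) (h1 : x ≠ 1) : ∃ n : ℕ, x ^ n ≠ 1 ∧ x ^ n * x ^ n = 1 := by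
  obtain ⟨n, hn⟩ := h
  induction n with
  | zero => exact absurd (by simpa using hn) h1
  | succ n ih =>
    by_cases k : x ^ 2 ^ n = 1
    · exact ih k
    · exact ⟨2 ^ n, k, by rw [← pow_add, ← two_mul, ← pow_succ', hn]⟩

/-- `2`-part and odd part. -/
theorem exists_two_odd (x : Γ) : ∃ u v : Γ, Two u ∧ Odd (orderOf v) ∧ x = u * v ∧ Commute u v ∧
    u ∈ zpowers x ∧ v ∈ zpowers x := by
  obtain ⟨a, m, hm, e⟩ := Nat.exists_eq_two_pow_mul_odd (orderOf_pos x).ne'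
  have h1 : x ^ ((2 ^ a * m : ℕ) : ℤ) = 1 := by rw [zpow_natCast, ← e, pow_orderOf_eq_one]
  have h2 := Nat.gcd_eq_gcd_ab (2 ^ a) m
  rw [Nat.Coprime.pow_left a (Nat.coprime_two_left.2 hm)] at h2
  refine ⟨x ^ (m * Nat.gcdB (2 ^ a) m), x ^ ((2 ^ a : ℕ) * Nat.gcdA (2 ^ a) m), ⟨a, ?_⟩,
    hm.of_dvd_nat (orderOf_dvd_of_pow_eq_one ?_), ?_, Commute.zpow_zpow_self _ _ _, ⟨_, rfl⟩, ⟨_, rfl⟩⟩
  · rw [← zpow_natCast, ← zpow_mul, show (m * Nat.gcdB (2 ^ a) m) * ((2 ^ a : ℕ) : ℤ) =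
      ((2 ^ a * m : ℕ) : ℤ) * Nat.gcdB (2 ^ a) m by push_cast; ring, zpow_mul, h1, one_zpow]
  · rw [← zpow_natCast, ← zpow_mul, show ((2 ^ a : ℕ) * Nat.gcdA (2 ^ a) m) * (m : ℤ) =
      ((2 ^ a * m : ℕ) : ℤ) * Nat.gcdA (2 ^ a) m by push_cast; ring, zpow_mul, h1, one_zpow]
  · rw [← zpow_add, add_comm, ← h2, Nat.cast_one, zpow_one]

/-- Some power `x ^ 4 ^ n` has odd order. -/
theorem exists_odd_pow (x : Γ) : ∃ n : ℕ, Odd (orderOf (x ^ 4 ^ n)) := by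
  obtain ⟨a, m, hm, e⟩ := Nat.exists_eq_two_pow_mul_odd (orderOf_pos x).ne'
  refine ⟨a, hm.of_dvd_nat (orderOf_dvd_of_pow_eq_one ?_)⟩
  rw [← pow_mul, show 4 ^ a * m = 2 ^ a * m * 2 ^ a by rw [show 4 = 2 * 2 from rfl, mul_pow]; ring, pow_mul, ← e,
    pow_orderOf_eq_one, one_pow]

theorem P2.odd_mem (h : P2 Q x) (hv : v ∈ zpowers x) (ho : Odd (orderOf v)) : v ∈ 𝒞[Q] := by
  obtain ⟨n, hn⟩ := h
  obtain ⟨k, rfl⟩ := mem_zpowers_iff.1 hv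
  refine zpowers_le.2 ?_ (mem_zpowers_pow_iff.2 (Nat.Coprime.pow_left n (Nat.coprime_two_left.2 ho)))
  rw [← zpow_natCast, ← zpow_mul, mul_comm, zpow_mul, zpow_natCast]
  exact zpow_mem hn k

theorem p2_of_odd (h : ∀ v ∈ zpowers x, Odd (orderOf v) → v ∈ 𝒞[Q]) : P2 Q x := by
  obtain ⟨n, hn⟩ := exists_odd_pow x
  exact ⟨2 * n, by rw [pow_mul]; exact h _ (pow_mem (mem_zpowers x) _) hn⟩

/-- `v x v⁻¹ = c x` with `c` fixed by `v`, so `v ^ n x v ^ (-n) = c ^ n x` and the order of `c` is odd. -/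
theorem commute_of_odd (hv : Odd (orderOf v)) (h2 : Two ⁅v, x⁆) (hc : Commute v ⁅v, x⁆) : Commute v x := by
  have e : v * x = ⁅v, x⁆ * x * v := by rw [commutatorElement_def]; group
  have k : ∀ n : ℕ, v ^ n * x = ⁅v, x⁆ ^ n * x * v ^ n := fun n => by
    induction n with
    | zero => simp
    | succ n ih =>
      rw [pow_succ', mul_assoc, ih, ← mul_assoc, ← mul_assoc, (hc.pow_right n).eq, mul_assoc _ v x, e, pow_succ]
      simp only [mul_assoc]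
  have := k (orderOf v)
  rw [pow_orderOf_eq_one, one_mul, mul_one, eq_comm, mul_eq_right] at this
  exact commutatorElement_eq_one_iff_commute.1 (h2.eq_one (hv.of_dvd_nat (orderOf_dvd_of_pow_eq_one this)))

theorem bas1_conj (hg : g ∈ 𝒩[Q]) (hx : x ∈ 𝒞[Q]) : g * x * g⁻¹ ∈ 𝒞[Q] :=
  (mem_normalizer_iff.1 (le_normalizer_centralizer le_rfl hg) x).1 hx

theorem P2.mul_cent (h : P2 Q x) (hx : x ∈ 𝒩[Q]) (hy : y ∈ 𝒞[Q]) : P2 Q (x * y) := by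
  have k : ∀ m : ℕ, ∃ c ∈ 𝒞[Q], (x * y) ^ m = x ^ m * c := fun m => by
    induction m with
    | zero => exact ⟨1, one_mem _, by simp⟩
    | succ m ih =>
      obtain ⟨c, hc, e⟩ := ih
      exact ⟨x⁻¹ * c * x⁻¹⁻¹ * y, mul_mem (bas1_conj (inv_mem hx) hc) hy, by rw [pow_succ, e, pow_succ]; group⟩
  obtain ⟨n, hn⟩ := h
  obtain ⟨c, hc, e⟩ := k (2 ^ n)
  exact ⟨n, e ▸ mul_mem hn hc⟩

theorem P2.cent_mul (h : P2 Q x) (hx : x ∈ 𝒩[Q]) (hy : y ∈ 𝒞[Q]) : P2 Q (y * x) := by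
  have := h.mul_cent hx (bas1_conj (inv_mem hx) hy)
  rwa [show x * (x⁻¹ * y * x⁻¹⁻¹) = y * x by group] at this

theorem P2.conj (h : P2 Q x) (hg : g ∈ 𝒩[Q]) : P2 Q (g * x * g⁻¹) := h.imp fun n hn => by
  rw [conj_pow]; exact bas1_conj hg hn

/-- Write `x = u v`, `y = u' v'` (`exists_two_odd`); `v, v' ∈ C(Q)`, `x y = u u' (u'⁻¹ v u') v'`. -/
theorem acin_of_two
    (h : ∀ x ∈ H, ∀ y ∈ H, x ∈ 𝒩[Q] → y ∈ 𝒩[Q] → Two x → Two y → P2 Q (x * y)) : ACin H Q := by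
  intro x hx y hy nx ny px py
  obtain ⟨u, v, h1, h2, e, -, h3, h4⟩ := exists_two_odd x
  obtain ⟨u', v', h1', h2', e', -, h3', h4'⟩ := exists_two_odd y
  have nu := zpowers_le.2 nx h3
  have nu' := zpowers_le.2 ny h3'
  have := (h u (zpowers_le.2 hx h3) u' (zpowers_le.2 hy h3') nu nu' h1 h1').mul_cent (mul_mem nu nu')
    (mul_mem (bas1_conj (inv_mem nu') (px.odd_mem h4 h2)) (py.odd_mem h4' h2'))
  rwa [show u * u' * (u'⁻¹ * v * u'⁻¹⁻¹ * v') = u * v * (u' * v') by group, ← e, ← e'] at this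

theorem ACin.mono (h : ACin H Q) (hK : K ≤ H) : ACin K Q := fun x hx y hy => h x (hK hx) y (hK hy)

theorem ac_iff : AC Q ↔ ACin 𝒩[Q] Q :=
  ⟨fun h => h.mono le_top, fun h x _ y _ nx ny => h x nx y ny nx ny⟩

theorem ac_bot : AC (⊥ : Subgroup Γ) := fun _ _ _ _ _ _ _ _ =>
  ⟨0, mem_centralizer_iff.2 fun h hh => by rw [mem_bot.1 hh, one_mul, mul_one]⟩

theorem bas1_norm_map {Δ : Type*} [Group Δ] {f : Γ →* Δ} (hf : Function.Injective f) :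
    f x ∈ 𝒩[Q.map f] ↔ x ∈ 𝒩[Q] := by
  refine ⟨fun h => mem_normalizer_iff.2 fun y => ?_, fun h => le_normalizer_map f ⟨x, h, rfl⟩⟩
  rw [← mem_map_iff_mem hf, mem_normalizer_iff.1 h, ← map_inv, ← map_mul, ← map_mul, mem_map_iff_mem hf]

theorem bas1_cent_map {Δ : Type*} [Group Δ] {f : Γ →* Δ} (hf : Function.Injective f) :
    f x ∈ 𝒞[Q.map f] ↔ x ∈ 𝒞[Q] := by
  rw [mem_centralizer_iff, mem_centralizer_iff]
  refine ⟨fun h y hy => hf ?_, ?_⟩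
  · rw [map_mul, map_mul, h _ ⟨y, hy, rfl⟩]
  · rintro h _ ⟨y, hy, rfl⟩
    rw [← map_mul, h y hy, map_mul]

theorem bas1_p2_map {Δ : Type*} [Group Δ] {f : Γ →* Δ} (hf : Function.Injective f) :
    P2 (Q.map f) (f x) ↔ P2 Q x :=
  exists_congr fun n => by rw [← map_pow, bas1_cent_map hf]

theorem bas1_map_iff {Δ : Type*} [Group Δ] {f : Γ →* Δ} (hf : Function.Injective f) :
    ACin (H.map f) (Q.map f) ↔ ACin H Q := by
  refine ⟨fun h x hx y hy nx ny px py => ?_, ?_⟩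
  · rw [← bas1_p2_map hf] at px py ⊢
    rw [map_mul]
    exact h _ ⟨x, hx, rfl⟩ _ ⟨y, hy, rfl⟩ ((bas1_norm_map hf).2 nx) ((bas1_norm_map hf).2 ny) px py
  · rintro h _ ⟨x, hx, rfl⟩ _ ⟨y, hy, rfl⟩ nx ny px py
    rw [← map_mul]
    rw [bas1_p2_map hf] at px py ⊢
    exact h x hx y hy ((bas1_norm_map hf).1 nx) ((bas1_norm_map hf).1 ny) px py

theorem ac_conj_iff (g : Γ) : AC (conjS g Q) ↔ AC Q := by
  have := bas1_map_iff (H := ⊤) (Q := Q) (f := (MulAut.conj g).toMonoidHom) (MulAut.conj g).injective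
  rwa [map_top_of_surjective _ (MulAut.conj g).surjective] at this

theorem acin_map_iff {Δ : Type*} [Group Δ] {f : Γ →* Δ} (hf : Function.Injective f) :
    ACin (H.map f) (Q.map f) ↔ ACin H Q := bas1_map_iff hf

theorem acin_subgroupOf_iff (hH : H ≤ K) (hQ : Q ≤ K) :
    ACin (H.subgroupOf K) (Q.subgroupOf K) ↔ ACin H Q := by
  rw [← acin_map_iff K.subtype_injective, map_subgroupOf_eq_of_le hH, map_subgroupOf_eq_of_le hQ]

/-- The elements of `N_H(Q)` acting as `2`-elements form a normal subgroup of `N_H(Q)`. -/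
theorem ACin.exists_K (h : ACin H Q) : ∃ K : Subgroup Γ,
    (∀ x, x ∈ K ↔ x ∈ H ∧ x ∈ 𝒩[Q] ∧ P2 Q x) ∧ H ⊓ 𝒩[Q] ≤ 𝒩[K] :=
  ⟨{ carrier := {x | x ∈ H ∧ x ∈ 𝒩[Q] ∧ P2 Q x}
     one_mem' := ⟨one_mem _, one_mem _, 0, by simp⟩
     mul_mem' := fun {a b} ha hb =>
      ⟨mul_mem ha.1 hb.1, mul_mem ha.2.1 hb.2.1, h a ha.1 b hb.1 ha.2.1 hb.2.1 ha.2.2 hb.2.2⟩
     inv_mem' := fun {a} ha => ⟨inv_mem ha.1, inv_mem ha.2.1, ha.2.2.imp fun n hn => by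
      rw [inv_pow]; exact inv_mem hn⟩ }, fun _ => Iff.rfl, fun g hg => mem_normalizer_fintype fun x hx =>
    ⟨mul_mem (mul_mem hg.1 hx.1) (H.inv_mem hg.1), mul_mem (mul_mem hg.2 hx.2.1) ((𝒩[Q]).inv_mem hg.2),
      hx.2.2.conj hg.2⟩⟩

/-- The subgroup `K` of `exists_K` contains `R` and is normal in `P`, so it contains `P`; hence elements of odd
order of `P` centralize `C` (`pResOf_le_iff`). -/
theorem ACin.res_le (h : ACin P C) (hP : P ≤ 𝒩[C]) (hR : IsPGroup 2 R) (hRP : R ≤ P) (hn : P ≤ nclIn R P) :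
    pResOf 2 P ≤ 𝒞[C] := by
  obtain ⟨K, h1, h2⟩ := h.exists_K
  have h3 : P ≤ K := hn.trans (nclIn_le (fun x hx => (h1 x).2 ⟨hRP hx, hP (hRP hx), (two_of_mem hR hx).p2 C⟩)
    ((le_inf le_rfl hP).trans h2))
  exact pResOf_le_iff.2 fun g hg ho => ((h1 g).1 (h3 hg)).2.2.odd_mem (mem_zpowers g) (Nat.coprime_two_right.1 ho)

end CfsgLib.OFP
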