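import Mathlib
import Cfsg.Agent.Lib.OFP.Bas1

set_option autoImplicit false
set_option linter.unusedSectionVars false

namespace CfsgLib.OFP

open Subgroup Cfsg CfsgLib.LAE CfsgLib.Push CfsgLib.Blocks CfsgLib.ZJ
open scoped commutatorElement

variable {Γ : Type*} [Group Γ] [Finite Γ]

variable {S B Q C : Subgroup Γ} {a w k b u x d φ : Γ}

theorem bk_cyc (ww : w * w = 1) (n : ℕ) : ∀ s y : Γ, Commute w y → s * w * s⁻¹ = y → s * y * s⁻¹ = w * y →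
    ∃ y', s ^ 2 ^ n * w * (s ^ 2 ^ n)⁻¹ = y' ∧ s ^ 2 ^ n * y' * (s ^ 2 ^ n)⁻¹ = w * y' := by
  induction n with
  | zero => intro s y _ h1 h2; exact ⟨y, by simpa using h1, by simpa using h2⟩
  | succ n ih =>
    intro s y hc h1 h2
    have yy : y * y = 1 := by rw [← h1, conj_mul, ww]; group
    have e : s ^ 2 ^ (n + 1) = (s * s) ^ 2 ^ n := by rw [pow_succ', pow_mul, pow_two]
    rw [e]
    refine ih (s * s) (w * y) ((Commute.refl w).mul_right hc) ?_ ?_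
    · rw [← h2, ← h1]; group
    · have e1 : s * (w * y) * s⁻¹ = w := by
        rw [← conj_mul, h1, h2, hc.symm.left_comm, yy, mul_one]
      calc s * s * (w * y) * (s * s)⁻¹ = s * (s * (w * y) * s⁻¹) * s⁻¹ := by group
        _ = w * (w * y) := by rw [e1, h1, ← mul_assoc, ww, one_mul]

/-- `b` and `k b k⁻¹` are `2`-elements of `N(C)`, and `s = b (k b k⁻¹)` maps `w ↦ a ↦ a w ↦ w`; so
`s ^ 2 ^ n` maps `w` to `a` or `a w`, never to `w`. -/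
theorem nac (aa : a * a = 1) (ww : w * w = 1) (w1 : w ≠ 1) (aw : a ≠ w) (hc : Commute a w)
    (kw : k * w * k⁻¹ = a) (ka : k * a * k⁻¹ = a * w) (ba : b * a * b⁻¹ = a * w) (bw : Commute b w)
    (hb : Two b) (hw : w ∈ C) (bN : b ∈ 𝒩[C]) (kN : k ∈ 𝒩[C]) : ¬ AC C := by
  intro hac
  have kaw : k * (a * w) * k⁻¹ = w := by
    rw [← conj_mul, ka, kw, mul_assoc, ← hc.eq, ← mul_assoc, aa, one_mul]
  have bw' : b * w * b⁻¹ = w := bw.mul_inv_cancel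
  have baw : b * (a * w) * b⁻¹ = a := by rw [← conj_mul, ba, bw', mul_assoc, ww, mul_one]
  have k1 : k⁻¹ * w * k = a * w := by
    calc k⁻¹ * w * k = k⁻¹ * (k * (a * w) * k⁻¹) * k := by rw [kaw]
      _ = a * w := by group
  have k2 : k⁻¹ * a * k = w := by rw [← kw]; group
  have h1 : b * (k * b * k⁻¹) * w * (b * (k * b * k⁻¹))⁻¹ = a := by
    calc _ = b * (k * (b * (k⁻¹ * w * k) * b⁻¹) * k⁻¹) * b⁻¹ := by group
      _ = a := by rw [k1, baw, ka, baw]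
  have h2 : b * (k * b * k⁻¹) * a * (b * (k * b * k⁻¹))⁻¹ = w * a := by
    calc _ = b * (k * (b * (k⁻¹ * a * k) * b⁻¹) * k⁻¹) * b⁻¹ := by group
      _ = w * a := by rw [k2, bw', kw, ba, hc.eq]
  obtain ⟨n, hn⟩ := hac b (mem_top _) (k * b * k⁻¹) (mem_top _) bN
    (Subgroup.mul_mem _ (Subgroup.mul_mem _ kN bN) (Subgroup.inv_mem _ kN)) (hb.p2 C) ((hb.conj k).p2 C)
  obtain ⟨y, e1, e2⟩ := bk_cyc ww n _ a hc.symm h1 h2
  have e3 : Commute ((b * (k * b * k⁻¹)) ^ 2 ^ n) w := (mem_centralizer_iff.1 hn w hw).symm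
  rw [e3.mul_inv_cancel] at e1
  rw [← e1, e3.mul_inv_cancel, ww] at e2
  exact w1 e2

namespace Blk

variable (h : Blk Q a w k)
include h

theorem comm : Commute a w := (mem_centralizer_iff.1 h.ac w h.wQ).symm

theorem mem : x ∈ WW a w ↔ x = 1 ∨ x = a ∨ x = w ∨ x = a * w := mem_WW h.aa h.ww h.comm

theorem a1 : a ≠ 1 := by
  intro e
  have := h.kw
  rw [e, conj_eq_one_iff] at this
  exact h.w1 this

theorem WQ : WW a w ≤ Q := WW_le.2 ⟨h.aQ, h.wQ⟩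

theorem Wc : WW a w ≤ 𝒞[Q] := WW_le.2 ⟨h.ac, h.wc⟩

theorem kaw : k * (a * w) * k⁻¹ = w := by
  rw [← conj_mul, h.ka, h.kw, mul_assoc, ← h.comm.eq, ← mul_assoc, h.aa, one_mul]

theorem kW : k ∈ 𝒩[WW a w] := by
  refine mem_normalizer_of_conjS_le (conjS_le_iff_forall.2 fun x hx => h.mem.2 ?_)
  rcases h.mem.1 hx with rfl | rfl | rfl | rfl
  · left; group
  · simp [h.ka]
  · simp [h.kw]
  · simp [h.kaw]

theorem eq_one (hu : u ∈ WW a w) (hc : Commute k u) : u = 1 := by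
  have e := hc.mul_inv_cancel
  rcases h.mem.1 hu with rfl | rfl | rfl | rfl
  · rfl
  · rw [h.ka] at e; exact absurd (mul_eq_left.1 e) h.w1
  · rw [h.kw] at e; exact absurd e h.aw
  · rw [h.kaw] at e; exact absurd (mul_eq_right.1 e.symm) h.a1

/-- `⁅k, w⁆ = a w`, `⁅k, a⁆ = w`, `⁅k, a w⁆ = a`. -/
theorem exists_comm (hu : u ∈ WW a w) : ∃ v ∈ WW a w, ⁅k, v⁆ = u := by
  have ia : a⁻¹ = a := inv_eq_of_mul_eq_one_right h.aa
  have iw : w⁻¹ = w := inv_eq_of_mul_eq_one_right h.ww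
  rcases h.mem.1 hu with rfl | rfl | rfl | rfl
  · exact ⟨1, one_mem _, by simp⟩
  · refine ⟨u * w, h.mem.2 (by simp), ?_⟩
    rw [commutatorElement_def, h.kaw, mul_inv_rev, mul_inv_cancel_left, ia]
  · refine ⟨a, left_mem_WW _ _, ?_⟩
    rw [commutatorElement_def, h.ka, h.comm.mul_inv_cancel]
  · refine ⟨w, right_mem_WW _ _, ?_⟩
    rw [commutatorElement_def, h.kw, iw]

/-- `Q = W × C_Q(k)`. -/
theorem split (hx : x ∈ Q) : ∃ u ∈ WW a w, ∃ d ∈ Q, Commute k d ∧ x = u * d := by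
  obtain ⟨v, hv, e⟩ := h.exists_comm (h.kQ x hx)
  refine ⟨v, hv, v⁻¹ * x, mul_mem (inv_mem (h.WQ hv)) hx, ?_, by group⟩
  rw [commutatorElement_def, commutatorElement_def] at e
  have e1 : k * x * k⁻¹ = k * v * k⁻¹ * v⁻¹ * x := by rw [e]; group
  rw [commute_iff_eq]
  calc k * (v⁻¹ * x) = (k * v * k⁻¹)⁻¹ * (k * x * k⁻¹) * k := by group
    _ = v⁻¹ * x * k := by rw [e1]; group

/-- `C_Q(k)` is normal in `Q`. -/
theorem conj_D (hx : x ∈ Q) (hd : d ∈ Q) (hc : Commute k d) : Commute k (x * d * x⁻¹) := by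
  obtain ⟨u, hu, e, he, hk, rfl⟩ := h.split hx
  have h1 : Commute u (e * d * e⁻¹) :=
    (mem_centralizer_iff.1 (h.Wc hu) _ (mul_mem (mul_mem he hd) (inv_mem he))).symm
  have : u * e * d * (u * e)⁻¹ = e * d * e⁻¹ := by rw [← h1.mul_inv_cancel]; group
  rw [this]
  exact (hk.mul_right hc).mul_right hk.inv_right

/-- `W ⊓ [Q, Q] = 1`. -/
theorem comm_eq_one (hx : x ∈ Q) (hd : d ∈ Q) (hW : ⁅x, d⁆ ∈ WW a w) : ⁅x, d⁆ = 1 := by
  refine h.eq_one hW ?_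
  obtain ⟨u, hu, e, he, hk, rfl⟩ := h.split hd
  have h1 : Commute u x := (mem_centralizer_iff.1 (h.Wc hu) _ hx).symm
  have h2 : Commute u (x * e * x⁻¹ * e⁻¹) :=
    (mem_centralizer_iff.1 (h.Wc hu) _ (mul_mem (mul_mem (mul_mem hx he) (inv_mem hx)) (inv_mem he))).symm
  have : ⁅x, u * e⁆ = x * e * x⁻¹ * e⁻¹ := by
    rw [commutatorElement_def, ← h2.mul_inv_cancel, ← mul_assoc, ← h1.eq]; group
  rw [this]
  exact (h.conj_D hx he hk).mul_right hk.inv_right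

/-- `k ^ 3` centralizes `Q`, so `k ^ 4 ^ n` acts on `Q` as `k`. -/
theorem pow_act (n : ℕ) (hx : x ∈ Q) : k ^ 4 ^ n * x * (k ^ 4 ^ n)⁻¹ = k * x * k⁻¹ := by
  have h3 : Commute (k ^ 3) x := by
    obtain ⟨u, hu, e, he, hk, rfl⟩ := h.split hx
    refine Commute.mul_right ?_ (hk.pow_left 3)
    have e3 : k ^ 3 * u * (k ^ 3)⁻¹ = k * (k * (k * u * k⁻¹) * k⁻¹) * k⁻¹ := by
      rw [pow_succ, pow_two]; group
    rw [commute_iff_eq, ← mul_inv_eq_iff_eq_mul, e3]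
    rcases h.mem.1 hu with rfl | rfl | rfl | rfl
    · group
    · rw [h.ka, h.kaw, h.kw]
    · rw [h.kw, h.ka, h.kaw]
    · rw [h.kaw, h.kw, h.ka]
  obtain ⟨m, hm⟩ : ∃ m, 4 ^ n = 3 * m + 1 := by
    induction n with
    | zero => exact ⟨0, rfl⟩
    | succ n ih => obtain ⟨m, hm⟩ := ih; exact ⟨4 * m + 1, by rw [pow_succ, hm]; ring⟩
  rw [hm, pow_succ', pow_mul]
  calc k * (k ^ 3) ^ m * x * (k * (k ^ 3) ^ m)⁻¹ = k * ((k ^ 3) ^ m * x * ((k ^ 3) ^ m)⁻¹) * k⁻¹ := by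
        simp only [mul_assoc, mul_inv_rev]
    _ = k * x * k⁻¹ := by rw [(h3.pow_left m).mul_inv_cancel]

theorem conj (g : Γ) : Blk (conjS g Q) (g * a * g⁻¹) (g * w * g⁻¹) (g * k * g⁻¹) := by
  have hcen : ∀ y ∈ 𝒞[Q], g * y * g⁻¹ ∈ 𝒞[conjS g Q] := fun y hy => by
    rw [← conjS_centralizer]; exact conj_mem_conjS.2 hy
  refine ⟨conj_mem_conjS.2 h.aQ, conj_mem_conjS.2 h.wQ, hcen _ h.ac, hcen _ h.wc, ?_, ?_, ?_, ?_, ?_, ?_, ?_, ?_⟩
  · rw [conj_mul, h.aa]; group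
  · rw [conj_mul, h.ww]; group
  · intro e; exact h.w1 (conj_eq_one_iff.1 e)
  · intro e; exact h.aw (by simpa using e)
  · rw [← conjS_normalizer]; exact conj_mem_conjS.2 h.kN
  · rw [← h.kw]; group
  · rw [conj_mul (a := a) (c := w), ← h.ka]; group
  · intro x hx
    obtain ⟨y, hy, rfl⟩ := exists_of_mem_conjS hx
    have e : ⁅g * k * g⁻¹, g * y * g⁻¹⁆ = g * ⁅k, y⁆ * g⁻¹ := by
      simp only [commutatorElement_def]; group
    rw [e]
    rcases h.mem.1 (h.kQ y hy) with e | e | e | e <;> rw [e]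
    · simp
    · exact left_mem_WW _ _
    · exact right_mem_WW _ _
    · rw [← conj_mul]; exact mul_mem (left_mem_WW _ _) (right_mem_WW _ _)

end Blk

namespace Sm

variable (h : Sm B Q a w k b)
include h

theorem bk_mul {y : Γ} (hx : x ∈ B) (hQ : x ∉ Q) (hy : y ∈ B) (hQ' : y ∉ Q) : x * y ∈ Q := by
  have h1 := (h.idx x hx).resolve_left hQ
  have h2 := (h.idx y⁻¹ (inv_mem hy)).resolve_left fun e => hQ' (by simpa using e)
  have := mul_mem h1 (inv_mem h2)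
  simpa [mul_assoc] using this

theorem bk_dec (hx : x ∈ B) (hQ : x ∉ Q) : ∃ q ∈ Q, x = q * b :=
  ⟨x * b⁻¹, h.bk_mul hx hQ (inv_mem h.bB) fun e => h.bQ (by simpa using e), by group⟩

theorem QN : B ≤ 𝒩[Q] := by
  intro y hy
  by_cases hQ : y ∈ Q
  · exact le_normalizer hQ
  refine mem_normalizer_of_conjS_le (conjS_le_iff_forall.2 fun x hx => ?_)
  refine h.bk_mul (mul_mem hy (h.QB hx)) (fun e => hQ ?_) (inv_mem hy) fun e => hQ (by simpa using e)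
  simpa using mul_mem e (inv_mem hx)

/-- `b² ∈ Q` centralizes `a`. -/
theorem bw : Commute b w := by
  have h1 : Commute (b * b) a := mem_centralizer_iff.1 h.ac _ (h.bk_mul h.bB h.bQ h.bB h.bQ)
  have h2 : a * w * (b * w * b⁻¹) = a := by
    rw [← h.ba, conj_mul, ← h.ba]
    calc _ = b * b * a * (b * b)⁻¹ := by group
      _ = a := h1.mul_inv_cancel
  rw [mul_assoc, mul_eq_left, mul_eq_one_iff_inv_eq, inv_eq_of_mul_eq_one_right h.ww] at h2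
  rw [commute_iff_eq, ← mul_inv_eq_iff_eq_mul, ← h2]

theorem conj_a (hx : x ∈ B) (hQ : x ∉ Q) : x * a * x⁻¹ = a * w := by
  obtain ⟨q, hq, rfl⟩ := h.bk_dec hx hQ
  have h1 : Commute q (a * w) := mem_centralizer_iff.1 (mul_mem h.ac h.wc) _ hq
  rw [← h1.mul_inv_cancel, ← h.ba]; group

theorem mem_Q (hx : x ∈ B) (hc : Commute x a) : x ∈ Q := by
  by_contra hQ
  have := h.conj_a hx hQ
  rw [hc.mul_inv_cancel] at this
  exact h.w1 (mul_eq_left.1 this.symm)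

theorem cw (hx : x ∈ B) : Commute x w := by
  have key : ∀ q ∈ Q, Commute q w := fun q hq => mem_centralizer_iff.1 h.wc _ hq
  by_cases hQ : x ∈ Q
  · exact key x hQ
  · obtain ⟨q, hq, rfl⟩ := h.bk_dec hx hQ
    exact (key q hq).mul_left h.bw

theorem bk_W (hx : x ∈ B) (hu : u ∈ WW a w) : x * u * x⁻¹ = u ∨ x * u * x⁻¹ = u * w := by
  by_cases hQ : x ∈ Q
  · left
    have : Commute x u := mem_centralizer_iff.1 (h.toBlk.Wc hu) _ hQ
    exact this.mul_inv_cancel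
  rcases h.toBlk.mem.1 hu with rfl | rfl | rfl | rfl
  · left; group
  · exact Or.inr (h.conj_a hx hQ)
  · exact Or.inl (h.cw hx).mul_inv_cancel
  · right
    rw [← conj_mul, h.conj_a hx hQ, (h.cw hx).mul_inv_cancel]

theorem BW : B ≤ 𝒩[WW a w] := by
  intro y hy
  refine mem_normalizer_of_conjS_le (conjS_le_iff_forall.2 fun x hx => ?_)
  rcases h.bk_W hy hx with e | e <;> rw [e]
  exacts [hx, mul_mem hx (right_mem_WW _ _)]

theorem conj_D (hx : x ∈ B) (hd : d ∈ Q) (hc : Commute k d) : Commute k (x * d * x⁻¹) := by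
  by_cases hQ : x ∈ Q
  · exact h.toBlk.conj_D hQ hd hc
  obtain ⟨q, hq, rfl⟩ := h.bk_dec hx hQ
  have h1 : b * d * b⁻¹ ∈ Q := (mem_normalizer_iff.1 (h.QN h.bB) d).1 hd
  have := h.toBlk.conj_D hq h1 (h.Db d hd hc)
  convert this using 1
  group

theorem nac_of (hW : WW a w ≤ C) (hC : C ≤ Q) (hn : B ≤ 𝒩[C]) : ¬ AC C := by
  refine nac h.aa h.ww h.w1 h.aw h.toBlk.comm h.kw h.ka h.ba h.bw (two_of_mem h.pB h.bB)
    (hW (right_mem_WW _ _)) (hn h.bB) ?_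
  refine mem_normalizer_of_conjS_le (conjS_le_iff_forall.2 fun x hx => ?_)
  have := mul_mem (hW (h.kQ x (hC hx))) hx
  rwa [commutatorElement_def, inv_mul_cancel_right] at this

theorem nacQ : ¬ AC Q := h.nac_of h.toBlk.WQ le_rfl h.QN

theorem nacW : ¬ AC (WW a w) := h.nac_of le_rfl h.toBlk.WQ h.BW

/-- `b` may be replaced by any element of `B \ Q`. -/
theorem change (hx : x ∈ B) (hQ : x ∉ Q) : Sm B Q a w k x :=   ⟨h.toBlk, h.pB, h.QB, hx, hQ, fun y hy => (em (y ∈ Q)).imp id fun hy' => h.bk_mul hy hy' hx hQ,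
    h.conj_a hx hQ, fun _ hd hc => h.conj_D hx hd hc⟩

/-- Let `A = (S ⊔ ⟨φ⟩) ⊓ N(B) ≥ B` and `C = nclIn W A ≤ B`. By `hinv` and `nac_of`, `C ≰ Q`: some `σ ∈ A` has
`W' = σ W σ⁻¹ ≰ Q`. For `x ∈ W'`, `y ∈ B` we have `⁅y, x⁆ ∈ {1, σ w σ⁻¹}`; taking `x ∉ Q`, `y = a` gives
`σ w σ⁻¹ = w`. So `t = σ ∈ S`, and `b' = t a t⁻¹ ∉ Q`. For `d ∈ D = C_Q(k)`: `⁅d, b'⁆ ∈ {1, w}` and it is fixed by
`k` (`conj_D`), so it is trivial. -/
theorem exists_cf (hS : IsSylowIn 2 S ⊤) (BS : B ≤ S) (hm : HM B)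
    (hinv : ∀ C ≤ B, (S ⊔ zpowers φ) ⊓ 𝒩[B] ≤ 𝒩[C] → AC C)
    (hfix : ∀ g ∈ S ⊔ zpowers φ, Commute g w → g ∈ S) : ∃ b' t : Γ, Cf S B Q a w k b' t := by
  have hWB : WW a w ≤ B := h.toBlk.WQ.trans h.QB
  have hBA : B ≤ (S ⊔ zpowers φ) ⊓ 𝒩[B] := le_inf (BS.trans le_sup_left) le_normalizer
  have hC : ¬ nclIn (WW a w) ((S ⊔ zpowers φ) ⊓ 𝒩[B]) ≤ Q := fun hC =>
    h.nac_of (le_nclIn _ _) hC (hBA.trans (le_normalizer_nclIn _ _))
      (hinv _ (nclIn_le hWB inf_le_right) (le_normalizer_nclIn _ _))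
  rw [nclIn_le_iff] at hC
  push Not at hC
  obtain ⟨σ, hσ, hC⟩ := hC
  rw [conjS_le_iff_forall] at hC
  push Not at hC
  obtain ⟨u, hu, hx⟩ := hC
  have hσN : σ ∈ 𝒩[B] := hσ.2
  have hin : ∀ y ∈ B, σ * y * σ⁻¹ ∈ B := fun y hy => (mem_normalizer_iff.1 hσN y).1 hy
  have key : ∀ y ∈ B, ∀ v ∈ WW a w, y * (σ * v * σ⁻¹) * y⁻¹ = σ * v * σ⁻¹ ∨
      y * (σ * v * σ⁻¹) * y⁻¹ = σ * v * σ⁻¹ * (σ * w * σ⁻¹) := by
    intro y hy v hv
    have hy' : σ⁻¹ * y * σ ∈ B := (mem_normalizer_iff.1 hσN _).2 (by simpa [mul_assoc] using hy)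
    have e0 : y * (σ * v * σ⁻¹) * y⁻¹ = σ * (σ⁻¹ * y * σ * v * (σ⁻¹ * y * σ)⁻¹) * σ⁻¹ := by group
    rcases h.bk_W hy' hv with e | e
    · left; rw [e0, e]
    · right; rw [e0, e, conj_mul]
  have hxB := hin u (hWB hu)
  have ia : a⁻¹ = a := inv_eq_of_mul_eq_one_right h.aa
  have tw : σ * w * σ⁻¹ = w := by
    have e1 := h.conj_a hxB hx
    have e2 := h.cw hxB
    have e3 := key a (h.QB h.aQ) u hu
    generalize σ * u * σ⁻¹ = x at e1 e2 e3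
    have e4 : a * x * a⁻¹ = x * w := by
      rw [ia, e2.eq]
      calc a * x * a = a * (x * a * x⁻¹) * x := by group
        _ = w * x := by rw [e1, ← mul_assoc, h.aa, one_mul]
    rw [e4] at e3
    rcases e3 with e | e
    · exact absurd (mul_eq_left.1 e) h.w1
    · exact (mul_left_cancel e).symm
  have hσS : σ ∈ S := hfix σ hσ.1 (by rw [commute_iff_eq, ← mul_inv_eq_iff_eq_mul, tw])
  have hbB := hin a (h.QB h.aQ)
  have hbQ : σ * a * σ⁻¹ ∉ Q := by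
    intro hb
    apply hx
    rcases h.toBlk.mem.1 hu with rfl | rfl | rfl | rfl
    · simp
    · exact hb
    · rw [tw]; exact h.wQ
    · rw [← conj_mul, tw]; exact mul_mem hb h.wQ
  refine ⟨σ * a * σ⁻¹, σ, h.change hbB hbQ, hS, BS, hm, fun d hd hc => ?_, hσS, hσN, tw, rfl⟩
  have e1 := key d (h.QB hd) a (left_mem_WW _ _)
  have e2 := h.conj_D (inv_mem hbB) hd hc
  rw [tw] at e1
  generalize σ * a * σ⁻¹ = c at e1 e2
  rcases e1 with e | e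
  · exact (mul_inv_eq_iff_eq_mul.1 e).symm
  · have e3 : c⁻¹ * d * c⁻¹⁻¹ * d⁻¹ = w := by
      calc _ = c⁻¹ * (d * c * d⁻¹) := by group
        _ = w := by rw [e]; group
    have e4 := e2.mul_right hc.inv_right
    rw [e3] at e4
    exact absurd (h.toBlk.eq_one (right_mem_WW _ _) e4) h.w1

end Sm

end CfsgLib.OFP
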