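import Mathlib
import Cfsg.Agent.Lib.OFP.Blk
import Cfsg.Agent.Lib.ZJ.Stable

set_option autoImplicit false
set_option linter.unusedSectionVars false

namespace CfsgLib.OFP

open Subgroup Cfsg CfsgLib.LAE CfsgLib.Push CfsgLib.Blocks CfsgLib.ZJ
open scoped commutatorElement

variable {Γ : Type*} [Group Γ] [Finite Γ]

variable {X : Type*} [Group X] [Finite X] {π : Γ →* X} {C D H B Q : Subgroup Γ} {x y : Γ}

section
variable (ho : Odd (Nat.card π.ker))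
include ho

theorem sec_inj (hC : IsPGroup 2 C) (hx : x ∈ C) (hy : y ∈ C) (e : π x = π y) : x = y := by
  have h1 : x⁻¹ * y ∈ π.ker := by simp [MonoidHom.mem_ker, e]
  have h2 : Two (x⁻¹ * y) := two_of_mem hC (C.mul_mem (C.inv_mem hx) hy)
  have h3 : Odd (orderOf (x⁻¹ * y)) := ho.of_dvd_nat (π.ker.orderOf_dvd_natCard h1)
  exact inv_mul_eq_one.1 (h2.eq_one h3)

theorem sec_disj (hC : IsPGroup 2 C) : C ⊓ π.ker = ⊥ :=
  eq_bot_iff.2 fun x hx => sec_inj ho hC hx.1 C.one_mem (by rw [map_one]; exact hx.2)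

theorem sec_mem (hC : IsPGroup 2 C) (hD : D ≤ C) (hx : x ∈ C) (h : π x ∈ D.map π) : x ∈ D := by
  obtain ⟨d, hd, e⟩ := h
  rw [sec_inj ho hC hx (hD hd) e.symm]
  exact hd

theorem sec_cent (hC : IsPGroup 2 C) (hx : x ∈ 𝒩[C]) (h : π x ∈ 𝒞[C.map π]) : x ∈ 𝒞[C] := by
  intro c hc
  have h1 : x * c * x⁻¹ = c := sec_inj ho hC (LAE.conj_mem_of_mem_normalizer hx hc) hc (by
    rw [map_mul, map_mul, map_inv, ← h (π c) ⟨c, hc, rfl⟩, mul_inv_cancel_right])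
  exact (mul_inv_eq_iff_eq_mul.1 h1).symm

/-- Frattini argument: `C` is Sylow in `C ker π`. -/
theorem sec_norm (hs : Function.Surjective π) (hC : IsPGroup 2 C) {u : X} (hu : u ∈ 𝒩[C.map π]) :
    ∃ x ∈ 𝒩[C], π x = u := by
  obtain ⟨x₀, rfl⟩ := hs u
  have hS : IsSylowIn 2 C ((C.map π).comap π) :=
    ⟨le_comap_map π C, hC, fun Q hQ h1 h2 =>
      le_antisymm (fun q hq => sec_mem ho hQ h1 hq (h2 hq)) h1⟩
  have hN : x₀ ∈ 𝒩[(C.map π).comap π] := by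
    rw [mem_normalizer_iff]
    intro n
    rw [mem_comap, mem_comap, map_mul, map_mul, map_inv]
    exact mem_normalizer_iff.1 hu (π n)
  obtain ⟨n, hn, y, hy, rfl⟩ := hS.frattini hN
  obtain ⟨c, hc, e⟩ := hn
  exact ⟨c * y, mul_mem (le_normalizer hc) hy, by rw [map_mul, map_mul, e]⟩

theorem sec_p2 (hC : IsPGroup 2 C) (hx : x ∈ 𝒩[C]) : P2 (C.map π) (π x) ↔ P2 C x := by
  refine ⟨fun ⟨n, hn⟩ => ⟨n, sec_cent ho hC (pow_mem hx _) (by rwa [map_pow])⟩,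
    fun ⟨n, hn⟩ => ⟨n, ?_⟩⟩
  rw [← map_pow]
  exact map_le_centralizer_map π (le_refl 𝒞[C]) (mem_map_of_mem π hn)

theorem sec_ac (hs : Function.Surjective π) (hC : IsPGroup 2 C) (h : AC C) : AC (C.map π) := by
  intro u _ v _ hu hv pu pv
  obtain ⟨x, hx, rfl⟩ := sec_norm ho hs hC hu
  obtain ⟨y, hy, rfl⟩ := sec_norm ho hs hC hv
  rw [← map_mul, sec_p2 ho hC (mul_mem hx hy)]
  exact h x (mem_top _) y (mem_top _) hx hy ((sec_p2 ho hC hx).1 pu) ((sec_p2 ho hC hy).1 pv)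

theorem sec_acin (hC : IsPGroup 2 C) (hH : H ≤ 𝒩[C]) (h : ACin H C) : ACin (H.map π) (C.map π) := by
  rintro _ ⟨x, hx, rfl⟩ _ ⟨y, hy, rfl⟩ - - pu pv
  rw [← map_mul, sec_p2 ho hC (mul_mem (hH hx) (hH hy))]
  exact h x hx y hy (hH hx) (hH hy) ((sec_p2 ho hC (hH hx)).1 pu) ((sec_p2 ho hC (hH hy)).1 pv)

/-- Write `C = ⊤.map C.subtype` and use the lemmas for the injective maps `C.subtype` and `π ∘ C.subtype`. -/
theorem sec_omegaZ (hC : IsPGroup 2 C) : (omegaZ 2 C).map π = omegaZ 2 (C.map π) := by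
  apply le_antisymm
  · exact le_omegaZ (PLocal.elemAb_map (elemAb_omegaZ C) π) (map_mono (omegaZ_le C))
      (map_le_centralizer_map π (omegaZ_le_centralizer C))
  · intro x hx
    obtain ⟨⟨y, hy, rfl⟩, h2, h3⟩ := mem_omegaZ.1 hx
    exact ⟨y, mem_omegaZ.2 ⟨hy, sec_cent ho hC (le_normalizer hy) h2,
      sec_inj ho hC (pow_mem hy 2) C.one_mem (by rw [map_pow, h3, map_one])⟩, rfl⟩

theorem sec_bau (hC : IsPGroup 2 C) : (bau 2 C).map π = bau 2 (C.map π) := by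
  have e := map_zj_of_disjoint (e := 2) (sec_disj ho hC)
  apply le_antisymm
  · refine le_inf (map_mono (bau_le C)) ?_
    rw [← e]
    exact map_le_centralizer_map π (bau_le_centralizer C)
  · rintro _ ⟨⟨y, hy, rfl⟩, h2⟩
    refine ⟨y, ⟨hy, fun z hz => ?_⟩, rfl⟩
    have hzC : z ∈ C := zj_le C hz
    refine sec_inj ho hC (mul_mem hzC hy) (mul_mem hy hzC) ?_
    rw [map_mul, map_mul]
    exact h2 (π z) (by rw [← e]; exact mem_map_of_mem π hz)

/-- `π` induces an isomorphism `B ≃* B.map π`. -/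
theorem sec_char (hB : IsPGroup 2 B) (hC : C ≤ B)
    (h : ((C.map π).subgroupOf (B.map π)).Characteristic) : (C.subgroupOf B).Characteristic := by
  let e : B ≃* B.map π := MulEquiv.ofBijective (π.subgroupMap B)
    ⟨fun a b hab => Subtype.ext (sec_inj ho hB a.2 b.2 (congrArg Subtype.val hab)),
      π.subgroupMap_surjective B⟩
  have he : ∀ a : B, ((e a : B.map π) : X) = π a := fun _ => rfl
  rw [characteristic_iff_le_comap] at h ⊢
  intro ϕ a ha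
  have h1 : e a ∈ (C.map π).subgroupOf (B.map π) := by
    rw [mem_subgroupOf, he]
    exact mem_map_of_mem π ha
  have h2 := h (e.symm.trans (ϕ.trans e)) h1
  rw [mem_comap, mem_subgroupOf] at h2 ⊢
  refine sec_mem ho hB hC (ϕ a).2 ?_
  simpa [he] using h2

/-- Lift `f, g` into `N(B)` (`sec_norm`); identities between elements of `B` lift by `sec_inj`. -/
theorem sec_big (hs : Function.Surjective π) (hB : IsPGroup 2 B) (hC : C ≤ B)
    (h : Big (B.map π) ⊤ (C.map π)) : Big B ⊤ C := by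
  obtain ⟨f', -, hf', ⟨_, ⟨z₀, hz₀, rfl⟩, hne⟩, H⟩ := h
  obtain ⟨f, hf, rfl⟩ := sec_norm ho hs hB hf'
  have hm : ∀ z ∈ omegaZ 2 B, ⁅f, z⁆ ∈ B := fun z hz =>
    mul_mem (LAE.conj_mem_of_mem_normalizer hf (omegaZ_le B hz)) (inv_mem (omegaZ_le B hz))
  have hn : ∀ z ∈ omegaZ 2 B, ⁅f, z⁆ ≠ 1 → ⁅π f, π z⁆ ≠ 1 := fun z hz h1 h2 =>
    h1 (sec_inj ho hB (hm z hz) B.one_mem (by rw [map_commutatorElement, h2, map_one]))
  have hz : ∀ z ∈ omegaZ 2 B, π z ∈ omegaZ 2 (B.map π) := fun z hz => by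
    rw [← sec_omegaZ ho hB]
    exact mem_map_of_mem π hz
  refine ⟨f, mem_top _, hf, ⟨z₀, hz₀, fun e => hne ?_⟩, fun z h1 z' h2 n1 n2 => ?_⟩
  · rw [← map_commutatorElement, e, map_one]
  · obtain ⟨g', -, hg', e⟩ := H _ (hz z h1) _ (hz z' h2) (hn z h1 n1) (hn z' h2 n2)
    obtain ⟨g, hg, rfl⟩ := sec_norm ho hs hB hg'
    refine ⟨g, mem_top _, hg, sec_inj ho hB (LAE.conj_mem_of_mem_normalizer hg (hm z h1)) (hm z' h2) ?_⟩
    rw [map_mul, map_mul, map_inv, map_commutatorElement, map_commutatorElement, e]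

/-- `Q = B ⊓ π⁻¹(Q')`; lift `a, w, b` into `B` and `k` into `N(Q)`. -/
theorem sec_sm (hs : Function.Surjective π) (hB : IsPGroup 2 B) {Q' : Subgroup X} {a' w' k' b' : X}
    (h : Sm (B.map π) Q' a' w' k' b') : ∃ (Q : Subgroup Γ) (a w k b : Γ), Sm B Q a w k b := by
  obtain ⟨Q, hQB, hm, rfl⟩ : ∃ Q : Subgroup Γ, Q ≤ B ∧ (∀ x ∈ B, π x ∈ Q' → x ∈ Q) ∧
      Q.map π = Q' := by
    refine ⟨B ⊓ Q'.comap π, inf_le_left, fun x h1 h2 => ⟨h1, h2⟩, le_antisymm ?_ fun u hu => ?_⟩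
    · rintro _ ⟨x, hx, rfl⟩
      exact hx.2
    · obtain ⟨x, hx, rfl⟩ := h.QB hu
      exact ⟨x, ⟨hx, hu⟩, rfl⟩
  have hQ : IsPGroup 2 Q := hB.to_le hQB
  obtain ⟨a, ha, rfl⟩ := h.aQ
  obtain ⟨w, hw, rfl⟩ := h.wQ
  obtain ⟨b, hb, rfl⟩ := h.bB
  obtain ⟨k, hk, rfl⟩ := sec_norm ho hs hQ h.kN
  have hW : (WW a w).map π = WW (π a) (π w) := by
    rw [WW, WW, MonoidHom.map_closure, Set.image_pair]
  refine ⟨Q, a, w, k, b, ⟨ha, hw, sec_cent ho hQ (le_normalizer ha) h.ac,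
    sec_cent ho hQ (le_normalizer hw) h.wc,
    sec_inj ho hQ (mul_mem ha ha) Q.one_mem (by rw [map_mul, h.aa, map_one]),
    sec_inj ho hQ (mul_mem hw hw) Q.one_mem (by rw [map_mul, h.ww, map_one]),
    fun e => h.w1 (by rw [e, map_one]), fun e => h.aw (by rw [e]), hk,
    sec_inj ho hQ (LAE.conj_mem_of_mem_normalizer hk hw) ha (by rw [map_mul, map_mul, map_inv, h.kw]),
    sec_inj ho hQ (LAE.conj_mem_of_mem_normalizer hk ha) (mul_mem ha hw)
      (by rw [map_mul, map_mul, map_inv, h.ka, map_mul]), fun x hx => ?_⟩, hB, hQB, hb,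
    fun e => h.bQ (mem_map_of_mem π e), fun x hx => ?_,
    sec_inj ho hB (mul_mem (mul_mem hb (hQB ha)) (inv_mem hb)) (hQB (mul_mem ha hw))
      (by rw [map_mul, map_mul, map_inv, h.ba, map_mul]), fun d hd hc => ?_⟩
  · refine sec_mem ho hQ (WW_le.2 ⟨ha, hw⟩)
      (mul_mem (LAE.conj_mem_of_mem_normalizer hk hx) (inv_mem hx)) ?_
    rw [hW]
    exact map_commutatorElement π k x ▸ h.kQ _ (mem_map_of_mem π hx)
  · exact (h.idx _ (mem_map_of_mem π hx)).imp (hm x hx) fun e =>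
      hm _ (mul_mem hx hb) (by rwa [map_mul])
  · have h1 := h.Db _ (mem_map_of_mem π hd) (hc.map π)
    have h2 : b * d * b⁻¹ ∈ Q := hm _ (mul_mem (mul_mem hb (hQB hd)) (inv_mem hb)) (by
      rw [map_mul, map_mul, map_inv]
      exact LAE.conj_mem_of_mem_normalizer (h.QN (mem_map_of_mem π hb)) (mem_map_of_mem π hd))
    have h3 : k * (b * d * b⁻¹) * k⁻¹ = b * d * b⁻¹ :=
      sec_inj ho hQ (LAE.conj_mem_of_mem_normalizer hk h2) h2 (by
        simp only [map_mul, map_inv]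
        rw [h1.eq, mul_inv_cancel_right])
    exact mul_inv_eq_iff_eq_mul.1 h3

end

end CfsgLib.OFP
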