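import Mathlib
import Cfsg.Agent.Lib.OFP.Bas1

set_option autoImplicit false
set_option linter.unusedSectionVars false

namespace CfsgLib.OFP

open Subgroup Cfsg CfsgLib.LAE CfsgLib.Push CfsgLib.Blocks CfsgLib.ZJ
open scoped commutatorElement

variable {Γ : Type*} [Group Γ] [Finite Γ]

variable {K Q T B V U S S' : Subgroup Γ} {x g : Γ}

/-- `K C(Q) / C(Q)` is a `2`-group, so `O²(K C(Q)) ≤ C(Q)`; use `IsSylowIn.exists_mul`. -/
theorem exists_cent_mul (hK : K ≤ 𝒩[Q]) (h2 : ∀ x ∈ K, P2 Q x) (hT : IsSylowIn 2 T (K ⊔ 𝒞[Q]))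
    (hx : x ∈ K ⊔ 𝒞[Q]) : ∃ c ∈ 𝒞[Q], ∃ t ∈ T, x = c * t := by
  have hr : pResOf 2 (K ⊔ 𝒞[Q]) ≤ 𝒞[Q] := pResOf_le_of_forall_pow_mem fun g hg => by
    obtain ⟨a, ha, b, hb, rfl⟩ := (mem_sup_iff_of_left_le_normalizer (le_normalizer_centralizer hK)).1 hg
    exact (h2 a ha).mul_cent (hK ha) hb
  obtain ⟨r, hr', s, hs, e⟩ := hT.exists_mul hx
  exact ⟨r, hr hr', s, hs, e⟩

/-- `Z = Q ⊓ C(Q)` is a central Sylow `2`-subgroup of `C(Q)`; by Schur-Zassenhaus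
(`Subgroup.exists_right_complement'_of_coprime` in the type `C(Q)`) it has a complement `O'`, `C(Q) = Z × O'`, the
elements of odd order lie in `O'`, so `O²(C(Q)) = O'`. -/
theorem split (hQ : IsPGroup 2 Q) (h : ∀ x ∈ 𝒞[Q], Two x → x ∈ Q) :
    Odd (Nat.card (pResOf 2 𝒞[Q])) ∧ ∀ c ∈ 𝒞[Q], ∃ z ∈ Q, ∃ o ∈ pResOf 2 𝒞[Q], c = z * o := by
  refine ⟨?_, fun c hc => ?_⟩
  · have hs : IsSylowIn 2 (Q ⊓ 𝒞[Q]) 𝒞[Q] := ⟨inf_le_right, hQ.to_inf_left, fun R hR h1 h2 =>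
      le_antisymm (fun x hx => ⟨h x (h2 hx) (two_of_mem hR hx), h2 hx⟩) h1⟩
    set N : Subgroup 𝒞[Q] := (Q ⊓ 𝒞[Q]).subgroupOf 𝒞[Q] with hN
    have hc : ∀ n ∈ N, ∀ y : 𝒞[Q], Commute n y := fun n hn y =>
      Subtype.ext (mem_centralizer_iff.1 y.2 _ (mem_subgroupOf.1 hn).1)
    have : N.Normal := ⟨fun n hn y => by rwa [← (hc n hn y).eq, mul_inv_cancel_right]⟩
    have pN : IsPGroup 2 N := hQ.to_inf_left.comap_subtype
    have hi : ¬ 2 ∣ N.index := hs.not_dvd_relIndex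
    obtain ⟨k, hk⟩ := IsPGroup.iff_card.1 pN
    obtain ⟨H, hH⟩ := Subgroup.exists_right_complement'_of_coprime (N := N) (by
      rw [hk]; exact ((Nat.Prime.coprime_iff_not_dvd Nat.prime_two).2 hi).pow_left _)
    have hHc : Nat.card H = N.index := hH.symm.index_eq_card.symm
    have hle : pResOf 2 𝒞[Q] ≤ H.map (𝒞[Q]).subtype := pResOf_le_iff.2 fun g hg ho => by
      obtain ⟨⟨n, m⟩, e⟩ := hH.2 ⟨g, hg⟩
      have e : n.1 * m.1 = ⟨g, hg⟩ := e
      have h1 : n.1 ^ orderOf g * m.1 ^ orderOf g = 1 := by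
        rw [← (hc _ n.2 _).mul_pow, e]
        exact Subtype.ext (pow_orderOf_eq_one g)
      have h2 : n.1 ^ orderOf g = 1 := disjoint_def.1 hH.disjoint (pow_mem n.2 _)
        (by rw [eq_inv_of_mul_eq_one_left h1]; exact inv_mem (pow_mem m.2 _))
      have h3 : n.1 = 1 := (two_of_mem pN n.2).eq_one
        ((Nat.coprime_two_right.1 ho).of_dvd_nat (orderOf_dvd_of_pow_eq_one h2))
      rw [h3, one_mul] at e
      exact ⟨m.1, m.2, congrArg Subtype.val e⟩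
    refine Odd.of_dvd_nat ?_ (card_dvd_of_le hle)
    rw [card_map_of_injective (𝒞[Q]).subtype_injective, hHc]
    exact Nat.odd_iff.2 (by omega)
  · obtain ⟨u, v, hu, hv, e, -, hu', hv'⟩ := exists_two_odd c
    exact ⟨u, h u (zpowers_le.2 hc hu') hu, v,
      mem_pResOf (zpowers_le.2 hc hv') (Nat.coprime_two_right.2 hv), e⟩

/-- Weak closure. `B' = B ^ g ≤ T` and `B ≤ T` have the same rank as `T`, so `J(B') ≤ J(T) = J(B)` with equal
orders, `J(B') = J(T)`, `zj B' = zj T` and `B' = bau B' ≤ bau T = B`. -/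
theorem wc0 (hT : bau 2 T = B) (h : conjS g B ≤ T) : conjS g B = B := by
  subst hT
  obtain ⟨A, hA⟩ := PLocal.maxElemIn_nonempty (p := 2) T
  have hA1 := conjS_mem_maxElemIn
    ((PLocal.mem_maxElemIn_iff_of_le (bau_le T) hA (le_bau hA)).2 ⟨hA, le_bau hA⟩) g
  have hA2 := PLocal.mem_maxElemIn.1 hA1
  have hA3 := PLocal.mem_maxElemIn_of_card_le hA (hA2.1.trans h) hA2.2.1 (by rw [card_conjS])
  have e : thompsonSubgroupOf 2 (conjS g (bau 2 T)) = thompsonSubgroupOf 2 T :=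
    eq_of_le_of_card_ge (PLocal.thompsonSubgroupOf_le_of_le h hA3 hA2.1)
      (by rw [← conjS_J, J_bau, card_conjS])
  refine eq_of_le_of_card_ge (le_inf h ?_) (by rw [card_conjS])
  rw [← zj_eq_of_J_eq e, ← conjS_zj, ← conjS_centralizer, zj_bau]
  exact conjS_mono (bau_le_centralizer T)

/-- `N(V) ≤ N(B)`. For `2`-elements `x, y ∈ N(V)` an odd power `v` of `x y` centralizes `B`; for `u ∈ V` the
commutator `⁅v, u⁆ ∈ V` centralizes `B` (as `B ⊴ V`), hence `zj V ≤ B`, so it lies in `bau V = B` and commutes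
with `v`: `commute_of_odd`. -/
theorem ac_over (hB : AC B) (hV : IsPGroup 2 V) (h : bau 2 V = B) : AC V := by
  subst h
  have hn := normalizer_le_normalizer_bau (p := 2) V
  refine acin_of_two fun x _ y _ hx hy tx ty => p2_of_odd fun v hv ho => ?_
  have h1 : v ∈ 𝒞[bau 2 V] :=
    (hB x trivial y trivial (hn hx) (hn hy) (tx.p2 _) (ty.p2 _)).odd_mem hv ho
  have h2 : v ∈ 𝒩[V] := zpowers_le.2 (mul_mem hx hy) hv
  refine mem_centralizer_iff.2 fun u hu => ?_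
  have c1 : ⁅v, u⁆ ∈ V := mul_mem (LAE.conj_mem_of_mem_normalizer h2 hu) (inv_mem hu)
  have c2 : ⁅v, u⁆ ∈ 𝒞[bau 2 V] := by
    have := mul_mem h1 (LAE.conj_mem_of_mem_normalizer
      (normalizer_le_normalizer_centralizer _ (le_normalizer_bau V hu)) (inv_mem h1))
    simpa only [commutatorElement_def, mul_assoc] using this
  have c3 : ⁅v, u⁆ ∈ bau 2 V := ⟨c1, centralizer_anti (zj_le_bau V) c2⟩
  exact (commute_of_odd ho (two_of_mem hV c1) (mem_centralizer_iff.1 h1 _ c3).symm).symm.eq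

/-- Downward induction on `U` (for all `S, S'`). If `U = S` then `S' = S`. Otherwise `U < S`, `U < S'`,
`T₁ = N_S(U) > U`, `T₂ = N_{S'}(U) > U` lie in the subgroup `K` of `ACin.exists_K` (`C(U) ≤ K`). Take a Sylow
`R ≥ T₁` of `K`; `T₂ ≤ k R k⁻¹` with `k = c ρ ∈ C(U) R` (`exists_cent_mul`), so `T₂ ≤ c R c⁻¹`. With a Sylow
`S'' ≥ R` of the whole group: induction for `T₁ ≤ S, S''` and for `T₂ ≤ c S'' c⁻¹, S'`. -/
theorem ext (h : ∀ V : Subgroup Γ, IsPGroup 2 V → U ≤ V → AC V) (hS : IsSylowIn 2 S ⊤) (hS' : IsSylowIn 2 S' ⊤)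
    (hU : U ≤ S) (hU' : U ≤ S') : ∃ c ∈ 𝒞[U], S' = conjS c S := by
  induction U using WellFoundedGT.induction generalizing S S' with
  | ind U ih =>
    by_cases e : U = S
    · subst e
      exact ⟨1, one_mem _, by rw [conjS_one]; exact hS.eq_of_le _ hS'.isPGroup hU' le_top⟩
    have e' : U ≠ S' := by
      rintro rfl
      exact e (hS'.eq_of_le _ hS.isPGroup hU le_top).symm
    have l1 := Core.lt_inf_normalizer_of_isPGroup hS.isPGroup (lt_of_le_of_ne hU e)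
    have l2 := Core.lt_inf_normalizer_of_isPGroup hS'.isPGroup (lt_of_le_of_ne hU' e')
    obtain ⟨K, hK, -⟩ := (h U (hS.isPGroup.to_le hU) le_rfl).exists_K
    have hKN : K ≤ 𝒩[U] := fun x hx => ((hK x).1 hx).2.1
    have hCK : 𝒞[U] ≤ K := fun x hx =>
      (hK x).2 ⟨trivial, centralizer_le_normalizer _ hx, 0, by simpa using hx⟩
    have hin : ∀ {X : Subgroup Γ}, IsPGroup 2 X → X ⊓ 𝒩[U] ≤ K := fun hX x hx =>
      (hK x).2 ⟨trivial, hx.2, (two_of_mem hX hx.1).p2 _⟩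
    obtain ⟨R, hR, hTR⟩ := exists_isSylowIn_ge hS.isPGroup.to_inf_left (hin hS.isPGroup)
    obtain ⟨k, hk, hk'⟩ := hR.exists_le_conj hS'.isPGroup.to_inf_left (hin hS'.isPGroup)
    obtain ⟨c, hc, t, ht, rfl⟩ := exists_cent_mul hKN (fun x hx => ((hK x).1 hx).2.2)
      (T := R) (by rwa [sup_eq_left.2 hCK]) (mem_sup_left hk)
    rw [conjS_mul, conjS_eq_of_mem ht] at hk'
    obtain ⟨S'', hS'', hRS⟩ := exists_isSylowIn_ge hR.isPGroup le_top
    obtain ⟨c1, hc1, e1⟩ := ih _ l1 (fun V hV hl => h V hV (l1.le.trans hl)) hS hS'' inf_le_left (hTR.trans hRS)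
    obtain ⟨c2, hc2, e2⟩ := ih _ l2 (fun V hV hl => h V hV (l2.le.trans hl)) (hS''.conj_of_mem (g := c) trivial)
      hS' (hk'.trans (conjS_mono hRS)) inf_le_left
    refine ⟨c2 * c * c1, mul_mem (mul_mem (centralizer_anti l2.le hc2) hc) (centralizer_anti l1.le hc1), ?_⟩
    rw [conjS_mul, conjS_mul, ← e1, ← e2]

end CfsgLib.OFP
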