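import Mathlib
import Cfsg.Agent.Lib.OFP.Bas2

/-!
Control of `2`-local subgroups by a subgroup `M` containing a Sylow `2`-subgroup: definitions.
-/

set_option autoImplicit false
set_option linter.unusedSectionVars false

namespace CfsgLib.OFP

open Subgroup Cfsg CfsgLib.LAE CfsgLib.Push CfsgLib.Blocks CfsgLib.ZJ
open scoped commutatorElement

variable {Γ : Type*} [Group Γ]

/-- `C(U) N_M(U)`. -/
def CM (M U : Subgroup Γ) : Subgroup Γ := 𝒞[U] ⊔ (M ⊓ 𝒩[U])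

/-- `U` is good: `N(U) = C(U) N_M(U)`. -/
def Gd (M U : Subgroup Γ) : Prop := 𝒩[U] ≤ CM M U

/-- `B` is the Baumann subgroup of every `2`-subgroup of `N(R)` containing it. -/
def HB (B R : Subgroup Γ) : Prop :=
  ∀ T : Subgroup Γ, IsPGroup 2 T → B ≤ T → T ≤ 𝒩[R] → bau 2 T = B

/-- The global facts; `I` is the set of "invariant" subgroups. -/
structure Gl2 (S M : Subgroup Γ) (I : Set (Subgroup Γ)) : Prop where
  syl : IsSylowIn 2 S ⊤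
  SM : S ≤ M
  inv : ∀ C ≤ S, S ≤ 𝒩[C] → C ∈ I → Gd M C
  chI : ∀ C ≤ bau 2 S, (C.subgroupOf (bau 2 S)).Characteristic → C ∈ I
  cz : ∀ R ≤ S, 𝒞[omegaZ 2 S] ⊓ 𝒩[R] ≤ CM M R

/-- A bad `2`-subgroup `U` chosen with `B(T)` extremal. -/
structure Mx2 (S M U T : Subgroup Γ) : Prop where
  pU : IsPGroup 2 U
  bad : ¬ Gd M U
  syl : IsSylowIn 2 T 𝒩[U]
  TS : T ≤ S
  hm : ∀ R : Subgroup Γ, IsPGroup 2 R → R ≤ M → ¬ Gd M R → HB (bau 2 T) R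
  ovr : ∀ R : Subgroup Γ, IsPGroup 2 R → bau 2 T ≤ R → R ≤ M → Gd M R

/-- `Y` is minimal over `T O` subject to not lying in `C(Q) N_M(Q)`. -/
structure Loc2 (M T Q O Y : Subgroup Γ) : Prop where
  syl : IsSylowIn 2 T Y
  TM : T ≤ M
  QT : Q ≤ T
  nQ : Y ≤ 𝒩[Q]
  OY : O ≤ Y
  nO : Y ≤ 𝒩[O]
  odd : Odd (Nat.card O)
  OC : O ≤ 𝒞[Q]
  cQ : 𝒞[Q] ≤ Q ⊔ O
  nn : ¬ Y ≤ CM M Q
  min : ∀ Y' : Subgroup Γ, T ⊔ O ≤ Y' → Y' < Y → Y' ≤ CM M Q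

/-- The abstract minimal parabolic: the whole group modulo the odd normal subgroup `O`, with unique maximal
subgroup `L` over `T O`. -/
structure Loc3 (L T Q O Z : Subgroup Γ) : Prop where
  syl : IsSylowIn 2 T ⊤
  QT : Q ≤ T
  nQ : Q.Normal
  nO : O.Normal
  odd : Odd (Nat.card O)
  OC : O ≤ 𝒞[Q]
  cQ : 𝒞[Q] ≤ Q ⊔ O
  TL : T ⊔ O ≤ L
  nn : L ≠ ⊤
  min : ∀ Y' : Subgroup Γ, T ⊔ O ≤ Y' → Y' ≠ ⊤ → Y' ≤ L
  ZT : Z ≤ omegaZ 2 T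
  cZ : 𝒞[Z] ≤ L
  up : ∀ N ≤ bau 2 T, (N.subgroupOf (bau 2 T)).Characteristic → bau 2 T ⊓ 𝒞[N] ≤ N → 𝒩[N] ≤ L

/-- `P` acts on `V / V₀` as `SL₂(F)` on the natural module, with kernel `Q C_P(Q)`. -/
structure NL (F : Type) [Field F] (B Q P V V₀ : Subgroup Γ) : Prop where
  nat : ∃ D : NatData F ⊤ P V V₀, D.img B = upU F ∧ B ⊓ D.ker = Q ∧ D.ker ≤ Q ⊔ (P ⊓ 𝒞[Q])
  pB : IsPGroup 2 B
  BP : B ≤ P
  PQ : P ≤ 𝒩[Q]
  VQ : V ≤ Q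
  QK : ⁅Q, pResOf 2 P⁆ ≤ V
  K0 : pResOf 2 P ≤ 𝒞[V₀]
  ZV : omegaZ 2 B ≤ V

/-- The local configuration inside the subgroup `G` of the ambient group. -/
structure Lf (F : Type) [Field F] (G M S B Q P V V₀ : Subgroup Γ) : Prop extends NL F B Q P V V₀ where
  syl : IsSylowIn 2 S G
  SM : S ≤ M
  MG : M ≤ G
  BS : B ≤ S
  PG : P ≤ G
  ZB : omegaZ 2 S ≤ omegaZ 2 B
  nc : ¬ pResOf 2 P ≤ 𝒞[omegaZ 2 S]
  bad : ¬ P ≤ CM M Q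
  hm : ∀ R T : Subgroup Γ, IsPGroup 2 R → R ≤ M → ¬ G ⊓ 𝒩[R] ≤ CM M R →
    IsPGroup 2 T → B ≤ T → T ≤ G → T ≤ 𝒩[R] → bau 2 T = B
  ovr : ∀ R : Subgroup Γ, IsPGroup 2 R → B ≤ R → R ≤ M → G ⊓ 𝒩[R] ≤ CM M R

variable {M U R : Subgroup Γ} {g : Γ}

theorem cent_le_CM : 𝒞[U] ≤ CM M U := le_sup_left

theorem le_CM (h1 : R ≤ M) (h2 : R ≤ 𝒩[U]) : R ≤ CM M U := le_sup_of_le_right (le_inf h1 h2)

theorem CM_le : CM M U ≤ 𝒩[U] := sup_le (centralizer_le_normalizer _) inf_le_right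

theorem mem_CM : g ∈ CM M U ↔ ∃ c ∈ 𝒞[U], ∃ m ∈ M, m ∈ 𝒩[U] ∧ g = c * m := by
  rw [CM, mem_sup_iff_of_right_le_normalizer
    (inf_le_right.trans (normalizer_le_normalizer_centralizer U))]
  exact ⟨fun ⟨c, hc, m, hm, e⟩ => ⟨c, hc, m, hm.1, hm.2, e⟩,
    fun ⟨c, hc, m, h1, h2, e⟩ => ⟨c, hc, m, ⟨h1, h2⟩, e⟩⟩

theorem mem_CM' : g ∈ CM M U ↔ ∃ m ∈ M, m ∈ 𝒩[U] ∧ ∃ c ∈ 𝒞[U], g = m * c := by
  rw [CM, sup_comm, mem_sup_iff_of_left_le_normalizer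
    (inf_le_right.trans (normalizer_le_normalizer_centralizer U))]
  exact ⟨fun ⟨m, hm, c, hc, e⟩ => ⟨m, hm.1, hm.2, c, hc, e⟩,
    fun ⟨m, h1, h2, c, hc, e⟩ => ⟨m, ⟨h1, h2⟩, c, hc, e⟩⟩

/-- Passing to a subgroup. -/
theorem mem_CM_of_le (hU : U ≤ R) (hg : g ∈ 𝒩[U]) (h : g ∈ CM M R) : g ∈ CM M U := by
  obtain ⟨c, hc, m, h1, -, rfl⟩ := mem_CM.1 h
  have hc' : c ∈ 𝒞[U] := centralizer_le (SetLike.coe_subset_coe.2 hU) hc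
  refine mem_CM.2 ⟨c, hc', m, h1, ?_, rfl⟩
  simpa using mul_mem (inv_mem (centralizer_le_normalizer _ hc')) hg

theorem gd_bot : Gd M (⊥ : Subgroup Γ) := fun g _ => cent_le_CM (fun x hx => by
  have : x = 1 := hx
  rw [this, one_mul, mul_one])

theorem conjS_CM (hg : g ∈ M) : conjS g (CM M U) = CM M (conjS g U) := by
  rw [CM, CM, conjS_sup, conjS_inf, conjS_centralizer, conjS_normalizer, conjS_eq_of_mem hg]

theorem gd_conj_iff (hg : g ∈ M) : Gd M (conjS g U) ↔ Gd M U := by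
  rw [Gd, Gd, ← conjS_CM hg, ← conjS_normalizer]
  exact ⟨fun h => by simpa only [conjS_inv_conjS] using conjS_mono (g := g⁻¹) h, conjS_mono⟩

section map
variable {Δ : Type*} [Group Δ] {f : Γ →* Δ}

theorem map_CM_le (f : Γ →* Δ) : (CM M U).map f ≤ CM (M.map f) (U.map f) := by
  rintro _ ⟨g, hg, rfl⟩
  obtain ⟨c, hc, m, h1, h2, rfl⟩ := mem_CM.1 hg
  exact mem_CM.2 ⟨f c, map_le_centralizer_map f (le_refl 𝒞[U]) (mem_map_of_mem f hc), f m, mem_map_of_mem f h1,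
    map_le_normalizer_map f (le_refl 𝒩[U]) (mem_map_of_mem f h2), map_mul f c m⟩

theorem mem_CM_map_iff [Finite Γ] (hf : Function.Injective f) : f g ∈ CM (M.map f) (U.map f) ↔ g ∈ CM M U := by
  refine ⟨fun h => ?_, fun h => map_CM_le f (mem_map_of_mem f h)⟩
  obtain ⟨c, hc, _, ⟨m, h1, rfl⟩, h2, e⟩ := mem_CM.1 h
  have e' : c = f (g * m⁻¹) := by rw [map_mul, map_inv, e, mul_inv_cancel_right]
  rw [e'] at hc
  exact mem_CM.2 ⟨g * m⁻¹, (bas1_cent_map hf).1 hc, m, h1, (bas1_norm_map hf).1 h2, by group⟩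

end map

end CfsgLib.OFP
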