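import Mathlib
import Cfsg.Agent.Lib.OFP.Bas1

set_option autoImplicit false
set_option linter.unusedSectionVars false

namespace CfsgLib.OFP

open Subgroup Cfsg CfsgLib.LAE CfsgLib.Push CfsgLib.Blocks CfsgLib.ZJ
open scoped commutatorElement

variable {Γ : Type*} [Group Γ] [Finite Γ]

variable {S D Y : Subgroup Γ} {a b w t y v d : Γ}

namespace Ed

variable (h : Ed S D a b w t)
include h

theorem wS : w ∈ S := by
  have : w = a⁻¹ * (b * a * b⁻¹) := by rw [h.ba]; group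
  rw [this]
  exact mul_mem (inv_mem h.aS) (mul_mem (mul_mem h.bS h.aS) (inv_mem h.bS))

theorem bb : b * b = 1 := by rw [← h.ta, conj_mul, h.aa]; group

theorem cc : a * b * (a * b) = w := by
  calc a * b * (a * b) = a * (b * a * b⁻¹) * (b * b) := by group
    _ = w := by rw [h.ba, h.bb, mul_one, ← mul_assoc, h.aa, one_mul]

theorem ac : a * (a * b) * a⁻¹ = (a * b)⁻¹ := by
  rw [← mul_assoc, h.aa, one_mul, mul_inv_rev, inv_eq_of_mul_eq_one_right h.bb]

theorem inv_c : (a * b)⁻¹ = a * b * w :=   inv_eq_of_mul_eq_one_right (by rw [← mul_assoc, h.cc, h.ww])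

theorem ca : a * b * a * (a * b)⁻¹ = a * w := by
  calc a * b * a * (a * b)⁻¹ = a * (b * a * b⁻¹) * a⁻¹ := by group
    _ = a * w := by rw [h.ba, ((Commute.refl a).mul_right h.aw).mul_inv_cancel]

theorem caw : a * b * (a * w) * (a * b)⁻¹ = a := by
  rw [← conj_mul, h.ca, (h.aw.mul_left h.bw).mul_inv_cancel, mul_assoc, h.ww, mul_one]

theorem Dw (hd : d ∈ D) : Commute w d := by
  have := (h.Da d hd).mul_left (h.Db d hd)
  rw [← h.cc]
  exact this.mul_left this

theorem tc : t * (a * b) * t⁻¹ = a * b ∨ t * (a * b) * t⁻¹ = (a * b)⁻¹ := by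
  have e : b * a = (a * b)⁻¹ := by
    rw [mul_inv_rev, inv_eq_of_mul_eq_one_right h.aa, inv_eq_of_mul_eq_one_right h.bb]
  rw [← conj_mul, h.ta]
  rcases h.tb with e1 | e1 <;> rw [e1]
  · exact Or.inr e
  · left; rw [← mul_assoc, e, h.inv_c, mul_assoc, h.ww, mul_one]

theorem ed_a : a ∈ closure {a, b} ⊔ D := mem_sup_left (subset_closure (by simp))

theorem ed_b : b ∈ closure {a, b} ⊔ D := mem_sup_left (subset_closure (by simp))

theorem ed_W : WW a w ≤ closure {a, b} ⊔ D := by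
  refine WW_le.2 ⟨h.ed_a, ?_⟩
  rw [← h.cc]
  exact mul_mem (mul_mem h.ed_a h.ed_b) (mul_mem h.ed_a h.ed_b)

theorem ed_le : closure {a, b} ⊔ D ≤ S :=
  sup_le ((closure_le _).2 (by simp [Set.insert_subset_iff, h.aS, h.bS])) h.DS

theorem ed_cen (hy : y ∈ S) (ha : Commute a y) (hw : Commute w y) : y ∈ closure {a, b} ⊔ D := by
  obtain ⟨u, hu, d, hd, rfl⟩ := h.cQ y hy ha hw
  exact mul_mem (h.ed_W hu) (mem_sup_right hd)

theorem ed_nc : ¬ Commute a (a * b) := fun e => by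
  have := h.ac
  rw [e.mul_inv_cancel, h.inv_c] at this
  exact h.w1 (mul_eq_left.1 this.symm)

theorem ed_pa (i : ℕ) : (a * b) ^ i * a = a * (a * b) ^ (3 * i) := by
  have e1 : (a * b) ^ 3 = (a * b)⁻¹ := by rw [h.inv_c, ← h.cc, pow_succ', pow_two]
  rw [pow_mul, e1, ← h.ac, conj_pow, ← mul_assoc, ← mul_assoc, h.aa, one_mul,
    inv_eq_of_mul_eq_one_right h.aa]

/-- `C_S(W) = W D ≤ C_S(v, w) = y C_S(W) y⁻¹`, so `y` normalizes `C_S(W)` and `v ∈ {a, a w}` (`nQ`); then `y` or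
`(a b) y` centralizes `a` and `w`, so it lies in `W D` (`cQ`). -/
theorem mem_of_cent (hy : y ∈ S) (hw : Commute y w) (ha : Commute a (y * a * y⁻¹))
    (hD : ∀ d ∈ D, Commute (y * a * y⁻¹) d) : y ∈ closure {a, b} ⊔ D := by
  have hvw : Commute (y * a * y⁻¹) w := (hw.mul_left h.aw).mul_left hw.inv_left
  have hN : y⁻¹ ∈ 𝒩[S ⊓ 𝒞[WW a w]] := by
    refine mem_normalizer_of_conjS_le (conjS_le_iff_forall.2 fun x hx => ?_)
    obtain ⟨h1, h2⟩ := mem_inf.1 hx
    obtain ⟨h3, h4⟩ := mem_cent_WW.1 h2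
    refine mem_inf.2 ⟨mul_mem (mul_mem (inv_mem hy) h1) (inv_mem (inv_mem hy)), mem_cent_WW.2 ⟨?_, ?_⟩⟩
    · have h5 : Commute (y * a * y⁻¹) x := by
        obtain ⟨u, hu, d, hd, rfl⟩ := h.cQ x h1 h3 h4
        refine Commute.mul_right ?_ (hD d hd)
        rcases (mem_WW h.aa h.ww h.aw).1 hu with rfl | rfl | rfl | rfl
        exacts [Commute.one_right _, ha.symm, hvw, ha.symm.mul_right hvw]
      rw [commute_iff_eq]
      calc a * (y⁻¹ * x * y⁻¹⁻¹) = y⁻¹ * (y * a * y⁻¹ * x) * y := by group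
        _ = y⁻¹ * x * y⁻¹⁻¹ * a := by rw [h5.eq]; group
    · exact (hw.symm.inv_right.mul_right h4).mul_right hw.symm.inv_right.inv_right
  rcases h.nQ y hy (by simpa using Subgroup.inv_mem _ hN) with e | e
  · exact h.ed_cen hy (mul_inv_eq_iff_eq_mul.1 e).symm hw.symm
  · have e1 : a * b * y * a * (a * b * y)⁻¹ = a := by
      calc _ = a * b * (y * a * y⁻¹) * (a * b)⁻¹ := by group
        _ = a := by rw [e, h.caw]
    have := h.ed_cen (mul_mem (mul_mem h.aS h.bS) hy) (mul_inv_eq_iff_eq_mul.1 e1).symm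
      ((h.aw.symm.mul_right h.bw.symm).mul_right hw.symm)
    have := mul_mem (inv_mem (mul_mem h.ed_a h.ed_b)) this
    rwa [inv_mul_cancel_left] at this

/-- Elements of `⟨a, b⟩ D`, `c = a b`. -/
theorem mem_sup : y ∈ closure {a, b} ⊔ D ↔
    ∃ i : ℕ, ∃ d ∈ D, y = (a * b) ^ i * d ∨ y = a * (a * b) ^ i * d := by
  have hc : ∀ (i : ℕ) (d : Γ), d ∈ D → Commute d ((a * b) ^ i) := fun i d hd =>
    ((h.Da d hd).symm.mul_right (h.Db d hd).symm).pow_right i
  have hm : ∀ x y : Γ, (∃ i : ℕ, ∃ d ∈ D, x = (a * b) ^ i * d ∨ x = a * (a * b) ^ i * d) →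
      (∃ i : ℕ, ∃ d ∈ D, y = (a * b) ^ i * d ∨ y = a * (a * b) ^ i * d) →
      (∃ i : ℕ, ∃ d ∈ D, x * y = (a * b) ^ i * d ∨ x * y = a * (a * b) ^ i * d) := by
    rintro x y ⟨i, d, hd, hx⟩ ⟨j, e, he, hy⟩
    have e1 : d * ((a * b) ^ j * e) = (a * b) ^ j * (d * e) := (hc j d hd).left_comm e
    have e2 : (a * b) ^ i * d * (a * (a * b) ^ j * e) = a * (a * b) ^ (3 * i + j) * (d * e) := by
      rw [mul_assoc a, mul_assoc _ d, (h.Da d hd).symm.left_comm, e1, ← mul_assoc, h.ed_pa, pow_add]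
      simp only [mul_assoc]
    rcases hx with rfl | rfl <;> rcases hy with rfl | rfl
    · exact ⟨i + j, d * e, mul_mem hd he, Or.inl (by rw [mul_assoc, e1, pow_add, mul_assoc])⟩
    · exact ⟨3 * i + j, d * e, mul_mem hd he, Or.inr e2⟩
    · exact ⟨i + j, d * e, mul_mem hd he, Or.inr (by
        rw [mul_assoc, e1, pow_add]; simp only [mul_assoc])⟩
    · refine ⟨3 * i + j, d * e, mul_mem hd he, Or.inl ?_⟩
      rw [mul_assoc a, mul_assoc a, e2, mul_assoc a, ← mul_assoc a a, h.aa, one_mul]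
  have h1 : ∃ i : ℕ, ∃ d ∈ D, (1 : Γ) = (a * b) ^ i * d ∨ (1 : Γ) = a * (a * b) ^ i * d :=
    ⟨0, 1, one_mem _, Or.inl (by simp)⟩
  let K : Subgroup Γ :=
    { carrier := {y | ∃ i : ℕ, ∃ d ∈ D, y = (a * b) ^ i * d ∨ y = a * (a * b) ^ i * d}
      mul_mem' := fun hx hy => hm _ _ hx hy
      one_mem' := h1
      inv_mem' := by
        intro x hx
        have e : x⁻¹ = x ^ (orderOf x - 1) := inv_eq_of_mul_eq_one_right (by
          rw [← pow_succ', Nat.sub_add_cancel (orderOf_pos x), pow_orderOf_eq_one])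
        rw [e]
        generalize orderOf x - 1 = n
        induction n with
        | zero => simpa using h1
        | succ n ih => rw [pow_succ]; exact hm _ _ ih hx }
  refine ⟨fun hy => ?_, ?_⟩
  · have : closure {a, b} ⊔ D ≤ K := by
      refine sup_le ((closure_le _).2 ?_) fun d hd => ⟨0, d, hd, Or.inl (by simp)⟩
      rintro x (rfl | rfl)
      · exact ⟨0, 1, one_mem _, Or.inr (by simp)⟩
      · exact ⟨1, 1, one_mem _, Or.inr (by rw [pow_one, mul_one, ← mul_assoc, h.aa, one_mul])⟩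
    exact this hy
  · rintro ⟨i, d, hd, rfl | rfl⟩
    · exact mul_mem (pow_mem (mul_mem h.ed_a h.ed_b) i) (mem_sup_right hd)
    · exact mul_mem (mul_mem h.ed_a (pow_mem (mul_mem h.ed_a h.ed_b) i)) (mem_sup_right hd)

theorem ed_conj (hy : y ∈ closure {a, b} ⊔ D) : y * a * y⁻¹ = a ∨ y * a * y⁻¹ = a * w := by
  have key : ∀ i : ℕ, (a * b) ^ i * a * ((a * b) ^ i)⁻¹ = a ∨ (a * b) ^ i * a * ((a * b) ^ i)⁻¹ = a * w := by
    intro i
    induction i with
    | zero => left; simp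
    | succ i ih =>
      have e : (a * b) ^ (i + 1) * a * ((a * b) ^ (i + 1))⁻¹ =
          a * b * ((a * b) ^ i * a * ((a * b) ^ i)⁻¹) * (a * b)⁻¹ := by
        rw [pow_succ']; simp only [mul_assoc, mul_inv_rev]
      rw [e]
      rcases ih with e1 | e1 <;> rw [e1]
      exacts [Or.inr h.ca, Or.inl h.caw]
  obtain ⟨i, d, hd, rfl | rfl⟩ := h.mem_sup.1 hy
  · have e : (a * b) ^ i * d * a * ((a * b) ^ i * d)⁻¹ = (a * b) ^ i * a * ((a * b) ^ i)⁻¹ := by
      generalize (a * b) ^ i = c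
      rw [mul_assoc c d, (h.Da d hd).symm.eq]; group
    rw [e]; exact key i
  · have e : a * (a * b) ^ i * d * a * (a * (a * b) ^ i * d)⁻¹ = a * ((a * b) ^ i * a * ((a * b) ^ i)⁻¹) * a⁻¹ := by
      generalize (a * b) ^ i = c
      rw [mul_assoc _ d, (h.Da d hd).symm.eq]; group
    rw [e]
    rcases key i with e1 | e1 <;> rw [e1]
    · left; group
    · right; exact ((Commute.refl a).mul_right h.aw).mul_inv_cancel

/-- Let `B₁ = ⟨a, b⟩ D`, `c = a b`. If `Y ≰ B₁`, the `2`-group `Y B₁ > B₁` gives `y ∈ Y ⊓ N(B₁)`, `y ∉ B₁`.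
`v = y a y⁻¹ ∈ B₁` is an involution inverting `c`, so `v = a c ^ i e` (`e ∈ D`), `e² = 1`, and
`(a v)² = w ^ i = 1` by `h2`; so `i` is even and `v` commutes with `a`. For `d ∈ D`, `d v d⁻¹` is the `y`-conjugate of
a `B₁`-conjugate of `a`, so `d v d⁻¹ ∈ {v, v w}`; also `d v d⁻¹ = a c ^ i (d e d⁻¹)`, so `d v d⁻¹ = v` as `w ∉ D`.
Now `mem_of_cent` gives `y ∈ B₁`, a contradiction. Finally an element `a c ^ i d` does not commute with `c`. -/
theorem lemU (hY : Y ≤ S) (hn : S ≤ 𝒩[Y]) (hc : ∀ y ∈ Y, Commute y (a * b))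
    (h2 : ∀ y ∈ Y, (a * y * a⁻¹ * y⁻¹) ^ 2 = 1) (hy : y ∈ Y) : ∃ i : ℕ, ∃ d ∈ D, y = (a * b) ^ i * d := by
  have hcD : ∀ (i : ℕ) (d : Γ), d ∈ D → Commute ((a * b) ^ i) d := fun i d hd =>
    ((h.Da d hd).mul_left (h.Db d hd)).pow_left i
  have hle : Y ≤ closure {a, b} ⊔ D := by
    by_contra hne
    haveI : Fact (Nat.Prime 2) := ⟨Nat.prime_two⟩
    have hlt : closure {a, b} ⊔ D < Y ⊔ (closure {a, b} ⊔ D) :=
      lt_of_le_of_ne le_sup_right fun e => hne (le_sup_left.trans e.ge)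
    obtain ⟨g, hg, hgB, hgN⟩ := Tech.exists_mem_normalizer_of_lt (h.pS.to_le (sup_le hY h.ed_le)) hlt
    obtain ⟨y, hy, x, hx, rfl⟩ := (mem_sup_iff_of_right_le_normalizer (h.ed_le.trans hn)).1 hg
    have hyN : y ∈ 𝒩[closure {a, b} ⊔ D] := by
      simpa using Subgroup.mul_mem _ hgN (Subgroup.inv_mem _ (le_normalizer hx))
    refine hgB (mul_mem ?_ hx)
    have hyc := hc y hy
    have hyw : Commute y w := by rw [← h.cc]; exact hyc.mul_right hyc
    have ia : a⁻¹ = a := inv_eq_of_mul_eq_one_right h.aa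
    have hv : y * a * y⁻¹ ∈ closure {a, b} ⊔ D := (mem_normalizer_iff.1 hyN a).1 h.ed_a
    have hvc : ¬ Commute (y * a * y⁻¹) (a * b) := fun e => by
      apply h.ed_nc
      have := (hyc.inv_left.mul_left e).mul_left hyc
      simpa [mul_assoc] using this
    have hvv : y * a * y⁻¹ * (y * a * y⁻¹) = 1 := by rw [conj_mul, h.aa]; group
    have hq : (a * (y * a * y⁻¹)) ^ 2 = 1 := by
      have := h2 y hy
      rwa [ia, mul_assoc a, mul_assoc a] at this
    have hd2 : ∀ d ∈ D, d * (y * a * y⁻¹) * d⁻¹ = y * a * y⁻¹ ∨ d * (y * a * y⁻¹) * d⁻¹ = y * a * y⁻¹ * w := by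
      intro d hd
      have hd' : y⁻¹ * d * y ∈ closure {a, b} ⊔ D :=
        (mem_normalizer_iff.1 hyN _).2 (by simpa [mul_assoc] using mem_sup_right hd)
      have e0 : d * (y * a * y⁻¹) * d⁻¹ = y * (y⁻¹ * d * y * a * (y⁻¹ * d * y)⁻¹) * y⁻¹ := by group
      rcases h.ed_conj hd' with e | e
      · left; rw [e0, e]
      · right; rw [e0, e, ← conj_mul, hyw.mul_inv_cancel]
    suffices hs : Commute a (y * a * y⁻¹) ∧ ∀ d ∈ D, Commute (y * a * y⁻¹) d from
      h.mem_of_cent (hY hy) hyw hs.1 hs.2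
    generalize y * a * y⁻¹ = v at hv hvc hvv hq hd2
    obtain ⟨i, e, he, rfl | rfl⟩ := h.mem_sup.1 hv
    · exact absurd (((Commute.refl _).pow_left i).mul_left (hcD 1 e he).symm) (by simpa using hvc)
    have hee : e * e = 1 := by
      have e1 : a * (a * b) ^ i * (a * (a * b) ^ i) = 1 := by
        calc a * (a * b) ^ i * (a * (a * b) ^ i) = (a * (a * b) * a⁻¹) ^ i * (a * b) ^ i := by
              rw [conj_pow, ia, mul_assoc _ a]
          _ = 1 := by rw [h.ac, inv_pow, inv_mul_cancel]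
      have e2 : Commute e (a * (a * b) ^ i) := (h.Da e he).symm.mul_right (hcD i e he).symm
      rw [mul_assoc _ e, e2.left_comm, ← mul_assoc, e1, one_mul] at hvv
      exact hvv
    have hwi : w ^ i = 1 := by
      rw [mul_assoc a, ← mul_assoc a a, h.aa, one_mul, (hcD i e he).mul_pow, pow_two e, hee, mul_one,
        ← pow_mul, mul_comm, pow_mul, pow_two, h.cc] at hq
      exact hq
    refine ⟨?_, fun d hd => ?_⟩
    · refine ((Commute.refl a).mul_right ?_).mul_right (h.Da e he)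
      rcases Nat.even_or_odd' i with ⟨j, rfl | rfl⟩
      · rw [pow_mul, pow_two, h.cc]; exact h.aw.pow_right j
      · rw [pow_succ, pow_mul, pow_two, h.ww, one_pow, one_mul] at hwi
        exact absurd hwi h.w1
    · rcases hd2 d hd with e1 | e1
      · exact (mul_inv_eq_iff_eq_mul.1 e1).symm
      · exfalso
        apply h.wD
        have e2 : Commute d (a * (a * b) ^ i) := (h.Da d hd).symm.mul_right (hcD i d hd).symm
        generalize a * (a * b) ^ i = c at e1 e2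
        have e3 : w = e⁻¹ * (d * e * d⁻¹) := by
          calc w = e⁻¹ * c⁻¹ * (c * e * w) := by group
            _ = _ := by rw [← e1, e2.left_comm]; group
        rw [e3]
        exact mul_mem (inv_mem he) (mul_mem (mul_mem hd he) (inv_mem hd))
  obtain ⟨i, d, hd, e | e⟩ := h.mem_sup.1 (hle hy)
  · exact ⟨i, d, hd, e⟩
  · exfalso
    apply h.ed_nc
    have h1 := hc y hy
    rw [e] at h1
    have h3 : Commute d (a * b) := by simpa using (hcD 1 d hd).symm
    have := (h1.mul_left h3.inv_left).mul_left ((Commute.refl (a * b)).pow_left i).inv_left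
    simpa [mul_assoc] using this

end Ed

end CfsgLib.OFP
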