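import Mathlib
import Cfsg.Agent.Lib.OFP.EdB

set_option autoImplicit false
set_option linter.unusedSectionVars false

namespace CfsgLib.OFP

open Subgroup Cfsg CfsgLib.LAE CfsgLib.Push CfsgLib.Blocks CfsgLib.ZJ
open scoped commutatorElement

variable {Γ : Type*} [Group Γ] [Finite Γ]

variable {S D : Subgroup Γ} {a b w t x y : Γ}

/-- The elements of `C_S(w)` normalizing `⟨x⟩` and the coset `a ⟨x⟩`. -/
def Sg (S : Subgroup Γ) (a w x : Γ) : Set Γ :=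
  {y | y ∈ S ∧ Commute y w ∧ y ∈ 𝒩[zpowers x] ∧ a⁻¹ * (y * a * y⁻¹) ∈ zpowers x}

/-- `x` is good. -/
structure Good (S D : Subgroup Γ) (a b w x : Γ) : Prop where
  xS : x ∈ S
  ax : a * x * a⁻¹ = x⁻¹
  cx : a * b ∈ zpowers x
  DS : ∀ d ∈ D, d ∈ Sg S a w x
  ex : ∃ σ ∈ Sg S a w x, σ * a * σ⁻¹ = a * x

theorem end1_conj_mem {H : Subgroup Γ} {g u : Γ} (hg : g ∈ 𝒩[H]) (hu : u ∈ H) : g * u * g⁻¹ ∈ H :=
  (mem_normalizer_iff.1 hg u).1 hu

theorem end1_conj_mem' {H : Subgroup Γ} {g u : Γ} (hg : g ∈ 𝒩[H]) (hu : u ∈ H) : g⁻¹ * u * g ∈ H := by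
  simpa using end1_conj_mem (inv_mem hg) hu

theorem end1_norm_zpowers {g u : Γ} (h : g * u * g⁻¹ ∈ zpowers u) : g ∈ 𝒩[zpowers u] := by
  refine mem_normalizer_fintype fun n hn => ?_
  obtain ⟨k, rfl⟩ := mem_zpowers_iff.1 hn
  rw [← conj_zpow]
  exact zpow_mem h k

/-- A cyclic group has at most one involution. -/
theorem end1_inv_unique {u z : Γ} (hu : u ∈ zpowers x) (hz : z ∈ zpowers x) (uu : u * u = 1) (zz : z * z = 1)
    (z1 : z ≠ 1) : u = 1 ∨ u = z := by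
  classical
  have := Fintype.ofFinite (zpowers x)
  by_contra hc
  push Not at hc
  have hle := IsCyclic.card_pow_eq_one_le (α := zpowers x) (n := 2) (by norm_num)
  have hsub : ({1, ⟨u, hu⟩, ⟨z, hz⟩} : Finset (zpowers x)) ⊆ Finset.univ.filter (fun a : zpowers x => a ^ 2 = 1) := by
    intro a ha
    simp only [Finset.mem_insert, Finset.mem_singleton] at ha
    rcases ha with rfl | rfl | rfl
    · simp
    · simp [pow_two, Subtype.ext_iff, uu]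
    · simp [pow_two, Subtype.ext_iff, zz]
  have h3 : ({1, ⟨u, hu⟩, ⟨z, hz⟩} : Finset (zpowers x)).card = 3 := by
    rw [Finset.card_eq_three]
    refine ⟨_, _, _, ?_, ?_, ?_, rfl⟩
    · simpa [Subtype.ext_iff] using hc.1.symm
    · simpa [Subtype.ext_iff] using z1.symm
    · simpa [Subtype.ext_iff] using hc.2
  have := Finset.card_le_card hsub
  omega

theorem end1_comm {u z : Γ} (hu : u ∈ zpowers x) (hz : z ∈ zpowers x) : Commute u z := by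
  obtain ⟨k, rfl⟩ := mem_zpowers_iff.1 hu
  obtain ⟨l, rfl⟩ := mem_zpowers_iff.1 hz
  exact Commute.zpow_zpow_self x k l

/-- An odd number is invertible modulo the order of a `2`-element. -/
theorem end1_odd_inv (h : Two x) {k : ℤ} (hk : Odd k) : ∃ m : ℤ, x ^ (k * m) = x := by
  obtain ⟨n, hn⟩ := h
  have hc : IsCoprime k ((2 : ℤ) ^ n) := by
    apply IsCoprime.pow_right
    obtain ⟨l, rfl⟩ := hk
    exact ⟨1, -l, by ring⟩
  obtain ⟨m, l, hml⟩ := hc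
  refine ⟨m, ?_⟩
  have h1 : x ^ ((2 : ℤ) ^ n) = 1 := by exact_mod_cast hn
  have : k * m = 1 + (2 : ℤ) ^ n * (-l) := by linear_combination hml
  rw [this, zpow_add, zpow_mul, h1, one_zpow, mul_one, zpow_one]

theorem end1_exists_norm {L C : Subgroup Γ} (hC : IsPGroup 2 C) (hLC : L ≤ C) (hne : ¬ C ≤ L) :
    ∃ y ∈ C, y ∈ 𝒩[L] ∧ y ∉ L ∧ y * y ∈ L := by
  classical
  have : Fact (Nat.Prime 2) := ⟨Nat.prime_two⟩
  have := hC.isNilpotent
  have hnc : NormalizerCondition C := Group.normalizerCondition_of_isNilpotent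
  have hlt : L.subgroupOf C < ⊤ := by
    refine lt_top_iff_ne_top.2 fun h => hne ?_
    exact subgroupOf_eq_top.1 h
  obtain ⟨y₀, hy₀, hy₀L⟩ := SetLike.exists_of_lt (hnc _ hlt)
  have hn : (y₀ : Γ) ∈ 𝒩[L] := by
    refine mem_normalizer_fintype fun n hn => ?_
    have := (mem_normalizer_iff.1 hy₀ ⟨n, hLC hn⟩).1 (mem_subgroupOf.2 hn)
    exact mem_subgroupOf.1 this
  have hex : ∃ n : ℕ, (y₀ : Γ) ^ 2 ^ n ∈ L := by
    obtain ⟨n, hn⟩ := hC y₀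
    refine ⟨n, ?_⟩
    have : (y₀ : Γ) ^ 2 ^ n = 1 := by exact_mod_cast congrArg Subtype.val hn
    rw [this]; exact one_mem _
  have h0 : Nat.find hex ≠ 0 := by
    intro h0
    have := Nat.find_spec hex
    rw [h0] at this
    exact hy₀L (mem_subgroupOf.2 (by simpa using this))
  obtain ⟨n, hn'⟩ := Nat.exists_eq_succ_of_ne_zero h0
  refine ⟨(y₀ : Γ) ^ 2 ^ n, pow_mem y₀.2 _, pow_mem hn _, Nat.find_min hex (by omega), ?_⟩
  have := Nat.find_spec hex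
  rw [hn', pow_succ, pow_mul, pow_two] at this
  exact this

theorem exists_Sg (S : Subgroup Γ) (a w x : Γ) : ∃ L : Subgroup Γ, (L : Set Γ) = Sg S a w x := by
  refine ⟨⟨⟨⟨Sg S a w x, fun {y z} hy hz =>
    ⟨mul_mem hy.1 hz.1, hy.2.1.mul_left hz.2.1, mul_mem hy.2.2.1 hz.2.2.1, ?_⟩⟩,
    ⟨one_mem _, Commute.one_left _, one_mem _, by simp⟩⟩,
    fun {y} hy => ⟨inv_mem hy.1, hy.2.1.inv_left, inv_mem hy.2.2.1, ?_⟩⟩, rfl⟩
  · have := mul_mem hy.2.2.2 (end1_conj_mem hy.2.2.1 hz.2.2.2)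
    convert this using 1
    group
  · have := end1_conj_mem' hy.2.2.1 (inv_mem hy.2.2.2)
    convert this using 1
    group

theorem Ed.good (h : Ed S D a b w t) : Good S D a b w (a * b) := by
  have ia : a⁻¹ = a := inv_eq_of_mul_eq_one_right h.aa
  refine ⟨mul_mem h.aS h.bS, h.ac, mem_zpowers _, fun d hd => ⟨h.DS hd, (h.Dw hd).symm, ?_, ?_⟩,
    t, ⟨h.tS, ?_, ?_, ?_⟩, ?_⟩
  · apply end1_norm_zpowers
    rw [← ((h.Da d hd).mul_left (h.Db d hd)).eq, mul_inv_cancel_right]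
    exact mem_zpowers _
  · rw [← (h.Da d hd).eq, mul_inv_cancel_right, inv_mul_cancel]
    exact one_mem _
  · have := h.tw
    rw [mul_inv_eq_iff_eq_mul] at this
    exact this
  · apply end1_norm_zpowers
    rcases h.tc with e | e <;> rw [e]
    exacts [mem_zpowers _, inv_mem (mem_zpowers _)]
  · rw [h.ta, ia]
    exact mem_zpowers _
  · rw [h.ta, ← mul_assoc, h.aa, one_mul]

theorem Good.w_mem (h : Ed S D a b w t) (hx : Good S D a b w x) : w ∈ zpowers x := by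
  rw [← h.cc]
  exact mul_mem hx.cx hx.cx

theorem Good.a_mem (h : Ed S D a b w t) (hx : Good S D a b w x) : a ∈ Sg S a w x := by
  refine ⟨h.aS, h.aw, end1_norm_zpowers ?_, ?_⟩
  · rw [hx.ax]; exact inv_mem (mem_zpowers _)
  · simp

theorem Good.x_mem (h : Ed S D a b w t) (hx : Good S D a b w x) : x ∈ Sg S a w x := by
  have ia : a⁻¹ = a := inv_eq_of_mul_eq_one_right h.aa
  refine ⟨hx.xS, end1_comm (mem_zpowers _) (hx.w_mem h), le_normalizer (mem_zpowers _), ?_⟩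
  have e : a⁻¹ * (x * a * x⁻¹) = (a * x * a⁻¹) * x⁻¹ := by rw [ia]; group
  rw [e, hx.ax]
  exact mul_mem (inv_mem (mem_zpowers _)) (inv_mem (mem_zpowers _))

theorem Good.x_ne (h : Ed S D a b w t) (hx : Good S D a b w x) : x ≠ 1 := by
  rintro rfl
  have := hx.w_mem h
  rw [zpowers_one_eq_bot, mem_bot] at this
  exact h.w1 this

/-- `Σ` normalizes `⟨a b⟩`. -/
theorem Good.conj_c (h : Ed S D a b w t) (hx : Good S D a b w x) (hy : y ∈ Sg S a w x) :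
    y * (a * b) * y⁻¹ = a * b ∨ y * (a * b) * y⁻¹ = (a * b)⁻¹ := by
  have h1 : y * (a * b) * y⁻¹ ∈ zpowers x := end1_conj_mem hy.2.2.1 hx.cx
  have hc : Commute (a * b)⁻¹ (y * (a * b) * y⁻¹) := end1_comm (inv_mem hx.cx) h1
  have e1 : y * (a * b) * y⁻¹ * (y * (a * b) * y⁻¹) = w := by
    have : y * (a * b) * y⁻¹ * (y * (a * b) * y⁻¹) = y * (a * b * (a * b)) * y⁻¹ := by group
    rw [this, h.cc, hy.2.1.eq, mul_inv_cancel_right]
  have e2 : (a * b)⁻¹ * (y * (a * b) * y⁻¹) * ((a * b)⁻¹ * (y * (a * b) * y⁻¹)) = 1 := by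
    rw [hc.symm.mul_mul_mul_comm, e1, ← mul_inv_rev, h.cc, inv_mul_cancel]
  rcases end1_inv_unique (mul_mem (inv_mem hx.cx) h1) (hx.w_mem h) e2 h.ww h.w1 with e | e
  · left
    exact (inv_mul_eq_one.1 e).symm
  · right
    rw [h.inv_c]
    exact inv_mul_eq_iff_eq_mul.1 e

/-- Case `i` odd: `g = a v`, `g² = x ^ i` generates `⟨x⟩` and `g ≠ 1` is a `2`-element, so `|g| = 2 |x|`;
`a g a⁻¹ = v a = g⁻¹`; `y a y⁻¹ = a g`; `y g y⁻¹ = v (y² a y⁻²) ∈ v a ⟨x⟩ ≤ ⟨g⟩`, so `y` normalizes `⟨g⟩` and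
`⟨x⟩ = ⟨g²⟩`; for `d ∈ D`, `y⁻¹ d y ∈ Σ` gives `d v d⁻¹ ∈ v ⟨x⟩`, so `d g d⁻¹ ∈ ⟨g⟩`. -/
theorem Good.odd (h : Ed S D a b w t) (hx : Good S D a b w x) {L : Subgroup Γ} (hL : (L : Set Γ) = Sg S a w x)
    (hy : y ∈ S) (hw : Commute y w) (hn : y ∈ 𝒩[L]) (h2 : y * y ∈ L) {i : ℤ} (hi : Odd i)
    (e : y * a * y⁻¹ * a * (y * a * y⁻¹)⁻¹ = a * x ^ i) :
    Good S D a b w (a * (y * a * y⁻¹)) ∧ orderOf x < orderOf (a * (y * a * y⁻¹)) := by
  have mL : ∀ {z : Γ}, z ∈ L ↔ z ∈ Sg S a w x := fun {z} => by rw [← hL]; rfl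
  have ia : a⁻¹ = a := inv_eq_of_mul_eq_one_right h.aa
  set v := y * a * y⁻¹ with hv
  have vv : v * v = 1 := by
    have : v * v = y * (a * a) * y⁻¹ := by rw [hv]; group
    rw [this, h.aa]; group
  have iv : v⁻¹ = v := inv_eq_of_mul_eq_one_right vv
  have gS : a * v ∈ S := mul_mem h.aS (mul_mem (mul_mem hy h.aS) (inv_mem hy))
  have gg : a * v * (a * v) = x ^ i := by
    have : a * v * (a * v) = a * (v * a * v⁻¹) := by rw [iv]; group
    rw [this, e, ← mul_assoc, h.aa, one_mul]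
  have x2 : Two x := two_of_mem h.pS hx.xS
  obtain ⟨m, hm⟩ := end1_odd_inv x2 hi
  have xg : x = (a * v * (a * v)) ^ m := by rw [gg, ← zpow_mul, hm]
  have xle : zpowers x ≤ zpowers (a * v) := by
    rw [zpowers_le, xg]
    exact zpow_mem (mul_mem (mem_zpowers _) (mem_zpowers _)) _
  have ig : (a * v)⁻¹ = v * a := by rw [mul_inv_rev, ia, iv]
  have yg : y * (a * v) * y⁻¹ ∈ zpowers (a * v) := by
    have e1 : y * (a * v) * y⁻¹ = (a * v)⁻¹ * (a⁻¹ * (y * y * a * (y * y)⁻¹)) := by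
      rw [ig, hv]; group
    rw [e1]
    exact mul_mem (inv_mem (mem_zpowers _)) (xle (mL.1 h2).2.2.2)
  have yN : y ∈ 𝒩[zpowers (a * v)] := end1_norm_zpowers yg
  refine ⟨⟨gS, ?_, xle hx.cx, fun d hd => ⟨h.DS hd, (h.Dw hd).symm, end1_norm_zpowers ?_, ?_⟩,
    y, ⟨hy, hw, yN, ?_⟩, ?_⟩, ?_⟩
  · rw [ig, ← mul_assoc, h.aa, one_mul, ia]
  · have h1 : y⁻¹ * d * y ∈ Sg S a w x := mL.1 (end1_conj_mem' hn (mL.2 (hx.DS d hd)))
    have h3 := end1_conj_mem yN (xle h1.2.2.2)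
    have e1 : d * (a * v) * d⁻¹ =
        a * v * (y * (a⁻¹ * (y⁻¹ * d * y * a * (y⁻¹ * d * y)⁻¹)) * y⁻¹) := by
      rw [← mul_assoc d, ← (h.Da d hd).eq, hv]; group
    rw [e1]
    exact mul_mem (mem_zpowers _) h3
  · rw [← (h.Da d hd).eq, mul_inv_cancel_right, inv_mul_cancel]
    exact one_mem _
  · rw [ia]; exact mem_zpowers _
  · rw [← mul_assoc, h.aa, one_mul]
  · have g1 : a * v ≠ 1 := by
      intro g1
      apply hx.x_ne h
      rw [xg, g1]; simp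
    obtain ⟨n, hn⟩ := two_of_mem h.pS gS
    have hd : 2 ∣ orderOf (a * v) := by
      obtain ⟨k, -, hk⟩ := (Nat.dvd_prime_pow Nat.prime_two).1 (orderOf_dvd_of_pow_eq_one hn)
      rcases k with _ | k
      · exact absurd (orderOf_eq_one_iff.1 (by simpa using hk)) g1
      · rw [hk]; exact dvd_pow_self 2 (by omega)
    have h3 : orderOf x ∣ orderOf ((a * v) ^ 2) := by
      rw [xg, ← pow_two]
      exact orderOf_dvd_of_mem_zpowers (zpow_mem (mem_zpowers _) _)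
    rw [orderOf_pow_of_dvd two_ne_zero hd] at h3
    have hp : 0 < orderOf (a * v) := orderOf_pos _
    have h4 : 0 < orderOf (a * v) / 2 := Nat.div_pos (Nat.le_of_dvd hp hd) two_pos
    have := Nat.le_of_dvd h4 h3
    omega

/-- `c = a b`; `Σ = L` normalizes `⟨c⟩` (the subgroup of order `4` of `⟨x⟩`), `a, b, x, w ∈ Σ`, `D ≤ Σ`.
For any `y' ∈ C_S(w) ⊓ N(Σ)`, `c' = y' c y'⁻¹ ∈ Σ` has `c'² = w` and `a c' a⁻¹ ∈ {c', c' w}`; if `c'` commutes with `a`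
then `c' = u d` (`cQ`), `w = c'² = d² ∈ D`, false. With `y' = y⁻¹`: `v = y a y⁻¹ ∈ Σ` does not centralize, so inverts,
`c`. -/
theorem Good.inverts (h : Ed S D a b w t) (hx : Good S D a b w x) {L : Subgroup Γ}
    (hL : (L : Set Γ) = Sg S a w x) (hy : y ∈ S) (hw : Commute y w) (hn : y ∈ 𝒩[L]) :
    y * a * y⁻¹ * (a * b) * (y * a * y⁻¹)⁻¹ = (a * b)⁻¹ := by
  have mL : ∀ {z : Γ}, z ∈ L ↔ z ∈ Sg S a w x := fun {z} => by rw [← hL]; rfl
  have hv : y * a * y⁻¹ ∈ Sg S a w x := mL.1 (end1_conj_mem hn (mL.2 (hx.a_mem h)))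
  refine (hx.conj_c h hv).resolve_left fun e => h.wD ?_
  have cS : y⁻¹ * (a * b) * y ∈ S := mul_mem (mul_mem (inv_mem hy) (mul_mem h.aS h.bS)) hy
  have cc : y⁻¹ * (a * b) * y * (y⁻¹ * (a * b) * y) = w := by
    have : y⁻¹ * (a * b) * y * (y⁻¹ * (a * b) * y) = y⁻¹ * (a * b * (a * b)) * y := by group
    rw [this, h.cc, mul_assoc, ← hw.eq, inv_mul_cancel_left]
  have ca : Commute a (y⁻¹ * (a * b) * y) := by
    have : a * (y⁻¹ * (a * b) * y) = y⁻¹ * (y * a * y⁻¹ * (a * b) * (y * a * y⁻¹)⁻¹) * y * a := by group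
    rw [commute_iff_eq, this, e]
  have cw : Commute w (y⁻¹ * (a * b) * y) := by
    rw [← cc]
    exact (Commute.refl _).mul_left (Commute.refl _)
  obtain ⟨u, hu, d, hd, e1⟩ := h.cQ _ cS ca cw
  have ud : Commute u d ∧ u * u = 1 := by
    rcases (mem_WW h.aa h.ww h.aw).1 hu with rfl | rfl | rfl | rfl
    · simp
    · exact ⟨h.Da d hd, h.aa⟩
    · exact ⟨h.Dw hd, h.ww⟩
    · exact ⟨(h.Da d hd).mul_left (h.Dw hd), by rw [h.aw.symm.mul_mul_mul_comm, h.aa, h.ww, one_mul]⟩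
  rw [← cc, e1, ud.1.symm.mul_mul_mul_comm, ud.2, one_mul]
  exact mul_mem hd hd

/-- Case `i = 2 j`: `v x v⁻¹ = x ^ ε` with `ε ≡ 3 (mod 4)` (`inverts`), `v (a x ^ m) v⁻¹ = a x ^ (2 j + ε m)`; as
`(1 - ε) / 2` is odd and `x` is a `2`-element there is `m` with `v` centralizing `a x ^ m = s⁻¹ a s`, `s ∈ Σ`
(`Σ` is transitive on `a ⟨x⟩`: `x ^ (-l) a x ^ l = a x ^ (2 l)`, `x ^ (-l) (a x) x ^ l = a x ^ (2 l + 1)`). Replace
`y` by `y' = s y`: `v' = y' a y'⁻¹` commutes with `a`, `v' = u e` (`cQ`). For `d ∈ D`: `d v' d⁻¹ v'⁻¹ ∈ D`, and it lies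
in `y' ⟨x⟩ y'⁻¹` (as `y'⁻¹ d y' ∈ Σ`), a cyclic `2`-group whose only involution is `w ∉ D`; so it is trivial.
`mem_of_cent` gives `y' ∈ ⟨a, b⟩ D ≤ Σ`. -/
theorem Good.even (h : Ed S D a b w t) (hx : Good S D a b w x) {L : Subgroup Γ} (hL : (L : Set Γ) = Sg S a w x)
    (hy : y ∈ S) (hw : Commute y w) (hn : y ∈ 𝒩[L]) {i : ℤ} (hi : Even i)
    (e : y * a * y⁻¹ * a * (y * a * y⁻¹)⁻¹ = a * x ^ i) : y ∈ L := by
  have mL : ∀ {z : Γ}, z ∈ L ↔ z ∈ Sg S a w x := fun {z} => by rw [← hL]; rfl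
  have ia : a⁻¹ = a := inv_eq_of_mul_eq_one_right h.aa
  have aL : a ∈ L := mL.2 (hx.a_mem h)
  have xL : x ∈ L := mL.2 (hx.x_mem h)
  have LS : L ≤ S := fun z hz => (mL.1 hz).1
  have hinv := hx.inverts h hL hy hw hn
  set v := y * a * y⁻¹ with hv
  have vL : v ∈ L := end1_conj_mem hn aL
  obtain ⟨ε, hε⟩ := mem_zpowers_iff.1 (end1_conj_mem (mL.1 vL).2.2.1 (mem_zpowers x))
  obtain ⟨n, hn'⟩ := mem_zpowers_iff.1 hx.cx
  -- `ε ≡ 3 (mod 4)`
  have hc : (a * b) ^ (ε + 1) = 1 := by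
    have e1 : v * (a * b) * v⁻¹ = (a * b) ^ ε := by
      rw [← hn', ← conj_zpow, ← hε, ← zpow_mul, ← zpow_mul, mul_comm]
    rw [zpow_add_one, ← e1, hinv, inv_mul_cancel]
  have o4 : orderOf (a * b) = 4 := by
    have : Fact (Nat.Prime 2) := ⟨Nat.prime_two⟩
    refine orderOf_eq_prime_pow (p := 2) (n := 1) ?_ ?_
    · rw [pow_one, pow_two, h.cc]; exact h.w1
    · rw [show 2 ^ (1 + 1) = 2 * 2 by norm_num, pow_mul, pow_two (a * b), h.cc, pow_two, h.ww]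
  have h4 : (4 : ℤ) ∣ ε + 1 := by
    have := orderOf_dvd_iff_zpow_eq_one.2 hc
    rw [o4] at this
    exact_mod_cast this
  obtain ⟨l, hl⟩ := h4
  obtain ⟨j, hj⟩ := hi
  obtain ⟨m₀, hm₀⟩ := end1_odd_inv (two_of_mem h.pS hx.xS) (k := 1 - 2 * l) ⟨-l, by ring⟩
  -- `v` centralizes `a x ^ m`
  have hm : v * (a * x ^ (m₀ * j)) * v⁻¹ = a * x ^ (m₀ * j) := by
    have e1 : v * (a * x ^ (m₀ * j)) * v⁻¹ = v * a * v⁻¹ * (v * x * v⁻¹) ^ (m₀ * j) := by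
      rw [conj_zpow]; group
    have e2 : x ^ i = x ^ ((1 - 2 * l) * m₀ * i) := by rw [zpow_mul, hm₀]
    rw [e1, e, ← hε, ← zpow_mul, mul_assoc, e2, ← zpow_add]
    congr 2
    have : ε = 4 * l - 1 := by omega
    rw [this, hj]
    ring
  -- transitivity on `a ⟨x⟩`
  have htr : ∀ m : ℤ, ∃ s ∈ L, s * a * s⁻¹ = a * x ^ m := by
    intro m
    have e0 : ∀ k : ℤ, x ^ (-k) * a = a * x ^ k := by
      intro k
      have : a * x ^ k * a⁻¹ = x ^ (-k) := by rw [← conj_zpow, hx.ax, inv_zpow']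
      rw [← this]; group
    rcases Int.even_or_odd' m with ⟨k, rfl | rfl⟩
    · refine ⟨x ^ (-k), zpow_mem xL _, ?_⟩
      rw [e0]; group
    · obtain ⟨σ, hσ, eσ⟩ := hx.ex
      refine ⟨x ^ (-k) * σ, mul_mem (zpow_mem xL _) (mL.2 hσ), ?_⟩
      have : x ^ (-k) * σ * a * (x ^ (-k) * σ)⁻¹ = x ^ (-k) * (σ * a * σ⁻¹) * (x ^ (-k))⁻¹ := by group
      rw [this, eσ, ← mul_assoc, e0]; group
  obtain ⟨s, sL, hs⟩ := htr (m₀ * j)
  have y'S : s⁻¹ * y ∈ S := mul_mem (inv_mem (LS sL)) hy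
  have y'w : Commute (s⁻¹ * y) w := (mL.1 sL).2.1.inv_left.mul_left hw
  have y'n : s⁻¹ * y ∈ 𝒩[L] := mul_mem (inv_mem (le_normalizer sL)) hn
  have ca : Commute a (s⁻¹ * y * a * (s⁻¹ * y)⁻¹) := by
    rw [← hs] at hm
    have e1 : s⁻¹ * y * a * (s⁻¹ * y)⁻¹ * a = s⁻¹ * (v * (s * a * s⁻¹) * v⁻¹) * v * s := by rw [hv]; group
    rw [commute_iff_eq, e1, hm, hv]
    group
  set y' := s⁻¹ * y with hy'
  have v'L : y' * a * y'⁻¹ ∈ L := end1_conj_mem y'n aL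
  obtain ⟨u, hu, f, hf, e1⟩ := h.cQ _ (LS v'L) ca (mL.1 v'L).2.1.symm
  have hD : ∀ d ∈ D, Commute (y' * a * y'⁻¹) d := by
    intro d hd
    have ud : ∀ d ∈ D, Commute u d := by
      intro d hd
      rcases (mem_WW h.aa h.ww h.aw).1 hu with rfl | rfl | rfl | rfl
      · simp
      · exact h.Da d hd
      · exact h.Dw hd
      · exact (h.Da d hd).mul_left (h.Dw hd)
    have qD : (y' * a * y'⁻¹)⁻¹ * (d * (y' * a * y'⁻¹) * d⁻¹) ∈ D := by
      have : (u * f)⁻¹ * (d * (u * f) * d⁻¹) = f⁻¹ * (d * f * d⁻¹) := by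
        rw [← mul_assoc d u f, ← (ud d hd).eq]; group
      rw [e1, this]
      exact mul_mem (inv_mem hf) (mul_mem (mul_mem hd hf) (inv_mem hd))
    have h1 := (mL.1 (end1_conj_mem' y'n (mL.2 (hx.DS d hd)))).2.2.2
    have e2 : (y' * a * y'⁻¹)⁻¹ * (d * (y' * a * y'⁻¹) * d⁻¹) =
        y' * (a⁻¹ * (y'⁻¹ * d * y' * a * (y'⁻¹ * d * y')⁻¹)) * y'⁻¹ := by group
    set z := a⁻¹ * (y'⁻¹ * d * y' * a * (y'⁻¹ * d * y')⁻¹) with hz
    have z1 : z = 1 := by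
      by_contra z1
      have zS : z ∈ S := (zpowers_le.2 hx.xS) h1
      obtain ⟨k, hk1, hk2⟩ := (two_of_mem h.pS zS).exists_inv z1
      have hk := (end1_inv_unique (pow_mem h1 k) (hx.w_mem h) hk2 h.ww h.w1).resolve_left hk1
      apply h.wD
      have := pow_mem qD k
      rwa [e2, conj_pow, hk, y'w.eq, mul_inv_cancel_right] at this
    rw [z1, mul_one, mul_inv_cancel, inv_mul_eq_one, eq_mul_inv_iff_mul_eq] at e2
    exact e2
  have hmem := h.mem_of_cent y'S y'w ca hD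
  have hle : closure {a, b} ⊔ D ≤ L := by
    refine sup_le ((closure_le _).2 ?_) fun d hd => mL.2 (hx.DS d hd)
    rintro z (rfl | rfl)
    · exact aL
    · have := mul_mem aL (zpowers_le.2 xL hx.cx)
      rwa [← mul_assoc, h.aa, one_mul] at this
  have := mul_mem sL (hle hmem)
  rwa [hy', mul_inv_cancel_left] at this

/-- Take a good `x` of maximal order, `Σ = L ≤ C = C_S(w)`. If `Σ < C` there is `y ∈ N_C(Σ) \ Σ` with `y² ∈ Σ`;
`v = y a y⁻¹ ∈ Σ`, so `v a v⁻¹ = a x ^ i`; `Good.odd`, `Good.even`. So `C` normalizes `⟨x⟩`, and `⟨c⟩`. -/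
theorem Ed.norm_c (h : Ed S D a b w t) (hy : y ∈ S) (hw : Commute y w) :
    y * (a * b) * y⁻¹ = a * b ∨ y * (a * b) * y⁻¹ = (a * b)⁻¹ := by
  obtain ⟨x, hx, hmax⟩ := Set.exists_max_image {x | Good S D a b w x} orderOf (Set.toFinite _) ⟨_, h.good⟩
  obtain ⟨L, hL⟩ := exists_Sg S a w x
  have mL : ∀ {z : Γ}, z ∈ L ↔ z ∈ Sg S a w x := fun {z} => by rw [← hL]; rfl
  have mC : ∀ {z : Γ}, z ∈ S ⊓ centralizer {w} ↔ z ∈ S ∧ Commute z w := fun {z} => by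
    rw [mem_inf, mem_centralizer_singleton_iff]; rfl
  have hCL : S ⊓ centralizer {w} ≤ L := by
    by_contra hne
    obtain ⟨z, hz, hn, hzL, h2⟩ := end1_exists_norm (h.pS.to_le inf_le_left)
      (fun z hz => mC.2 ⟨(mL.1 hz).1, (mL.1 hz).2.1⟩) hne
    obtain ⟨zS, zw⟩ := mC.1 hz
    have vL := mL.1 (end1_conj_mem hn (mL.2 (Good.a_mem h hx)))
    obtain ⟨i, hi⟩ := mem_zpowers_iff.1 vL.2.2.2
    have e : z * a * z⁻¹ * a * (z * a * z⁻¹)⁻¹ = a * x ^ i := by rw [hi, mul_inv_cancel_left]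
    rcases Int.even_or_odd i with hi | hi
    · exact hzL (Good.even h hx hL zS zw hn hi e)
    · obtain ⟨g1, g2⟩ := Good.odd h hx hL zS zw hn h2 hi e
      exact absurd (hmax _ g1) (not_le.2 g2)
  exact Good.conj_c h hx (mL.1 (hCL (mC.2 ⟨hy, hw⟩)))

end CfsgLib.OFP
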