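import Mathlib
import Cfsg.Agent.Lib.OFP.Bas2
import Cfsg.Agent.Lib.OFP.Blk

set_option autoImplicit false
set_option linter.unusedSectionVars false

namespace CfsgLib.OFP

open Subgroup Cfsg CfsgLib.LAE CfsgLib.Push CfsgLib.Blocks CfsgLib.ZJ
open scoped commutatorElement

variable {Γ : Type*} [Group Γ] [Finite Γ]

variable {S B Q H : Subgroup Γ} {a w k b t u x : Γ}

theorem Sm.bau_B (h : Sm B Q a w k b) (hm : HM B) : bau 2 B = B :=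
  hm Q B (h.pB.to_le h.QB) h.nacQ h.pB le_rfl h.QN

/-- Let `T ≥ B` be Sylow in `H C(Q) ≤ N(Q)`. `HM` (with `nacQ`) gives `bau T = B`; `exists_cent_mul`. If
`B ^ g ≤ H`, some `y = t c ∈ H C(Q) = T C(Q)` conjugates `B ^ g` into `T`, so onto `B` (`wc0`), and `t ∈ N(B)`. -/
theorem Sm.wca (h : Sm B Q a w k b) (hm : HM B) (hH : H ≤ 𝒩[Q]) (hB : B ≤ H) (h2 : ∀ x ∈ H, P2 Q x) :
    (∀ x ∈ H, ∃ c ∈ 𝒞[Q], ∃ s ∈ 𝒩[B], x = c * s) ∧
      ∀ g : Γ, conjS g B ≤ H → ∃ c ∈ 𝒞[Q], conjS c (conjS g B) = B := by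
  obtain ⟨T, hT, hBT⟩ := exists_isSylowIn_ge h.pB (hB.trans (le_sup_left (b := 𝒞[Q])))
  have hN : H ⊔ 𝒞[Q] ≤ 𝒩[Q] := sup_le hH (centralizer_le_normalizer _)
  have hb : bau 2 T = B := hm Q T (h.pB.to_le h.QB) h.nacQ hT.isPGroup hBT (hT.le.trans hN)
  have hTB : T ≤ 𝒩[B] := hb ▸ le_normalizer_bau T
  refine ⟨fun x hx => ?_, fun g hg => ?_⟩
  · obtain ⟨c, hc, s, hs, e⟩ := exists_cent_mul hH h2 hT (mem_sup_left hx)
    exact ⟨c, hc, s, hTB hs, e⟩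
  · obtain ⟨y, hy, hle⟩ := hT.exists_conj_le (isPGroup_conjS h.pB g) (hg.trans le_sup_left)
    obtain ⟨c, hc, s, hs, e⟩ := exists_cent_mul hH h2 hT (inv_mem hy)
    rw [← conjS_mul] at hle
    have h1 := wc0 hb hle
    refine ⟨c⁻¹, inv_mem hc, ?_⟩
    have e' : c⁻¹ = s * y := by
      rw [← inv_inv y, e]; group
    rw [e', conjS_mul, ← conjS_mul y, h1, mem_normalizer_iff_conjS.1 (hTB hs)]

/-- Let `T ≥ B` be Sylow in `B C(Q)`; `bau T = B`. `zj T ≤ B` is centralized by `B`, so it commutes with `a` and lies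
in `Q`. Hence `T ⊓ C(Q) ≤ bau T = B` and, commuting with `a`, `T ⊓ C(Q) ≤ Q`. It is Sylow in `C(Q)` and central in
it. -/
theorem Sm.cen2 (h : Sm B Q a w k b) (hm : HM B) (hx : x ∈ 𝒞[Q]) (h2 : Two x) : x ∈ Q := by
  obtain ⟨T, hT, hBT⟩ := exists_isSylowIn_ge h.pB (le_sup_left (b := 𝒞[Q]))
  have hN : B ⊔ 𝒞[Q] ≤ 𝒩[Q] := sup_le h.QN (centralizer_le_normalizer _)
  have hb : bau 2 T = B := hm Q T (h.pB.to_le h.QB) h.nacQ hT.isPGroup hBT (hT.le.trans hN)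
  have hz : zj 2 T ≤ Q := fun z hz =>
    h.mem_Q (hb ▸ zj_le_bau T hz) (bau_le_centralizer T (hb ▸ h.QB h.aQ) z hz)
  have h1 : T ⊓ 𝒞[Q] ≤ Q := fun y hy =>
    h.mem_Q (hb ▸ ⟨hy.1, centralizer_anti hz hy.2⟩) (hy.2 a h.aQ).symm
  have h3 := hT.inf_centralizer (hT.le.trans hN)
  rw [inf_eq_right.2 (le_sup_right (a := B))] at h3
  exact h1 (h3.le_of_normalizes h2.isPGroup (zpowers_le.2 hx)
    (zpowers_le.2 (centralizer_le_normalizer _ (centralizer_anti h1 hx))) (mem_zpowers x))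

/-- The elements of `N(Q) ⊓ C(W)` acting trivially on `Q / W`. -/
def wcaU (Q : Subgroup Γ) (a w : Γ) : Subgroup Γ where
  carrier := {u | u ∈ 𝒩[Q] ∧ u ∈ 𝒞[WW a w] ∧ ∀ x ∈ Q, ⁅u, x⁆ ∈ WW a w}
  one_mem' := ⟨one_mem _, one_mem _, fun x _ => by rw [commutatorElement_one_left]; exact one_mem _⟩
  mul_mem' := by
    rintro u v ⟨h1, h2, h3⟩ ⟨k1, k2, k3⟩
    refine ⟨mul_mem h1 k1, mul_mem h2 k2, fun x hx => ?_⟩
    have e : ⁅u * v, x⁆ = (u * ⁅v, x⁆) * u⁻¹ * ⁅u, x⁆ := by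
      simp only [commutatorElement_def]; group
    rw [e, ← h2 _ (k3 x hx), mul_inv_cancel_right]
    exact mul_mem (k3 x hx) (h3 x hx)
  inv_mem' := by
    rintro u ⟨h1, h2, h3⟩
    refine ⟨inv_mem h1, inv_mem h2, fun x hx => ?_⟩
    have e : ⁅u⁻¹, x⁆ = u⁻¹ * (⁅u, x⁆⁻¹ * u) := by
      simp only [commutatorElement_def]; group
    rw [e, h2 _ (inv_mem (h3 x hx)), inv_mul_cancel_left]
    exact inv_mem (h3 x hx)

theorem wcaU_conj {g : Γ} (hg : g ∈ 𝒩[Q]) (hg' : g ∈ 𝒩[WW a w]) (hu : u ∈ wcaU Q a w) :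
    g * u * g⁻¹ ∈ wcaU Q a w := by
  obtain ⟨h1, h2, h3⟩ := hu
  refine ⟨mul_mem (mul_mem hg h1) (inv_mem hg),
    (mem_normalizer_iff.1 (normalizer_le_normalizer_centralizer _ hg') u).1 h2, fun x hx => ?_⟩
  have e : ⁅g * u * g⁻¹, x⁆ = g * ⁅u, g⁻¹ * x * g⁻¹⁻¹⁆ * g⁻¹ := by
    simp only [commutatorElement_def]; group
  rw [e]
  exact (mem_normalizer_iff.1 hg' _).1 (h3 _ ((mem_normalizer_iff.1 (inv_mem hg) x).1 hx))

theorem wcaU_normalizer {g : Γ} (hg : g ∈ 𝒩[Q]) (hg' : g ∈ 𝒩[WW a w]) : g ∈ 𝒩[wcaU Q a w] :=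
  mem_normalizer_iff.2 fun u => ⟨wcaU_conj hg hg', fun hu => by
    simpa [mul_assoc] using wcaU_conj (inv_mem hg) (inv_mem hg') hu⟩

theorem Blk.wcaU_sq (h : Blk Q a w k) (hu : u ∈ wcaU Q a w) : u ^ 2 ∈ 𝒞[Q] := by
  obtain ⟨-, h2, h3⟩ := hu
  intro x hx
  have hv := h3 x hx
  have h4 : ⁅u, x⁆ * ⁅u, x⁆ = 1 := by
    rcases h.mem.1 hv with e | e | e | e <;> rw [e]
    · exact one_mul 1
    · exact h.aa
    · exact h.ww
    · rw [mul_assoc, ← mul_assoc w, ← h.comm.eq, mul_assoc, h.ww, mul_one, h.aa]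
  have h5 := h2 _ hv
  calc x * u ^ 2 = (⁅u, x⁆ * ⁅u, x⁆) * (x * u ^ 2) := by rw [h4, one_mul]
    _ = (⁅u, x⁆ * u) * x * u := by simp only [commutatorElement_def, sq]; group
    _ = u ^ 2 * x := by rw [h5]; simp only [commutatorElement_def, sq]; group

theorem wca_pow {U : Subgroup Γ} (hu : u ∈ U) (hb : b ∈ 𝒩[U]) (m : ℕ) :
    (u * b) ^ m * (b ^ m)⁻¹ ∈ U := by
  induction m with
  | zero => simp
  | succ m ih =>
    have e : (u * b) ^ (m + 1) * (b ^ (m + 1))⁻¹ = u * (b * ((u * b) ^ m * (b ^ m)⁻¹) * b⁻¹) := by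
      rw [pow_succ', pow_succ']; group
    rw [e]
    exact mul_mem hu ((mem_normalizer_iff.1 hb _).1 ih)

theorem Cf.wca_key (h : Cf S B Q a w k b t) (hu : u ∈ wcaU Q a w) {d : Γ} (hd : d ∈ Q)
    (hk : Commute k d) : ⁅u, d⁆ = 1 ∨ ⁅u, d⁆ = w := by
  have hs := h.toSm
  have hBU : B ≤ 𝒩[wcaU Q a w] := fun x hx => wcaU_normalizer (hs.QN hx) (hs.BW hx)
  have hH : wcaU Q a w ⊔ B ≤ 𝒩[Q] := sup_le (fun x hx => hx.1) hs.QN
  have h2 : ∀ x ∈ wcaU Q a w ⊔ B, P2 Q x := by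
    intro x hx
    rw [← SetLike.mem_coe, coe_mul_of_right_le_normalizer_left _ _ hBU] at hx
    obtain ⟨v, hv, y, hy, rfl⟩ := hx
    obtain ⟨n, hn⟩ := two_of_mem hs.pB hy
    have h3 := wca_pow hv (hBU hy) (2 ^ n)
    rw [hn, inv_one, mul_one] at h3
    exact ⟨n + 1, by rw [pow_succ, pow_mul]; exact hs.toBlk.wcaU_sq h3⟩
  obtain ⟨c, hc, s, hsB, e⟩ := (hs.wca h.hm hH le_sup_right h2).1 u (mem_sup_left hu)
  have hb' : s * b * s⁻¹ ∈ B := (mem_normalizer_iff.1 hsB b).1 hs.bB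
  have hq : ⁅s, b⁆ ∈ B := mul_mem hb' (inv_mem hs.bB)
  have hc' : c * ((s * b * s⁻¹) * c⁻¹ * (s * b * s⁻¹)⁻¹) ∈ 𝒞[Q] :=
    mul_mem hc ((mem_normalizer_iff.1 (normalizer_le_normalizer_centralizer _ (hs.QN hb')) _).1
      (inv_mem hc))
  have e1 : ⁅u, b⁆ = c * ((s * b * s⁻¹) * c⁻¹ * (s * b * s⁻¹)⁻¹) * ⁅s, b⁆ := by
    rw [e]; simp only [commutatorElement_def]; group
  have hub : ⁅u, b⁆ ∈ wcaU Q a w := by
    have e2 : ⁅u, b⁆ = u * (b * u⁻¹ * b⁻¹) := by simp only [commutatorElement_def]; group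
    rw [e2]
    exact mul_mem hu ((mem_normalizer_iff.1 (hBU hs.bB) _).1 (inv_mem hu))
  generalize c * ((s * b * s⁻¹) * c⁻¹ * (s * b * s⁻¹)⁻¹) = c' at hc' e1
  generalize ⁅s, b⁆ = q at hq e1
  have hqQ : q ∈ Q := by
    refine hs.mem_Q hq ?_
    have e3 : q = c'⁻¹ * ⁅u, b⁆ := by rw [e1]; group
    rw [e3]
    exact Commute.mul_left (Commute.inv_left (hc' a hs.aQ).symm)
      (hub.2.1 a (left_mem_WW a w)).symm
  have hcom : ∀ {e y : Γ}, e ∈ 𝒞[Q] → y ∈ 𝒩[Q] → ∀ x ∈ Q, ⁅e * y, x⁆ = ⁅y, x⁆ := by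
    intro e y he hy x hx
    have := he _ ((mem_normalizer_iff.1 hy x).1 hx)
    calc ⁅e * y, x⁆ = (e * (y * x * y⁻¹)) * e⁻¹ * x⁻¹ := by
          simp only [commutatorElement_def]; group
      _ = ⁅y, x⁆ := by rw [← this]; simp only [commutatorElement_def]; group
  have hqC : q ∈ 𝒞[Q] := fun x hx => by
    have h3 := hub.2.2 x hx
    rw [e1, hcom hc' (le_normalizer hqQ) x hx] at h3
    exact (commutatorElement_eq_one_iff_mul_comm.1 (hs.toBlk.comm_eq_one hqQ hx h3)).symm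
  have hubC : ⁅u, b⁆ ∈ 𝒞[Q] := e1 ▸ mul_mem hc' hqC
  have h4 : b * ⁅u, d⁆ * b⁻¹ = ⁅u, d⁆ := by
    have h5 := (h.bD d hd hk).eq
    have h6 : b * d * b⁻¹ = d := by rw [h5, mul_inv_cancel_right]
    calc b * ⁅u, d⁆ * b⁻¹ = ⁅⁅u, b⁆⁻¹ * u, b * d * b⁻¹⁆ := by
          simp only [commutatorElement_def]; group
      _ = ⁅u, d⁆ := by rw [h6, hcom (inv_mem hubC) hu.1 d hd]
  rcases hs.toBlk.mem.1 (hu.2.2 d hd) with e | e | e | e
  · exact Or.inl e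
  · rw [e, hs.ba] at h4
    exact absurd (mul_eq_left.1 h4) hs.w1
  · exact Or.inr e
  · exfalso
    have h7 : b * (a * w) * b⁻¹ = (b * a * b⁻¹) * (b * w * b⁻¹) := by group
    rw [e, h7, hs.ba, hs.bw.eq, mul_inv_cancel_right] at h4
    exact hs.w1 (mul_eq_left.1 h4)

/-- The elements `u` as in the hypotheses form a group `U ≤ N(Q)` normalized by `B` and `k`; `u² ∈ C(Q)`
(`u x u⁻¹ = v x`, `v ∈ W` fixed by `u`). `H = U B` acts on `Q` as a `2`-group (`x ^ 2 ^ n ∈ U` for `x ∈ H`). By `wca`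
`u = c s`, `s ∈ N(B) ⊓ N(Q)`, so `⁅u, b⁆ ∈ U` acts on `Q` as `q = ⁅s, b⁆ ∈ B`; `q` commutes with `a`, so `q ∈ Q` and
`⁅q, Q⁆ ≤ W` gives `q ∈ C(Q)` (`comm_eq_one`). So `⁅u, b⁆ ∈ C(Q)`: for `d ∈ D = C_Q(k) ≤ C(b)`, `⁅u, d⁆ ∈ W` is
fixed by `b`, i.e. lies in `{1, w}`. The same for `k u k⁻¹`: `k ⁅u, d⁆ k⁻¹ ∈ {1, w}`, so `⁅u, d⁆ = 1`; `split`. -/
theorem Cf.one (h : Cf S B Q a w k b t) (hu : u ∈ 𝒩[Q]) (ha : Commute u a) (hw : Commute u w)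
    (hQ : ∀ x ∈ Q, ⁅u, x⁆ ∈ WW a w) : u ∈ 𝒞[Q] := by
  have hb := h.toSm.toBlk
  have hU : u ∈ wcaU Q a w := ⟨hu, mem_cent_WW.2 ⟨ha.symm, hw.symm⟩, hQ⟩
  intro x hx
  obtain ⟨v, hv, d, hd, hk, rfl⟩ := hb.split hx
  have h1 : ⁅u, d⁆ = 1 := by
    rcases h.wca_key hU hd hk with e | e
    · exact e
    · exfalso
      have h2 := h.wca_key (wcaU_conj hb.kN hb.kW hU) hd hk
      have h3 : k * d * k⁻¹ = d := by rw [hk.eq, mul_inv_cancel_right]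
      have h4 : ⁅k * u * k⁻¹, k * d * k⁻¹⁆ = k * ⁅u, d⁆ * k⁻¹ := by
        simp only [commutatorElement_def]; group
      rw [h3, e, hb.kw] at h4
      rw [h4] at h2
      exact h2.elim hb.a1 hb.aw
  have h5 : Commute v u := hU.2.1 v hv
  exact (h5.mul_left (Commute.symm (commutatorElement_eq_one_iff_commute.1 h1))).eq

end CfsgLib.OFP
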