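import Mathlib
import Cfsg.Agent.Lib.OFP.Wca

set_option autoImplicit false
set_option linter.unusedSectionVars false

namespace CfsgLib.OFP

open Subgroup Cfsg CfsgLib.LAE CfsgLib.Push CfsgLib.Blocks CfsgLib.ZJ
open scoped commutatorElement

variable {Γ : Type*} [Group Γ] [Finite Γ]

variable {S B Q : Subgroup Γ} {a w k b t : Γ}

theorem q1_mul {R W : Subgroup Γ} {g g' : Γ} (hg : g ∈ 𝒩[W]) (h1 : ∀ x ∈ R, ⁅g, x⁆ ∈ W)
    (h2 : ∀ x ∈ R, ⁅g', x⁆ ∈ W) : ∀ x ∈ R, ⁅g * g', x⁆ ∈ W := by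
  intro x hx
  have e : ⁅g * g', x⁆ = g * ⁅g', x⁆ * g⁻¹ * ⁅g, x⁆ := by simp only [commutatorElement_def]; group
  rw [e]
  exact mul_mem (LAE.conj_mem_of_mem_normalizer hg (h2 x hx)) (h1 x hx)

theorem q1_conj {R W : Subgroup Γ} {g y : Γ} (hR : y ∈ 𝒩[R]) (hW : y ∈ 𝒩[W])
    (h1 : ∀ x ∈ R, ⁅g, x⁆ ∈ W) : ∀ x ∈ R, ⁅y * g * y⁻¹, x⁆ ∈ W := by
  intro x hx
  have e : ⁅y * g * y⁻¹, x⁆ = y * ⁅g, y⁻¹ * x * y⁆ * y⁻¹ := by simp only [commutatorElement_def]; group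
  rw [e]
  exact LAE.conj_mem_of_mem_normalizer hW (h1 _ (conj_inv_mem_of_mem_normalizer hR hx))

theorem q1_inv {R W : Subgroup Γ} {g : Γ} (hg : g ∈ 𝒩[W]) (h1 : ∀ x ∈ R, ⁅g, x⁆ ∈ W) :
    ∀ x ∈ R, ⁅g⁻¹, x⁆ ∈ W := by
  intro x hx
  have e : ⁅g⁻¹, x⁆ = g⁻¹ * ⁅g, x⁆⁻¹ * g := by simp only [commutatorElement_def]; group
  rw [e]
  exact conj_inv_mem_of_mem_normalizer hg (inv_mem (h1 x hx))

theorem q1_eq_one {T O : Subgroup Γ} {x : Γ} (hT : IsPGroup 2 T) (hO : Odd (Nat.card O)) (h1 : x ∈ T)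
    (h2 : x ∈ O) : x = 1 :=
  (two_of_mem hT h1).eq_one (hO.of_dvd_nat (O.orderOf_dvd_natCard h2))

theorem q1_syl {T O : Subgroup Γ} (hT : IsPGroup 2 T) (hO : Odd (Nat.card O)) (hn : T ≤ 𝒩[O]) :
    IsSylowIn 2 T (T ⊔ O) := by
  refine ⟨le_sup_left, hT, fun R hR h1 h2 => le_antisymm (fun x hx => ?_) h1⟩
  obtain ⟨y, hy, o, ho, rfl⟩ := (mem_sup_iff_of_left_le_normalizer hn).1 (h2 hx)
  have : o = 1 := q1_eq_one hR hO ((mul_mem_cancel_left (h1 hy)).1 hx) ho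
  rw [this, mul_one]
  exact hy

/-- An element acting on `Q` as `k` gives a block again. -/
theorem Blk.q1_of_act {g : Γ} (h : Blk Q a w k) (hg : ∀ x ∈ Q, g * x * g⁻¹ = k * x * k⁻¹) : Blk Q a w g where
  aQ := h.aQ
  wQ := h.wQ
  ac := h.ac
  wc := h.wc
  aa := h.aa
  ww := h.ww
  w1 := h.w1
  aw := h.aw
  kN := mem_normalizer_of_conjS_le (conjS_le_iff_forall.2 fun x hx => by
    rw [hg x hx]; exact LAE.conj_mem_of_mem_normalizer h.kN hx)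
  kw := by rw [hg w h.wQ, h.kw]
  ka := by rw [hg a h.aQ, h.ka]
  kQ x hx := by
    have := h.kQ x hx
    rw [commutatorElement_def] at this ⊢
    rwa [hg x hx]

/-- `HM` for `U = W` (`nacW`) and `T = N_S(W) ≥ B`. -/
theorem Cf.NW_le (h : Cf S B Q a w k b t) : S ⊓ 𝒩[WW a w] ≤ 𝒩[B] := by
  have e : bau 2 (S ⊓ 𝒩[WW a w]) = B :=
    h.hm (WW a w) _ (h.pB.to_le (h.toBlk.WQ.trans h.QB)) h.toSm.nacW (h.syl.isPGroup.to_le inf_le_left)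
      (le_inf h.BS h.toSm.BW) inf_le_right
  have := le_normalizer_bau (p := 2) (S ⊓ 𝒩[WW a w])
  rwa [e] at this

/-- `Q = B ⊓ C(W)`. -/
theorem Cf.Q1_le (h : Cf S B Q a w k b t) : S ⊓ 𝒞[WW a w] ≤ 𝒩[Q] := by
  intro x hx
  have hB : x ∈ 𝒩[B] := h.NW_le ⟨hx.1, centralizer_le_normalizer _ hx.2⟩
  refine mem_normalizer_of_conjS_le (conjS_le_iff_forall.2 fun y hy => ?_)
  refine h.toSm.mem_Q (LAE.conj_mem_of_mem_normalizer hB (h.QB hy)) ?_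
  have h1 : Commute x a := (mem_cent_WW.1 hx.2).1.symm
  have h2 : Commute y a := mem_centralizer_iff.1 h.ac y hy
  exact (h1.mul_left h2).mul_left h1.inv_left

theorem Cf.q1_ge (h : Cf S B Q a w k b t) : Q ≤ S ⊓ 𝒞[WW a w] :=
  le_inf (h.QB.trans h.BS) (le_centralizer_iff.1 h.toBlk.Wc)

/-- Commutators of an element acting on `Q` as `k` with `C_S(W)` centralize `Q`. -/
theorem Cf.q1_comm {g y : Γ} (h : Cf S B Q a w k b t) (hg : Blk Q a w g) (hy : y ∈ S ⊓ 𝒞[WW a w]) :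
    ⁅g, y⁆ ∈ 𝒞[Q] := by
  have yQ := h.Q1_le hy
  have yW : y ∈ 𝒩[WW a w] := centralizer_le_normalizer _ hy.2
  have hC : ⁅g, y⁆ ∈ 𝒞[WW a w] := by
    rw [commutatorElement_def]
    exact mul_mem (LAE.conj_mem_of_mem_normalizer (normalizer_le_normalizer_centralizer _ hg.kW) hy.2) (inv_mem hy.2)
  have e : ⁅g, y⁆ = g * (y * g⁻¹ * y⁻¹) := by simp only [commutatorElement_def]; group
  refine h.one ?_ (mem_cent_WW.1 hC).1.symm (mem_cent_WW.1 hC).2.symm ?_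
  · rw [e]
    exact mul_mem hg.kN (mul_mem (mul_mem yQ (inv_mem hg.kN)) (inv_mem yQ))
  · rw [e]
    exact q1_mul hg.kW hg.kQ (q1_conj yQ yW (q1_inv hg.kW hg.kQ))

theorem Cf.q1_split (h : Cf S B Q a w k b t) :
    Odd (Nat.card (pResOf 2 𝒞[Q])) ∧ ∀ c ∈ 𝒞[Q], ∃ z ∈ Q, ∃ o ∈ pResOf 2 𝒞[Q], c = z * o :=
  split (h.pB.to_le h.QB) fun _ hx h2 => h.toSm.cen2 h.hm hx h2

theorem q1_NO : 𝒩[Q] ≤ 𝒩[pResOf 2 𝒞[Q]] :=
  (normalizer_le_normalizer_centralizer Q).trans (normalizer_le_normalizer_pResOf _)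

/-- An element of odd order of `N(C_S(W))` acting on `Q` as `k`. -/
theorem Cf.q1_exists (h : Cf S B Q a w k b t) : ∃ g ∈ 𝒩[S ⊓ 𝒞[WW a w]], Odd (orderOf g) ∧
    ∀ x ∈ Q, g * x * g⁻¹ = k * x * k⁻¹ := by
  haveI : Fact (Nat.Prime 2) := ⟨Nat.prime_two⟩
  obtain ⟨hO, hs⟩ := h.q1_split
  have p1 : IsPGroup 2 (S ⊓ 𝒞[WW a w] : Subgroup Γ) := h.syl.isPGroup.to_le inf_le_left
  have hn : S ⊓ 𝒞[WW a w] ≤ 𝒩[pResOf 2 𝒞[Q]] := h.Q1_le.trans q1_NO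
  have hle : conjS k (S ⊓ 𝒞[WW a w]) ≤ (S ⊓ 𝒞[WW a w]) ⊔ pResOf 2 𝒞[Q] := by
    refine conjS_le_iff_forall.2 fun y hy => ?_
    obtain ⟨z, hz, o, ho, e⟩ := hs _ (h.q1_comm h.toBlk hy)
    have e' : k * y * k⁻¹ = z * o * y := by rw [← e, commutatorElement_def]; group
    rw [e']
    exact mul_mem (mul_mem (mem_sup_left (h.q1_ge hz)) (mem_sup_right ho)) (mem_sup_left hy)
  obtain ⟨n, hn', hc⟩ := (q1_syl p1 hO hn).exists_conj_le (isPGroup_conjS p1 k) hle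
  rw [← conjS_mul] at hc
  obtain ⟨y, hy, o, ho, rfl⟩ := (mem_sup_iff_of_left_le_normalizer hn).1 hn'
  have h1 : o * k ∈ 𝒩[S ⊓ 𝒞[WW a w]] := by
    have := mem_normalizer_of_conjS_le hc
    rw [mul_assoc] at this
    exact (mul_mem_cancel_left (le_normalizer hy)).1 this
  have h2 : ∀ x ∈ Q, o * k * x * (o * k)⁻¹ = k * x * k⁻¹ := by
    intro x hx
    have hc := mem_centralizer_iff.1 (pResOf_le _ ho) _ (LAE.conj_mem_of_mem_normalizer h.kN hx)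
    calc o * k * x * (o * k)⁻¹ = o * (k * x * k⁻¹) * o⁻¹ := by group
      _ = k * x * k⁻¹ := by rw [← hc]; group
  obtain ⟨m, hm⟩ := exists_odd_pow (o * k)
  exact ⟨_, pow_mem h1 _, hm, fun x hx => by rw [(h.toBlk.q1_of_act h2).pow_act m hx, h2 x hx]⟩

theorem Cf.q1_blk {g : Γ} (h : Cf S B Q a w k b t) (hN : g ∈ 𝒩[S ⊓ 𝒞[WW a w]]) (ho : Odd (orderOf g))
    (hg : Blk Q a w g) : Blk (S ⊓ 𝒞[WW a w]) a w g where
  aQ := h.q1_ge h.aQ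
  wQ := h.q1_ge h.wQ
  ac := mem_centralizer_iff.2 fun _ hy => (mem_cent_WW.1 hy.2).1.symm.eq
  wc := mem_centralizer_iff.2 fun _ hy => (mem_cent_WW.1 hy.2).2.symm.eq
  aa := h.aa
  ww := h.ww
  w1 := h.w1
  aw := h.aw
  kN := hN
  kw := hg.kw
  ka := hg.ka
  kQ y hy := by
    have p1 : IsPGroup 2 (S ⊓ 𝒞[WW a w] : Subgroup Γ) := h.syl.isPGroup.to_le inf_le_left
    have h1 : ⁅g, y⁆ ∈ S ⊓ 𝒞[WW a w] := by
      rw [commutatorElement_def]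
      exact mul_mem (LAE.conj_mem_of_mem_normalizer hN hy) (inv_mem hy)
    have h2 : ⁅g, y⁆ ∈ Q := h.toSm.cen2 h.hm (h.q1_comm hg hy) (two_of_mem p1 h1)
    obtain ⟨u, hu, d, hd, hc, e⟩ := hg.split h2
    obtain ⟨v, hv, ev⟩ := hg.exists_comm hu
    have hvd : d * v = v * d := mem_centralizer_iff.1 (hg.Wc hv) d hd
    have e1 : ⁅g, v⁻¹ * y⁆ = d := by
      have e2 : ⁅g, v⁻¹ * y⁆ = v⁻¹ * (⁅g, v⁆⁻¹ * ⁅g, y⁆) * v := by
        simp only [commutatorElement_def]; group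
      rw [e2, ev, e, inv_mul_cancel_left, mul_assoc, hvd, inv_mul_cancel_left]
    have h3 : Commute g (v⁻¹ * y) :=
      commute_of_odd ho (by rw [e1]; exact two_of_mem p1 (h.q1_ge hd)) (by rw [e1]; exact hc)
    have h4 : d = 1 := by rw [← e1]; exact h3.commutator_eq
    rw [e, h4, mul_one]
    exact hu

/-- Let `Q₁ = C_S(W) ≥ Q`. Replace `k` by `k₁ = k ^ 4 ^ n` of odd order (`pow_act`). For `y ∈ Q₁`, `u = ⁅k₁, y⁆`
satisfies the hypotheses of `Cf.one` (`k₁` and `y k₁⁻¹ y⁻¹` act trivially on `Q / W`), so `u ∈ C(Q)`. By `cen2`,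
`split`: `C(Q) = Z(Q) O`, `O = O²(C(Q))` of odd order, normalized by `N(Q)`. So `k₁` normalizes `N = Q₁ O`, in which
`Q₁` is Sylow; Frattini: `k₁ = o y k''`, so `k' = o⁻¹ k₁ ∈ N(Q₁)` with `o ∈ O`; `k'` has odd order (it lies in
`O ⟨k₁⟩`) and acts on `Q` as `k`. For `y ∈ Q₁`: `v = ⁅k', y⁆ ∈ Q₁ ⊓ C(Q) ≤ Q` (`cen2`), `v ∈ Z(Q)`, `v = u d`
(`Blk.split`, `d` fixed by `k'`); with `u' ∈ W`, `⁅k', u'⁆ = u` (`exists_comm`) we get `⁅k', u'⁻¹ y⁆ = d`, so `d = 1`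
(`commute_of_odd`). Last claim: `s = b k' b⁻¹ k' ∈ N(Q₁)` centralizes `W` and `D = C_Q(k)`, so `s = z o ∈ C(Q)`,
`o ∈ O ⊓ N(Q₁)` centralizes `Q₁` (`[o, Q₁] ≤ O ⊓ Q₁ = 1`); `s` acts trivially on `Q₁ / W`, so `⁅z, y⁆ ∈ W` and
`⁅z, y⁆ = 1` (`comm_eq_one` for the new block): `s` centralizes `Q₁`, so `b k' b⁻¹` acts on `Q₁` as `k'⁻¹`. -/
theorem Cf.q1 (h : Cf S B Q a w k b t) : ∃ k' : Γ, Blk (S ⊓ 𝒞[WW a w]) a w k' ∧
    (∀ x ∈ Q, k' * x * k'⁻¹ = k * x * k⁻¹) ∧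
      ∀ d ∈ S ⊓ 𝒞[WW a w], Commute k' d → Commute k' (b * d * b⁻¹) := by
  obtain ⟨g, hN, ho, hact⟩ := h.q1_exists
  have hg := h.toBlk.q1_of_act hact
  have h1 := h.q1_blk hN ho hg
  refine ⟨g, h1, hact, fun d hd hc => ?_⟩
  obtain ⟨hO, hs⟩ := h.q1_split
  have p1 : IsPGroup 2 (S ⊓ 𝒞[WW a w] : Subgroup Γ) := h.syl.isPGroup.to_le inf_le_left
  have bW : b ∈ 𝒩[WW a w] := h.toSm.BW h.bB
  have bQ : b ∈ 𝒩[Q] := h.toSm.QN h.bB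
  have b1 : b ∈ 𝒩[S ⊓ 𝒞[WW a w]] :=
    le_normalizer_inf (h.BS.trans le_normalizer) (le_normalizer_centralizer h.toSm.BW) h.bB
  have cW : b * g * b⁻¹ ∈ 𝒩[WW a w] := mul_mem (mul_mem bW hg.kW) (inv_mem bW)
  have bw : b * w * b⁻¹ = w := by rw [h.toSm.bw.eq, mul_inv_cancel_right]
  have baw : b * (a * w) * b⁻¹ = a := by
    calc b * (a * w) * b⁻¹ = (b * a * b⁻¹) * (b * w * b⁻¹) := by group
      _ = a := by rw [h.ba, bw, mul_assoc, h.ww, mul_one]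
  have ba' : b⁻¹ * a * b = a * w := by
    calc b⁻¹ * a * b = b⁻¹ * (b * (a * w) * b⁻¹) * b := by rw [baw]
      _ = a * w := by group
  have baw' : b⁻¹ * (a * w) * b = a := by rw [← h.ba]; group
  have sa : Commute (b * g * b⁻¹ * g) a := by
    have : b * g * b⁻¹ * g * a * (b * g * b⁻¹ * g)⁻¹ = a := by
      calc b * g * b⁻¹ * g * a * (b * g * b⁻¹ * g)⁻¹
          = b * (g * (b⁻¹ * (g * a * g⁻¹) * b) * g⁻¹) * b⁻¹ := by group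
        _ = a := by rw [hg.ka, baw', hg.ka, baw]
    exact mul_inv_eq_iff_eq_mul.1 this
  have sw : Commute (b * g * b⁻¹ * g) w := by
    have : b * g * b⁻¹ * g * w * (b * g * b⁻¹ * g)⁻¹ = w := by
      calc b * g * b⁻¹ * g * w * (b * g * b⁻¹ * g)⁻¹
          = b * (g * (b⁻¹ * (g * w * g⁻¹) * b) * g⁻¹) * b⁻¹ := by group
        _ = w := by rw [hg.kw, ba', hg.kaw, bw]
    exact mul_inv_eq_iff_eq_mul.1 this
  have sC : b * g * b⁻¹ * g ∈ 𝒞[Q] :=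
    h.one (mul_mem (mul_mem (mul_mem bQ hg.kN) (inv_mem bQ)) hg.kN) sa sw
      (q1_mul cW (q1_conj bQ bW hg.kQ) hg.kQ)
  have sN : b * g * b⁻¹ * g ∈ 𝒩[S ⊓ 𝒞[WW a w]] := mul_mem (mul_mem (mul_mem b1 hN) (inv_mem b1)) hN
  have sW := q1_mul cW (q1_conj b1 bW h1.kQ) h1.kQ
  obtain ⟨z, hz, o, ho', e⟩ := hs _ sC
  have hy : b * d * b⁻¹ ∈ S ⊓ 𝒞[WW a w] := LAE.conj_mem_of_mem_normalizer b1 hd
  have oN : o ∈ 𝒩[S ⊓ 𝒞[WW a w]] := by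
    rw [e] at sN
    exact (mul_mem_cancel_left (le_normalizer (h.q1_ge hz))).1 sN
  have o1 : ⁅o, b * d * b⁻¹⁆ = 1 := by
    refine q1_eq_one p1 hO ?_ ?_
    · rw [commutatorElement_def]
      exact mul_mem (LAE.conj_mem_of_mem_normalizer oN hy) (inv_mem hy)
    · rw [commutatorElement_def, mul_assoc, mul_assoc, ← mul_assoc (b * d * b⁻¹)]
      exact mul_mem ho' (LAE.conj_mem_of_mem_normalizer (q1_NO (h.Q1_le hy)) (inv_mem ho'))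
  have e1 : ⁅b * g * b⁻¹ * g, b * d * b⁻¹⁆ = ⁅z, b * d * b⁻¹⁆ := by
    have : ⁅z * o, b * d * b⁻¹⁆ = z * ⁅o, b * d * b⁻¹⁆ * z⁻¹ * ⁅z, b * d * b⁻¹⁆ := by
      simp only [commutatorElement_def]; group
    rw [e, this, o1, mul_one, mul_inv_cancel, one_mul]
  have s1 : Commute (b * g * b⁻¹ * g) (b * d * b⁻¹) := by
    rw [← commutatorElement_eq_one_iff_commute, e1]
    exact h1.comm_eq_one (h.q1_ge hz) hy (e1 ▸ sW _ hy)
  have s2 : Commute (b * g * b⁻¹) (b * d * b⁻¹) := by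
    have := hc.eq
    calc b * g * b⁻¹ * (b * d * b⁻¹) = b * (g * d) * b⁻¹ := by group
      _ = b * d * b⁻¹ * (b * g * b⁻¹) := by rw [this]; group
  have := s2.inv_left.mul_left s1
  rwa [inv_mul_cancel_left] at this

end CfsgLib.OFP
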