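import Mathlib
import Cfsg.Agent.Lib.OFP.Wca

set_option autoImplicit false
set_option linter.unusedSectionVars false

namespace CfsgLib.OFP

open Subgroup Cfsg CfsgLib.LAE CfsgLib.Push CfsgLib.Blocks CfsgLib.ZJ
open scoped commutatorElement

variable {Γ : Type*} [Group Γ] [Finite Γ]

variable {S B Q : Subgroup Γ} {a w k b t n a' k' : Γ}

namespace Tb

variable {x y z g v q y' q' e γ : Γ}

theorem nm (hn : n ∈ 𝒩[Q]) (hx : x ∈ Q) : n * x * n⁻¹ ∈ Q := (mem_normalizer_iff.1 hn x).1 hx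

theorem nm' (hn : n ∈ 𝒩[Q]) (hx : x ∈ Q) : n⁻¹ * x * n ∈ Q := by
  simpa using nm (inv_mem hn) hx

theorem cm (hz : z ∈ 𝒞[Q]) (hx : x ∈ Q) : Commute x z := mem_centralizer_iff.1 hz x hx

theorem nc (hn : n ∈ 𝒩[Q]) (hz : z ∈ 𝒞[Q]) : n * z * n⁻¹ ∈ 𝒞[Q] := by
  refine mem_centralizer_iff.2 fun x hx => ?_
  calc x * (n * z * n⁻¹) = n * (n⁻¹ * x * n * z) * n⁻¹ := by group
    _ = n * (z * (n⁻¹ * x * n)) * n⁻¹ := by rw [(cm hz (nm' hn hx)).eq]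
    _ = _ := by group

theorem cj (h : Commute x z) : x * z * x⁻¹ = z := by rw [h.eq, mul_inv_cancel_right]

theorem of_cj (h : x * z * x⁻¹ = z) : Commute x z := mul_inv_eq_iff_eq_mul.1 h

theorem actQ (h : Cf S B Q a w k b t) (hx : x ∈ Q) : b * x * b⁻¹ = x ∨ b * x * b⁻¹ = w * x := by
  obtain ⟨u, hu, d, hd, hc, rfl⟩ := h.toBlk.split hx
  have e1 : b * (u * d) * b⁻¹ = b * u * b⁻¹ * d := by
    rw [← mul_assoc, mul_assoc (b * u), ← (h.bD d hd hc).inv_left.eq, ← mul_assoc]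
  have hw := cj h.toSm.bw
  have hc := h.toBlk.comm.eq
  rw [e1]
  rcases h.toBlk.mem.1 hu with hu | hu | hu | hu <;> rw [hu]
  · left; simp
  · right; rw [h.ba, hc, mul_assoc]
  · left; rw [hw]
  · right; rw [← conj_mul, h.ba, hw, ← mul_assoc, ← mul_assoc, ← hc]

theorem actB (h : Sm B Q a w k b) (hy : y ∈ B) (hz : z ∈ 𝒞[Q]) :
    y * z * y⁻¹ = z ∨ y * z * y⁻¹ = b * z * b⁻¹ := by
  rcases h.idx y hy with hq | hq
  · exact Or.inl (cj (cm hz hq))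
  · right
    have bb : b * b ∈ Q := (h.idx b h.bB).resolve_left h.bQ
    have h1 : b⁻¹ * z * b⁻¹⁻¹ ∈ 𝒞[Q] := nc (inv_mem (h.QN h.bB)) hz
    calc y * z * y⁻¹ = y * b * (b⁻¹ * z * b⁻¹⁻¹) * (y * b)⁻¹ := by group
      _ = b⁻¹ * z * b⁻¹⁻¹ := cj (cm h1 hq)
      _ = b⁻¹ * (b * b * z * (b * b)⁻¹) * b⁻¹⁻¹ := by rw [cj (cm hz bb)]
      _ = _ := by group

/-- `y` stabilizes the chain `1 ≤ ⟨v⟩ ≤ ⟨v, w⟩` and acts on `Q / ⟨v, w⟩` as `q`. -/
structure R (Q : Subgroup Γ) (v w y q : Γ) : Prop where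
  yN : y ∈ 𝒩[Q]
  yv : y * v * y⁻¹ = v
  yw : y * w * y⁻¹ = w ∨ y * w * y⁻¹ = v * w
  qQ : q ∈ Q
  act : ∀ x ∈ Q, ∃ u ∈ WW v w, y * x * y⁻¹ = u * (q * x * q⁻¹)

theorem R.cW (r : R Q v w y q) {u : Γ} (hu : u ∈ WW v w) : y * u * y⁻¹ ∈ WW v w := by
  have : conjS y (WW v w) ≤ WW v w := by
    rw [conjS_le_iff, WW_le, mem_conjS, mem_conjS, inv_inv, r.yv]
    refine ⟨left_mem_WW _ _, ?_⟩
    rcases r.yw with e | e <;> rw [e]
    exacts [right_mem_WW _ _, mul_mem (left_mem_WW _ _) (right_mem_WW _ _)]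
  exact conjS_le_iff_forall.1 this u hu

theorem R.one : R Q v w 1 1 :=
  ⟨one_mem _, by simp, by simp, one_mem _, fun x _ => ⟨1, one_mem _, by simp⟩⟩

theorem R.mul (vv : v * v = 1) (r : R Q v w y q) (r' : R Q v w y' q') : R Q v w (y * y') (q * q') := by
  have e (x : Γ) : y * y' * x * (y * y')⁻¹ = y * (y' * x * y'⁻¹) * y⁻¹ := by group
  refine ⟨mul_mem r.yN r'.yN, by rw [e, r'.yv, r.yv], ?_, mul_mem r.qQ r'.qQ, fun x hx => ?_⟩
  · rw [e]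
    rcases r'.yw with e' | e' <;> rw [e']
    · exact r.yw
    · rw [← conj_mul, r.yv]
      rcases r.yw with e'' | e'' <;> rw [e'']
      · exact Or.inr rfl
      · left; rw [← mul_assoc, vv, one_mul]
  · obtain ⟨u', hu', e'⟩ := r'.act x hx
    obtain ⟨u, hu, e''⟩ := r.act _ (nm (le_normalizer r'.qQ) hx)
    refine ⟨y * u' * y⁻¹ * u, mul_mem (r.cW hu') hu, ?_⟩
    rw [e, e', ← conj_mul, e'']
    group

theorem R.pow (vv : v * v = 1) (r : R Q v w y q) (m : ℕ) : R Q v w (y ^ m) (q ^ m) := by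
  induction m with
  | zero => rw [pow_zero, pow_zero]; exact R.one
  | succ m ih => rw [pow_succ, pow_succ]; exact ih.mul vv r

theorem R.p2 (vv : v * v = 1) (ww : w * w = 1) (vw : Commute v w) (hQ : IsPGroup 2 Q) (r : R Q v w y q) :
    P2 Q y := by
  obtain ⟨m, hm⟩ := two_of_mem hQ r.qQ
  have r1 := r.pow vv (2 ^ m)
  rw [hm] at r1
  set y1 := y ^ 2 ^ m with hy1
  have r2 := r1.mul vv r1
  have fw : y1 * y1 * w * (y1 * y1)⁻¹ = w := by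
    rw [show y1 * y1 * w * (y1 * y1)⁻¹ = y1 * (y1 * w * y1⁻¹) * y1⁻¹ by group]
    rcases r1.yw with e | e
    · rw [e, e]
    · rw [e, ← conj_mul, r1.yv, e, ← mul_assoc, vv, one_mul]
  refine ⟨m + 2, mem_centralizer_iff.2 fun x hx => (of_cj ?_).symm.eq⟩
  obtain ⟨u, hu, e⟩ := r2.act x hx
  rw [show y ^ 2 ^ (m + 2) = y1 * y1 * (y1 * y1) by rw [hy1, ← pow_add, ← pow_add]; congr 1; ring]
  generalize y1 * y1 = y2 at r2 fw e
  have e1 : y2 * u * y2⁻¹ = u ∧ u * u = 1 := by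
    rcases (mem_WW vv ww vw).1 hu with hu | hu | hu | hu <;> rw [hu]
    · simp
    · exact ⟨r2.yv, vv⟩
    · exact ⟨fw, ww⟩
    · exact ⟨by rw [← conj_mul, r2.yv, fw], by rw [vw.symm.mul_mul_mul_comm, vv, ww, one_mul]⟩
  have e2 : y2 * x * y2⁻¹ = u * x := by simpa using e
  calc y2 * y2 * x * (y2 * y2)⁻¹ = y2 * (y2 * x * y2⁻¹) * y2⁻¹ := by group
    _ = x := by rw [e2, ← conj_mul, e1.1, e2, ← mul_assoc, e1.2, one_mul]

/-- The group of all such `y`. -/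
def HH (Q : Subgroup Γ) (v w : Γ) (vv : v * v = 1) : Subgroup Γ where
  carrier := {y | ∃ q, R Q v w y q}
  one_mem' := ⟨1, R.one⟩
  mul_mem' := fun ⟨_, r⟩ ⟨_, r'⟩ => ⟨_, r.mul vv r'⟩
  inv_mem' := fun {y} ⟨_, r⟩ => ⟨_, by
    have e : y⁻¹ = y ^ (orderOf y - 1) := by
      rw [inv_eq_iff_mul_eq_one, ← pow_succ', Nat.sub_add_cancel (orderOf_pos y), pow_orderOf_eq_one]
    rw [e]; exact r.pow vv _⟩

theorem core2 (h : Cf S B Q a w k b t) (hg : g ∈ 𝒩[Q]) (hb : Commute b (g * w * g⁻¹)) : g * w * g⁻¹ = w := by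
  set v := g * w * g⁻¹ with hv
  have vv : v * v = 1 := by rw [hv, conj_mul, h.ww]; simp
  have vc : v ∈ 𝒞[Q] := nc hg h.wc
  have vw : Commute v w := (cm vc h.wQ).symm
  have QH : Q ≤ HH Q v w vv := fun y hy =>
    ⟨y, le_normalizer hy, cj (cm vc hy), Or.inl (cj (cm h.wc hy)), hy, fun x _ => ⟨1, one_mem _, (one_mul _).symm⟩⟩
  have bN := h.toSm.QN h.bB
  have bH : b ∈ HH Q v w vv := ⟨1, bN, cj hb, Or.inl (cj h.toSm.bw), one_mem _, fun x hx => by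
    rcases actQ h hx with e | e
    · exact ⟨1, one_mem _, by simpa using e⟩
    · exact ⟨w, right_mem_WW _ _, by simpa using e⟩⟩
  have act3 : ∀ x ∈ Q, g * b * g⁻¹ * x * (g * b * g⁻¹)⁻¹ = x ∨ g * b * g⁻¹ * x * (g * b * g⁻¹)⁻¹ = v * x :=
    fun x hx => by
      rw [show g * b * g⁻¹ * x * (g * b * g⁻¹)⁻¹ = g * (b * (g⁻¹ * x * g) * b⁻¹) * g⁻¹ by group]
      rcases actQ h (nm' hg hx) with e | e <;> rw [e]
      · left; group
      · right; rw [hv]; group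
  have b3H : g * b * g⁻¹ ∈ HH Q v w vv := ⟨1, mul_mem (mul_mem hg bN) (inv_mem hg), by
    rw [hv, show g * b * g⁻¹ * (g * w * g⁻¹) * (g * b * g⁻¹)⁻¹ = g * (b * w * b⁻¹) * g⁻¹ by group, cj h.toSm.bw],
    act3 w h.wQ, one_mem _, fun x hx => by
      rcases act3 x hx with e | e
      · exact ⟨1, one_mem _, by rw [e]; simp⟩
      · exact ⟨v, left_mem_WW _ _, by rw [e]; simp⟩⟩
  have BH : B ≤ HH Q v w vv := fun y hy => by
    rcases h.idx y hy with e | e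
    · exact QH e
    · simpa using mul_mem (QH e) (inv_mem bH)
  have gBH : conjS g B ≤ HH Q v w vv := conjS_le_iff_forall.2 fun y hy => by
    rcases h.idx y hy with e | e
    · exact QH (nm hg e)
    · rw [show g * y * g⁻¹ = g * (y * b) * g⁻¹ * (g * b * g⁻¹)⁻¹ by group]
      exact mul_mem (QH (nm hg e)) (inv_mem b3H)
  obtain ⟨c, hc, e⟩ := (h.toSm.wca h.hm (H := HH Q v w vv) (fun y ⟨_, r⟩ => r.yN) BH
    fun y ⟨_, r⟩ => r.p2 vv h.ww vw (h.pB.to_le h.QB)).2 g gBH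
  have hB : c * (g * b * g⁻¹) * c⁻¹ ∈ B := by
    rw [← e]; exact conj_mem_conjS.2 (conj_mem_conjS.2 (e ▸ h.bB))
  have x0Q := nm hg h.aQ
  have x0c := nc hg h.ac
  have vQ : v ∈ Q := nm hg h.wQ
  have e1 : c * (g * b * g⁻¹) * c⁻¹ * (g * a * g⁻¹) * (c * (g * b * g⁻¹) * c⁻¹)⁻¹ = v * (g * a * g⁻¹) := by
    calc _ = c * (g * b * g⁻¹ * (c⁻¹ * (g * a * g⁻¹) * c⁻¹⁻¹) * (g * b * g⁻¹)⁻¹) * c⁻¹ := by group
      _ = c * (g * (b * a * b⁻¹) * g⁻¹) * c⁻¹ := by rw [cj (cm hc x0Q).symm.inv_left]; group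
      _ = c * (v * (g * a * g⁻¹)) * c⁻¹ := by rw [h.ba, h.toBlk.comm.eq, conj_mul]
      _ = _ := cj (cm hc (mul_mem vQ x0Q)).symm
  have v1 : v ≠ 1 := fun e => h.w1 (by simpa [hv] using e)
  rcases actB h.toSm hB x0c with e2 | e2 <;> rw [e1] at e2
  · exact absurd (mul_eq_right.1 e2) v1
  · rcases actQ h x0Q with e3 | e3 <;> rw [e3] at e2
    · exact absurd (mul_eq_right.1 e2) v1
    · exact mul_right_cancel e2

theorem core (h : Cf S B Q a w k b t) (hγ : γ ∈ 𝒩[Q]) (eQ : e ∈ Q) (ee : e * e = 1) (γe : Commute γ e)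
    (be : Commute b e) (h1 : γ * w * γ⁻¹ = a * e * w)
    (h2 : b * (γ⁻¹ * w * γ) * b⁻¹ = γ⁻¹ * w * γ * w) : e = 1 := by
  have ae : Commute e a := cm h.ac eQ
  have f1 : γ * b * γ⁻¹ * e * (γ * b * γ⁻¹)⁻¹ = e := cj ((γe.mul_left be).mul_left γe.inv_left)
  have f2 : γ * b * γ⁻¹ * (a * e * w) * (γ * b * γ⁻¹)⁻¹ = a * e * w := by
    rw [← h1, show γ * b * γ⁻¹ * (γ * w * γ⁻¹) * (γ * b * γ⁻¹)⁻¹ = γ * (b * w * b⁻¹) * γ⁻¹ by group, cj h.toSm.bw]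
  have f3 : γ * b * γ⁻¹ * w * (γ * b * γ⁻¹)⁻¹ = w * (a * e * w) := by
    rw [← h1, show γ * b * γ⁻¹ * w * (γ * b * γ⁻¹)⁻¹ = γ * (b * (γ⁻¹ * w * γ) * b⁻¹) * γ⁻¹ by group, h2]
    group
  have f4 : a = a * e * w * w * e := by rw [mul_assoc (a * e), h.ww, mul_one, mul_assoc, ee, mul_one]
  have f5 : γ * b * γ⁻¹ * k * w * (γ * b * γ⁻¹ * k)⁻¹ = w * e := by
    calc _ = γ * b * γ⁻¹ * (k * w * k⁻¹) * (γ * b * γ⁻¹)⁻¹ := by group
      _ = γ * b * γ⁻¹ * (a * e * w * w * e) * (γ * b * γ⁻¹)⁻¹ := by rw [h.kw, ← f4]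
      _ = a * e * w * (w * (a * e * w)) * e := by rw [← conj_mul, ← conj_mul, f1, f2, f3]
      _ = a * e * (w * w) * a * e * w * e := by group
      _ = a * (e * a) * e * w * e := by rw [h.ww]; group
      _ = a * a * (e * e) * w * e := by rw [ae.eq]; group
      _ = w * e := by rw [h.aa, ee]; group
  have := core2 h (mul_mem (mul_mem (mul_mem hγ (h.toSm.QN h.bB)) (inv_mem hγ)) h.kN)
    (by rw [f5]; exact h.toSm.bw.mul_right be)
  rw [f5] at this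
  exact mul_eq_left.1 this

end Tb

open Tb

/-- `b` commutes with `n w n⁻¹`. -/
theorem Cf.fix_w (h : Cf S B Q a w k b t) (hB : n ∈ 𝒩[B]) (hQ : n ∈ 𝒩[Q]) : n * w * n⁻¹ = w := by
  refine core2 h hQ (of_cj ?_)
  rw [show b * (n * w * n⁻¹) * b⁻¹ = n * (n⁻¹ * b * n * w * (n⁻¹ * b * n)⁻¹) * n⁻¹ by group,
    cj (h.toSm.cw (nm' hB h.bB))]

/-- Two blocks with the same `w` have the same four-group. -/
theorem Cf.tb (h : Cf S B Q a w k b t) (h' : Blk Q a' w k') (ba : b * a' * b⁻¹ = a' * w)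
    (hD : ∀ d ∈ Q, d ∈ 𝒞[Q] → Commute k' d → Commute b d) : a' = a ∨ a' = a * w := by
  obtain ⟨u, hu, e, eQ, ke, hz⟩ := h'.split (mul_mem h'.aQ h.aQ)
  have he : e = u⁻¹ * (a' * a) := by rw [hz]; group
  have be : Commute b e := hD e eQ (he ▸ mul_mem (inv_mem (h'.Wc hu)) (mul_mem h'.ac h.ac)) ke
  have aw := h.toBlk.comm
  have aa' : Commute a' a := cm h.ac h'.aQ
  have a'w := h'.comm
  have bw := cj h.toSm.bw
  have bz : b * (a' * a) * b⁻¹ = a' * a := by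
    rw [← conj_mul, ba, h.ba, mul_assoc, ← mul_assoc w, ← aw.eq, mul_assoc a, h.ww, mul_one]
  have bu : b * u * b⁻¹ = u := by
    rw [hz, ← conj_mul, cj be] at bz
    exact mul_right_cancel bz
  have i1 : k'⁻¹ * w * k' = a' * w := by
    have := h'.kaw
    calc k'⁻¹ * w * k' = k'⁻¹ * (k' * (a' * w) * k'⁻¹) * k' := by rw [this]
      _ = _ := by group
  have i2 : k'⁻¹ * (a' * w) * k' = a' := by
    calc k'⁻¹ * (a' * w) * k' = k'⁻¹ * (k' * a' * k'⁻¹) * k' := by rw [h'.ka]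
      _ = _ := by group
  have ia : a⁻¹ = a := inv_eq_of_mul_eq_one_right h.aa
  have iw : w⁻¹ = w := inv_eq_of_mul_eq_one_right h.ww
  have zz : a' * a * (a' * a) = 1 := by rw [aa'.symm.mul_mul_mul_comm, h'.aa, h.aa, one_mul]
  rcases h'.mem.1 hu with hu | hu | hu | hu <;> rw [hu] at bu he
  · rw [inv_one, one_mul] at he
    have := core h (mul_mem h'.kN h'.kN) eQ (by rw [he, zz]) (ke.mul_left ke) be
      (by rw [show k' * k' * w * (k' * k')⁻¹ = k' * (k' * w * k'⁻¹) * k'⁻¹ by group, h'.kw, h'.ka, he, aa'.eq,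
        ← mul_assoc, h.aa, one_mul])
      (by rw [show (k' * k')⁻¹ * w * (k' * k') = k'⁻¹ * (k'⁻¹ * w * k') * k' by group, i1, i2, ba])
    rw [he] at this
    exact Or.inl (by rw [eq_inv_of_mul_eq_one_left this, ia])
  · rw [ba] at bu
    exact absurd (mul_eq_left.1 bu) h.w1
  · rw [iw] at he
    have wz : Commute w (a' * a) := a'w.symm.mul_right aw.symm
    have := core h h'.kN eQ (by rw [he, wz.symm.mul_mul_mul_comm, h.ww, zz, one_mul]) ke be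
      (by rw [h'.kw, he, wz.eq, aa'.eq, ← mul_assoc, ← mul_assoc, h.aa, one_mul, mul_assoc, h.ww, mul_one])
      (by rw [i1, ← conj_mul, ba, bw])
    rw [he, wz.eq, mul_assoc] at this
    exact Or.inr (by rw [eq_inv_of_mul_eq_one_left this, mul_inv_rev, ia, iw, aw.eq])
  · rw [← conj_mul, ba, bw] at bu
    exact absurd (mul_eq_left.1 bu) h.w1

/-- `tb` for the block conjugated by `n`. -/
theorem Cf.tbn (h : Cf S B Q a w k b t) (hB : n ∈ 𝒩[B]) (hQ : n ∈ 𝒩[Q]) :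
    n * a * n⁻¹ = a ∨ n * a * n⁻¹ = a * w := by
  have h' := h.toBlk.conj n
  have fw := h.fix_w hB hQ
  rw [mem_normalizer_iff_conjS.1 hQ, fw] at h'
  have b1 := nm' hB h.bB
  have b2 : n⁻¹ * b * n ∉ Q := fun e => h.bQ (by simpa [mul_assoc] using nm hQ e)
  refine h.tb h' ?_ fun d hd dc kd => of_cj ?_
  · rw [show b * (n * a * n⁻¹) * b⁻¹ = n * (n⁻¹ * b * n * a * (n⁻¹ * b * n)⁻¹) * n⁻¹ by group,
      h.toSm.conj_a b1 b2, ← conj_mul, fw]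
  · have d1 := nm (inv_mem hQ) hd
    have d2 := nc (inv_mem hQ) dc
    have d3 : Commute k (n⁻¹ * d * n⁻¹⁻¹) := of_cj (by
      rw [show k * (n⁻¹ * d * n⁻¹⁻¹) * k⁻¹ = n⁻¹ * (n * k * n⁻¹ * d * (n * k * n⁻¹)⁻¹) * n⁻¹⁻¹ by group, cj kd])
    have d4 : n⁻¹ * b * n * (n⁻¹ * d * n⁻¹⁻¹) * (n⁻¹ * b * n)⁻¹ = n⁻¹ * d * n⁻¹⁻¹ := by
      rcases actB h.toSm b1 d2 with e | e
      · exact e
      · rw [e, cj (h.bD _ d1 d3)]
    calc b * d * b⁻¹ = n * (n⁻¹ * b * n * (n⁻¹ * d * n⁻¹⁻¹) * (n⁻¹ * b * n)⁻¹) * n⁻¹ := by group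
      _ = d := by rw [d4]; group

end CfsgLib.OFP
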