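import Mathlib
import Cfsg.Agent.Lib.OFP.Tb
import Cfsg.Agent.Lib.OFP.Q1

set_option autoImplicit false
set_option linter.unusedSectionVars false

namespace CfsgLib.OFP

open Subgroup Cfsg CfsgLib.LAE CfsgLib.Push CfsgLib.Blocks CfsgLib.ZJ
open scoped commutatorElement

variable {Γ : Type*} [Group Γ] [Finite Γ]

variable {S B Q : Subgroup Γ} {a w k b t y : Γ}

theorem Cf.fin_bb (h : Cf S B Q a w k b t) : b * b = 1 := by
  rw [← h.ta, conj_mul, h.aa]; simp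

theorem Cf.fin_kw (h : Cf S B Q a w k b t) : ¬ Commute k w := fun e =>
  h.w1 (h.toBlk.eq_one (right_mem_WW a w) e)

theorem Cf.fin_ca (h : Cf S B Q a w k b t) (hy : y ∈ B) : y * a * y⁻¹ = a ∨ y * a * y⁻¹ = a * w := by
  by_cases hQ : y ∈ Q
  · left
    rw [h.ac y hQ, mul_inv_cancel_right]
  · exact Or.inr (h.toSm.conj_a hy hQ)

theorem Cf.fin_nQ (h : Cf S B Q a w k b t) {n : Γ} (hn : n ∈ 𝒩[B]) (hc : ∀ x ∈ Q, Commute (n * x * n⁻¹) a) :
    n ∈ 𝒩[Q] :=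
  mem_normalizer_of_conjS_le (conjS_le_iff_forall.2 fun x hx =>
    h.toSm.mem_Q (LAE.conj_mem_of_mem_normalizer hn (h.QB hx)) (hc x hx))

theorem Cf.fin_BQ1 (h : Cf S B Q a w k b t) : B ≤ 𝒩[S ⊓ 𝒞[WW a w]] :=
  le_normalizer_inf (h.BS.trans le_normalizer) (le_normalizer_centralizer h.toSm.BW)

/-- `b' = t b t⁻¹ = t² a t⁻² ∈ B` is an involution with `⁅y, b'⁆ ∈ {1, w}` for `y ∈ B`, and it does not commute with
`b = t a t⁻¹`. Every element of `B` is `u d` or `u d b` (`u ∈ W`, `d ∈ D = C_Q(k) ≤ C(a, b, w)`). If `b' = u d b`, then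
`u ∈ {a, a w}`, `b'² = d² (u b)² = d² w ≠ 1` (`w ∉ D`). So `b' = u d ∈ Q`, `u ∈ {a, a w}`; `⁅d', b'⁆ ∈ D ⊓ {1, w}` for
`d' ∈ D` shows `b' ∈ Z(Q)`; `t² Q t⁻² = C_B(b') = Q` (`≥ Q` and same order). Apply `tbn` to `t²`. -/
theorem Cf.tb' (h : Cf S B Q a w k b t) : t * b * t⁻¹ = a ∨ t * b * t⁻¹ = a * w := by
  have bb := h.fin_bb
  have hc := h.toBlk.comm
  have hb' : t * b * t⁻¹ ∈ B := LAE.conj_mem_of_mem_normalizer h.tB h.bB
  have e0 : t * b * t⁻¹ = (t * t) * a * (t * t)⁻¹ := by rw [← h.ta]; group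
  have hn : t * t ∈ 𝒩[B] := mul_mem h.tB h.tB
  have nw : (t * t) * w * (t * t)⁻¹ = w := by
    calc _ = t * (t * w * t⁻¹) * t⁻¹ := by group
      _ = w := by rw [h.tw, h.tw]
  have e1 : (t * b * t⁻¹) * b * (t * b * t⁻¹)⁻¹ = b * w := by
    calc _ = (t * b * t⁻¹) * (t * a * t⁻¹) * (t * b * t⁻¹)⁻¹ := by rw [h.ta]
      _ = t * (b * a * b⁻¹) * t⁻¹ := by group
      _ = _ := by rw [h.ba, ← conj_mul, h.ta, h.tw]
  have e2 : (t * b * t⁻¹) * (t * b * t⁻¹) = 1 := by rw [conj_mul, bb]; simp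
  have e3 : ∀ x ∈ B, x * (t * b * t⁻¹) * x⁻¹ = t * b * t⁻¹ ∨ x * (t * b * t⁻¹) * x⁻¹ = t * b * t⁻¹ * w := by
    intro x hx
    have e4 : x * (t * b * t⁻¹) * x⁻¹ =
        (t * t) * (((t * t)⁻¹ * x * (t * t)⁻¹⁻¹) * a * ((t * t)⁻¹ * x * (t * t)⁻¹⁻¹)⁻¹) * (t * t)⁻¹ := by
      rw [e0]; generalize t * t = n; group
    rcases h.fin_ca (LAE.conj_mem_of_mem_normalizer (inv_mem hn) hx) with e | e
    · left; rw [e4, e, e0]
    · right; rw [e4, e, ← conj_mul, nw, e0]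
  have hQ : t * b * t⁻¹ ∈ Q := by
    refine (h.idx _ hb').resolve_right fun hq => ?_
    obtain ⟨u, hu, d, hd, hkd, e⟩ := h.toBlk.split hq
    have bd := h.bD d hd hkd
    have ud : Commute u d := (h.toBlk.Wc hu d hd).symm
    have e5 : t * b * t⁻¹ = u * d * b := by rw [← e, mul_assoc _ b b, bb, mul_one]
    rw [e5] at e1 e2
    have e6 : u * b * u⁻¹ = b * w := by
      rw [← e1]
      calc _ = u * (d * b * d⁻¹) * u⁻¹ := by rw [← bd.eq, mul_inv_cancel_right]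
        _ = _ := by group
    have e7 : d * d * (u * u) * w⁻¹ = 1 := by
      have e8 : b * u = u * (b * w⁻¹) := by
        have : Commute u w := h.toBlk.Wc hu w h.wQ |>.symm
        calc b * u = b * w * u * w⁻¹ := by rw [mul_assoc b w u, ← this.eq]; group
          _ = _ := by rw [← e6]; group
      have wd : Commute w⁻¹ d := Commute.inv_left (h.wc d hd).symm
      have e9 : u * d * (b * u) * d * b = 1 := by rw [← e2]; simp only [mul_assoc]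
      rw [e8] at e9
      simp only [mul_assoc, ud.left_comm, bd.left_comm, wd.left_comm] at e9
      rw [← h.toSm.bw.inv_right.eq, ← mul_assoc b b, bb, one_mul] at e9
      simpa only [mul_assoc] using e9
    have uu : u * u = 1 := by
      rcases h.toBlk.mem.1 hu with rfl | rfl | rfl | rfl
      · simp
      · exact h.aa
      · exact h.ww
      · rw [← hc.mul_mul_mul_comm, h.aa, h.ww, one_mul]
    rw [uu, mul_one, mul_inv_eq_one] at e7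
    exact h.fin_kw (e7 ▸ hkd.mul_right hkd)
  have hZ : ∀ x ∈ Q, Commute x (t * b * t⁻¹) := by
    intro x hx
    rcases e3 x (h.QB hx) with e | e
    · exact mul_inv_eq_iff_eq_mul.1 e
    · have e4 : ⁅x, t * b * t⁻¹⁆ = w := by
        rw [commutatorElement_def, e, h.wc _ hQ, mul_inv_cancel_right]
      exact commutatorElement_eq_one_iff_commute.1
        (h.toBlk.comm_eq_one hx hQ (e4 ▸ right_mem_WW a w))
  rw [e0]
  refine h.tbn hn (inv_mem_iff.1 (h.fin_nQ (inv_mem hn) fun x hx => ?_))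
  have := (hZ x hx).conj (t * t)⁻¹
  rwa [e0, show (t * t)⁻¹ * (t * t * a * (t * t)⁻¹) * (t * t)⁻¹⁻¹ = a by group] at this

/-- `Q₁ = C_S(W)` is normalized by `B` and `k'` (`q1`), so `¬ AC Q₁` (`nac`); `HM` for `T = N_S(Q₁) ≥ B` gives
`y ∈ N(B)`, and `Q = B ⊓ Q₁`; `tbn`. -/
theorem Cf.nQ1 (h : Cf S B Q a w k b t) (hy : y ∈ S) (hn : y ∈ 𝒩[S ⊓ 𝒞[WW a w]]) :
    y * a * y⁻¹ = a ∨ y * a * y⁻¹ = a * w := by
  obtain ⟨k', h', -, -⟩ := h.q1
  have hna : ¬ AC (S ⊓ 𝒞[WW a w]) := nac h.aa h.ww h.w1 h.aw h.toBlk.comm h'.kw h'.ka h.ba h.toSm.bw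
    (two_of_mem h.pB h.bB) h'.wQ (h.fin_BQ1 h.bB) h'.kN
  have e := h.hm _ (S ⊓ 𝒩[S ⊓ 𝒞[WW a w]]) h.syl.isPGroup.to_inf_left hna h.syl.isPGroup.to_inf_left
    (le_inf h.BS h.fin_BQ1) inf_le_right
  have yB : y ∈ 𝒩[B] := by
    rw [← e]
    exact le_normalizer_bau _ ⟨hy, hn⟩
  refine h.tbn yB (h.fin_nQ yB fun x hx => ?_)
  have hx1 : x ∈ S ⊓ 𝒞[WW a w] := ⟨h.BS (h.QB hx), mem_cent_WW.2 ⟨(h.ac x hx).symm, (h.wc x hx).symm⟩⟩
  exact (mem_cent_WW.1 (LAE.conj_mem_of_mem_normalizer hn hx1).2).1.symm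

/-- `D₁ = C_{Q₁}(k')`. To see that `y ∈ D₁` commutes with `b`: `y ∈ N(B)` (`NW_le`), `q = ⁅y, b⁆ ∈ D₁ ⊓ B ≤ D`
(`b⁻¹`-invariance of `D₁` by finiteness), `y b y⁻¹ = q b`. `y` normalizes `D = D₁ ⊓ Q`, which centralizes `b`, so
`q b` and `q` centralize `D`, `q ∈ Z(B)`. Hence `y` normalizes `C_B(b) = t Q t⁻¹` and `n = t⁻¹ y t ∈ N(B) ⊓ N(Q)`;
`tbn` gives `y b y⁻¹ ∈ {b, b w}`, `q ∈ {1, w} ⊓ D = 1`. -/
theorem Cf.exists_ed (h : Cf S B Q a w k b t) : ∃ D : Subgroup Γ, Ed S D a b w t := by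
  obtain ⟨k', h', hk, hb⟩ := h.q1
  have kk : ∀ x ∈ Q, Commute k' x ↔ Commute k x := fun x hx => by
    rw [commute_iff_eq, commute_iff_eq, ← mul_inv_eq_iff_eq_mul, ← mul_inv_eq_iff_eq_mul, hk x hx]
  have mem : ∀ x, x ∈ (S ⊓ 𝒞[WW a w]) ⊓ centralizer {k'} ↔ x ∈ S ⊓ 𝒞[WW a w] ∧ Commute k' x := fun x => by
    rw [mem_inf, mem_centralizer_singleton_iff, commute_iff_eq, eq_comm]
  refine ⟨(S ⊓ 𝒞[WW a w]) ⊓ centralizer {k'}, h.syl.isPGroup, h.BS (h.QB h.aQ), h.BS h.bB, h.tS,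
    inf_le_left.trans inf_le_left, h.aa, h.ww, h.w1, h.toBlk.comm, h.toSm.bw, h.ba,
    fun d hd => (mem_cent_WW.1 hd.1.2).1, fun y hy => ?_,
    fun hw => h.w1 (h'.eq_one (right_mem_WW a w) ((mem w).1 hw).2), fun x hx ha hw => ?_,
    fun y hy hn => h.nQ1 hy hn, h.ta, h.tw, h.tb'⟩
  · obtain ⟨y1, ky⟩ := (mem y).1 hy
    have yB : y ∈ 𝒩[B] := h.NW_le ⟨y1.1, centralizer_le_normalizer _ y1.2⟩
    have yQ : y ∈ 𝒩[Q] := h.Q1_le y1
    obtain ⟨q, hq⟩ : ∃ q, q = y * (b * y⁻¹ * b⁻¹) := ⟨_, rfl⟩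
    have e1 : y * b * y⁻¹ = q * b := by rw [hq]; group
    have q1 : q ∈ S ⊓ 𝒞[WW a w] :=
      hq ▸ mul_mem y1 (LAE.conj_mem_of_mem_normalizer (h.fin_BQ1 h.bB) (inv_mem y1))
    have qB : q ∈ B := by
      have := LAE.conj_mem_of_mem_normalizer yB h.bB
      rwa [e1, B.mul_mem_cancel_right h.bB] at this
    have qQ : q ∈ Q := h.toSm.mem_Q qB (mem_cent_WW.1 q1.2).1.symm
    have kq : Commute k q := (kk q qQ).1 (hq ▸ ky.mul_right (hb _ (inv_mem y1) ky.inv_right))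
    have bq := h.bD q qQ kq
    have cQ : ∀ x ∈ Q, Commute x q := by
      intro x hx
      obtain ⟨u, hu, d, hd, hkd, rfl⟩ := h.toBlk.split hx
      refine Commute.mul_left (q1.2 u hu) ?_
      have d1 : y⁻¹ * d * y⁻¹⁻¹ ∈ Q := LAE.conj_mem_of_mem_normalizer (inv_mem yQ) hd
      have d2 := (h.bD _ d1 ((kk _ d1).1
        ((ky.inv_right.mul_right ((kk d hd).2 hkd)).mul_right ky.inv_right.inv_right))).conj y
      rw [e1, show y * (y⁻¹ * d * y⁻¹⁻¹) * y⁻¹ = d by group] at d2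
      have := d2.mul_left (h.bD d hd hkd).inv_left
      rw [mul_inv_cancel_right] at this
      exact this.symm
    have cB : ∀ x ∈ B, Commute x q := by
      intro x hx
      rcases h.idx x hx with e | e
      · exact cQ x e
      · have := (cQ _ e).mul_left bq.inv_left
        rwa [mul_inv_cancel_right] at this
    have nB : t⁻¹ * y * t ∈ 𝒩[B] := mul_mem (mul_mem (inv_mem h.tB) yB) h.tB
    have nQ : t⁻¹ * y * t ∈ 𝒩[Q] := by
      refine h.fin_nQ nB fun x hx => ?_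
      have x1 : Commute (t * x * t⁻¹) b := h.ta ▸ Commute.conj (h.ac x hx) t
      have x2 := x1.conj y
      rw [e1] at x2
      have x3 := (cB _ (LAE.conj_mem_of_mem_normalizer yB
        (LAE.conj_mem_of_mem_normalizer h.tB (h.QB hx)))).inv_right.mul_right x2
      rw [inv_mul_cancel_left, ← h.ta] at x3
      have x4 := x3.conj t⁻¹
      rw [show t⁻¹ * (t * a * t⁻¹) * t⁻¹⁻¹ = a by group] at x4
      convert x4 using 1
      group
    have e2 : y * b * y⁻¹ = t * ((t⁻¹ * y * t) * a * (t⁻¹ * y * t)⁻¹) * t⁻¹ := by rw [← h.ta]; group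
    rcases h.tbn nB nQ with e | e
    · rw [e, h.ta, mul_inv_eq_iff_eq_mul] at e2
      exact e2.symm
    · rw [e, ← conj_mul, h.ta, h.tw, e1, h.toSm.bw.eq, mul_left_inj] at e2
      exact absurd (e2 ▸ kq) h.fin_kw
  · obtain ⟨u, hu, d, hd, hkd, e⟩ := h'.split (x := x) ⟨hx, mem_cent_WW.2 ⟨ha, hw⟩⟩
    exact ⟨u, hu, d, (mem d).2 ⟨hd, hkd⟩, e⟩

end CfsgLib.OFP
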