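import Mathlib
import Cfsg.Agent.Lib.OFP.Fin
import Cfsg.Agent.Lib.OFP.End1

/-!
The `q = 2` configuration with an abstract maximality property of the Baumann subgroup.
-/

set_option autoImplicit false
set_option linter.unusedSectionVars false

namespace CfsgLib.OFP

open Subgroup Cfsg CfsgLib.LAE CfsgLib.Push CfsgLib.Blocks CfsgLib.ZJ
open scoped commutatorElement

variable {Γ : Type*} [Group Γ]

/-- As `Cf`, but the maximality of `B` is only required for the overgroups `U` of `Q` in `S` normalized by an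
element acting on `Q` as `k`. -/
structure CfA (S B Q : Subgroup Γ) (a w k b t : Γ) : Prop extends Sm B Q a w k b where
  syl : IsSylowIn 2 S ⊤
  BS : B ≤ S
  hm : ∀ (U T : Subgroup Γ) (k' : Γ), Q ≤ U → U ≤ S → k' ∈ 𝒩[U] → k'⁻¹ * k ∈ 𝒞[Q] → IsPGroup 2 T → B ≤ T →
    T ≤ 𝒩[U] → bau 2 T = B
  bD : ∀ d ∈ Q, Commute k d → Commute b d
  tS : t ∈ S
  tB : t ∈ 𝒩[B]
  tw : t * w * t⁻¹ = w
  ta : t * a * t⁻¹ = b

/-- The maximality property for `Q`. -/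
def HQ (B Q : Subgroup Γ) : Prop := ∀ T : Subgroup Γ, IsPGroup 2 T → B ≤ T → T ≤ 𝒩[Q] → bau 2 T = B

variable [Finite Γ] {S B Q H R : Subgroup Γ} {a w k b t u x y n a' k' g e γ : Γ}

theorem CfA.hq (h : CfA S B Q a w k b t) : HQ B Q := fun T =>
  h.hm Q T k le_rfl (h.QB.trans h.BS) h.kN (by rw [inv_mul_cancel]; exact one_mem _)

theorem Sm.wcaA (h : Sm B Q a w k b) (hm : HQ B Q) (hH : H ≤ 𝒩[Q]) (hB : B ≤ H) (h2 : ∀ x ∈ H, P2 Q x) :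
    (∀ x ∈ H, ∃ c ∈ 𝒞[Q], ∃ s ∈ 𝒩[B], x = c * s) ∧
      ∀ g : Γ, conjS g B ≤ H → ∃ c ∈ 𝒞[Q], conjS c (conjS g B) = B := by
  obtain ⟨T, hT, hBT⟩ := exists_isSylowIn_ge h.pB (hB.trans (le_sup_left (b := 𝒞[Q])))
  have hN : H ⊔ 𝒞[Q] ≤ 𝒩[Q] := sup_le hH (centralizer_le_normalizer _)
  have hb : bau 2 T = B := hm T hT.isPGroup hBT (hT.le.trans hN)
  have hTB : T ≤ 𝒩[B] := hb ▸ le_normalizer_bau T
  refine ⟨fun x hx => ?_, fun g hg => ?_⟩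
  · obtain ⟨c, hc, s, hs, e⟩ := exists_cent_mul hH h2 hT (mem_sup_left hx)
    exact ⟨c, hc, s, hTB hs, e⟩
  · obtain ⟨y, hy, hle⟩ := hT.exists_conj_le (isPGroup_conjS h.pB g) (hg.trans le_sup_left)
    obtain ⟨c, hc, s, hs, e⟩ := exists_cent_mul hH h2 hT (inv_mem hy)
    rw [← conjS_mul] at hle
    have h1 := wc0 hb hle
    refine ⟨c⁻¹, inv_mem hc, ?_⟩
    have e' : c⁻¹ = s * y := by
      rw [← inv_inv y, e]; group
    rw [e', conjS_mul, ← conjS_mul y, h1, mem_normalizer_iff_conjS.1 (hTB hs)]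

theorem Sm.cen2A (h : Sm B Q a w k b) (hm : HQ B Q) (hx : x ∈ 𝒞[Q]) (h2 : Two x) : x ∈ Q := by
  obtain ⟨T, hT, hBT⟩ := exists_isSylowIn_ge h.pB (le_sup_left (b := 𝒞[Q]))
  have hN : B ⊔ 𝒞[Q] ≤ 𝒩[Q] := sup_le h.QN (centralizer_le_normalizer _)
  have hb : bau 2 T = B := hm T hT.isPGroup hBT (hT.le.trans hN)
  have hz : zj 2 T ≤ Q := fun z hz =>
    h.mem_Q (hb ▸ zj_le_bau T hz) (bau_le_centralizer T (hb ▸ h.QB h.aQ) z hz)
  have h1 : T ⊓ 𝒞[Q] ≤ Q := fun y hy =>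
    h.mem_Q (hb ▸ ⟨hy.1, centralizer_anti hz hy.2⟩) (hy.2 a h.aQ).symm
  have h3 := hT.inf_centralizer (hT.le.trans hN)
  rw [inf_eq_right.2 (le_sup_right (a := B))] at h3
  exact h1 (h3.le_of_normalizes h2.isPGroup (zpowers_le.2 hx)
    (zpowers_le.2 (centralizer_le_normalizer _ (centralizer_anti h1 hx))) (mem_zpowers x))

theorem CfA.wca_key (h : CfA S B Q a w k b t) (hu : u ∈ wcaU Q a w) {d : Γ} (hd : d ∈ Q)
    (hk : Commute k d) : ⁅u, d⁆ = 1 ∨ ⁅u, d⁆ = w := by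
  have hs := h.toSm
  have hBU : B ≤ 𝒩[wcaU Q a w] := fun x hx => wcaU_normalizer (hs.QN hx) (hs.BW hx)
  have hH : wcaU Q a w ⊔ B ≤ 𝒩[Q] := sup_le (fun x hx => hx.1) hs.QN
  have h2 : ∀ x ∈ wcaU Q a w ⊔ B, P2 Q x := by
    intro x hx
    rw [← SetLike.mem_coe, coe_mul_of_right_le_normalizer_left _ _ hBU] at hx
    obtain ⟨v, hv, y, hy, rfl⟩ := hx
    obtain ⟨n, hn⟩ := two_of_mem hs.pB hy
    have h3 := wca_pow hv (hBU hy) (2 ^ n)
    rw [hn, inv_one, mul_one] at h3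
    exact ⟨n + 1, by rw [pow_succ, pow_mul]; exact hs.toBlk.wcaU_sq h3⟩
  obtain ⟨c, hc, s, hsB, e⟩ := (hs.wcaA h.hq hH le_sup_right h2).1 u (mem_sup_left hu)
  have hb' : s * b * s⁻¹ ∈ B := (mem_normalizer_iff.1 hsB b).1 hs.bB
  have hq : ⁅s, b⁆ ∈ B := mul_mem hb' (inv_mem hs.bB)
  have hc' : c * ((s * b * s⁻¹) * c⁻¹ * (s * b * s⁻¹)⁻¹) ∈ 𝒞[Q] :=
    mul_mem hc ((mem_normalizer_iff.1 (normalizer_le_normalizer_centralizer _ (hs.QN hb')) _).1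
      (inv_mem hc))
  have e1 : ⁅u, b⁆ = c * ((s * b * s⁻¹) * c⁻¹ * (s * b * s⁻¹)⁻¹) * ⁅s, b⁆ := by
    rw [e]; simp only [commutatorElement_def]; group
  have hub : ⁅u, b⁆ ∈ wcaU Q a w := by
    have e2 : ⁅u, b⁆ = u * (b * u⁻¹ * b⁻¹) := by simp only [commutatorElement_def]; group
    rw [e2]
    exact mul_mem hu ((mem_normalizer_iff.1 (hBU hs.bB) _).1 (inv_mem hu))
  generalize c * ((s * b * s⁻¹) * c⁻¹ * (s * b * s⁻¹)⁻¹) = c' at hc' e1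
  generalize ⁅s, b⁆ = q at hq e1
  have hqQ : q ∈ Q := by
    refine hs.mem_Q hq ?_
    have e3 : q = c'⁻¹ * ⁅u, b⁆ := by rw [e1]; group
    rw [e3]
    exact Commute.mul_left (Commute.inv_left (hc' a hs.aQ).symm)
      (hub.2.1 a (left_mem_WW a w)).symm
  have hcom : ∀ {e y : Γ}, e ∈ 𝒞[Q] → y ∈ 𝒩[Q] → ∀ x ∈ Q, ⁅e * y, x⁆ = ⁅y, x⁆ := by
    intro e y he hy x hx
    have := he _ ((mem_normalizer_iff.1 hy x).1 hx)
    calc ⁅e * y, x⁆ = (e * (y * x * y⁻¹)) * e⁻¹ * x⁻¹ := by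
          simp only [commutatorElement_def]; group
      _ = ⁅y, x⁆ := by rw [← this]; simp only [commutatorElement_def]; group
  have hqC : q ∈ 𝒞[Q] := fun x hx => by
    have h3 := hub.2.2 x hx
    rw [e1, hcom hc' (le_normalizer hqQ) x hx] at h3
    exact (commutatorElement_eq_one_iff_mul_comm.1 (hs.toBlk.comm_eq_one hqQ hx h3)).symm
  have hubC : ⁅u, b⁆ ∈ 𝒞[Q] := e1 ▸ mul_mem hc' hqC
  have h4 : b * ⁅u, d⁆ * b⁻¹ = ⁅u, d⁆ := by
    have h5 := (h.bD d hd hk).eq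
    have h6 : b * d * b⁻¹ = d := by rw [h5, mul_inv_cancel_right]
    calc b * ⁅u, d⁆ * b⁻¹ = ⁅⁅u, b⁆⁻¹ * u, b * d * b⁻¹⁆ := by
          simp only [commutatorElement_def]; group
      _ = ⁅u, d⁆ := by rw [h6, hcom (inv_mem hubC) hu.1 d hd]
  rcases hs.toBlk.mem.1 (hu.2.2 d hd) with e | e | e | e
  · exact Or.inl e
  · rw [e, hs.ba] at h4
    exact absurd (mul_eq_left.1 h4) hs.w1
  · exact Or.inr e
  · exfalso
    have h7 : b * (a * w) * b⁻¹ = (b * a * b⁻¹) * (b * w * b⁻¹) := by group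
    rw [e, h7, hs.ba, hs.bw.eq, mul_inv_cancel_right] at h4
    exact hs.w1 (mul_eq_left.1 h4)

theorem CfA.one (h : CfA S B Q a w k b t) (hu : u ∈ 𝒩[Q]) (ha : Commute u a) (hw : Commute u w)
    (hQ : ∀ x ∈ Q, ⁅u, x⁆ ∈ WW a w) : u ∈ 𝒞[Q] := by
  have hb := h.toSm.toBlk
  have hU : u ∈ wcaU Q a w := ⟨hu, mem_cent_WW.2 ⟨ha.symm, hw.symm⟩, hQ⟩
  intro x hx
  obtain ⟨v, hv, d, hd, hk, rfl⟩ := hb.split hx
  have h1 : ⁅u, d⁆ = 1 := by
    rcases h.wca_key hU hd hk with e | e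
    · exact e
    · exfalso
      have h2 := h.wca_key (wcaU_conj hb.kN hb.kW hU) hd hk
      have h3 : k * d * k⁻¹ = d := by rw [hk.eq, mul_inv_cancel_right]
      have h4 : ⁅k * u * k⁻¹, k * d * k⁻¹⁆ = k * ⁅u, d⁆ * k⁻¹ := by
        simp only [commutatorElement_def]; group
      rw [h3, e, hb.kw] at h4
      rw [h4] at h2
      exact h2.elim hb.a1 hb.aw
  have h5 : Commute v u := hU.2.1 v hv
  exact (h5.mul_left (Commute.symm (commutatorElement_eq_one_iff_commute.1 h1))).eq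

namespace TbA

open Tb hiding actQ core2 core

theorem actQ (h : CfA S B Q a w k b t) (hx : x ∈ Q) : b * x * b⁻¹ = x ∨ b * x * b⁻¹ = w * x := by
  obtain ⟨u, hu, d, hd, hc, rfl⟩ := h.toBlk.split hx
  have e1 : b * (u * d) * b⁻¹ = b * u * b⁻¹ * d := by
    rw [← mul_assoc, mul_assoc (b * u), ← (h.bD d hd hc).inv_left.eq, ← mul_assoc]
  have hw := cj h.toSm.bw
  have hc := h.toBlk.comm.eq
  rw [e1]
  rcases h.toBlk.mem.1 hu with hu | hu | hu | hu <;> rw [hu]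
  · left; simp
  · right; rw [h.ba, hc, mul_assoc]
  · left; rw [hw]
  · right; rw [← conj_mul, h.ba, hw, ← mul_assoc, ← mul_assoc, ← hc]

theorem core2 (h : CfA S B Q a w k b t) (hg : g ∈ 𝒩[Q]) (hb : Commute b (g * w * g⁻¹)) : g * w * g⁻¹ = w := by
  set v := g * w * g⁻¹ with hv
  have vv : v * v = 1 := by rw [hv, conj_mul, h.ww]; simp
  have vc : v ∈ 𝒞[Q] := nc hg h.wc
  have vw : Commute v w := (cm vc h.wQ).symm
  have QH : Q ≤ HH Q v w vv := fun y hy =>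
    ⟨y, le_normalizer hy, cj (cm vc hy), Or.inl (cj (cm h.wc hy)), hy, fun x _ => ⟨1, one_mem _, (one_mul _).symm⟩⟩
  have bN := h.toSm.QN h.bB
  have bH : b ∈ HH Q v w vv := ⟨1, bN, cj hb, Or.inl (cj h.toSm.bw), one_mem _, fun x hx => by
    rcases actQ h hx with e | e
    · exact ⟨1, one_mem _, by simpa using e⟩
    · exact ⟨w, right_mem_WW _ _, by simpa using e⟩⟩
  have act3 : ∀ x ∈ Q, g * b * g⁻¹ * x * (g * b * g⁻¹)⁻¹ = x ∨ g * b * g⁻¹ * x * (g * b * g⁻¹)⁻¹ = v * x :=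
    fun x hx => by
      rw [show g * b * g⁻¹ * x * (g * b * g⁻¹)⁻¹ = g * (b * (g⁻¹ * x * g) * b⁻¹) * g⁻¹ by group]
      rcases actQ h (nm' hg hx) with e | e <;> rw [e]
      · left; group
      · right; rw [hv]; group
  have b3H : g * b * g⁻¹ ∈ HH Q v w vv := ⟨1, mul_mem (mul_mem hg bN) (inv_mem hg), by
    rw [hv, show g * b * g⁻¹ * (g * w * g⁻¹) * (g * b * g⁻¹)⁻¹ = g * (b * w * b⁻¹) * g⁻¹ by group, cj h.toSm.bw],
    act3 w h.wQ, one_mem _, fun x hx => by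
      rcases act3 x hx with e | e
      · exact ⟨1, one_mem _, by rw [e]; simp⟩
      · exact ⟨v, left_mem_WW _ _, by rw [e]; simp⟩⟩
  have BH : B ≤ HH Q v w vv := fun y hy => by
    rcases h.idx y hy with e | e
    · exact QH e
    · simpa using mul_mem (QH e) (inv_mem bH)
  have gBH : conjS g B ≤ HH Q v w vv := conjS_le_iff_forall.2 fun y hy => by
    rcases h.idx y hy with e | e
    · exact QH (nm hg e)
    · rw [show g * y * g⁻¹ = g * (y * b) * g⁻¹ * (g * b * g⁻¹)⁻¹ by group]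
      exact mul_mem (QH (nm hg e)) (inv_mem b3H)
  obtain ⟨c, hc, e⟩ := (h.toSm.wcaA h.hq (H := HH Q v w vv) (fun y ⟨_, r⟩ => r.yN) BH
    fun y ⟨_, r⟩ => r.p2 vv h.ww vw (h.pB.to_le h.QB)).2 g gBH
  have hB : c * (g * b * g⁻¹) * c⁻¹ ∈ B := by
    rw [← e]; exact conj_mem_conjS.2 (conj_mem_conjS.2 (e ▸ h.bB))
  have x0Q := nm hg h.aQ
  have x0c := nc hg h.ac
  have vQ : v ∈ Q := nm hg h.wQ
  have e1 : c * (g * b * g⁻¹) * c⁻¹ * (g * a * g⁻¹) * (c * (g * b * g⁻¹) * c⁻¹)⁻¹ = v * (g * a * g⁻¹) := by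
    calc _ = c * (g * b * g⁻¹ * (c⁻¹ * (g * a * g⁻¹) * c⁻¹⁻¹) * (g * b * g⁻¹)⁻¹) * c⁻¹ := by group
      _ = c * (g * (b * a * b⁻¹) * g⁻¹) * c⁻¹ := by rw [cj (cm hc x0Q).symm.inv_left]; group
      _ = c * (v * (g * a * g⁻¹)) * c⁻¹ := by rw [h.ba, h.toBlk.comm.eq, conj_mul]
      _ = _ := cj (cm hc (mul_mem vQ x0Q)).symm
  have v1 : v ≠ 1 := fun e => h.w1 (by simpa [hv] using e)
  rcases actB h.toSm hB x0c with e2 | e2 <;> rw [e1] at e2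
  · exact absurd (mul_eq_right.1 e2) v1
  · rcases actQ h x0Q with e3 | e3 <;> rw [e3] at e2
    · exact absurd (mul_eq_right.1 e2) v1
    · exact mul_right_cancel e2

theorem core (h : CfA S B Q a w k b t) (hγ : γ ∈ 𝒩[Q]) (eQ : e ∈ Q) (ee : e * e = 1) (γe : Commute γ e)
    (be : Commute b e) (h1 : γ * w * γ⁻¹ = a * e * w)
    (h2 : b * (γ⁻¹ * w * γ) * b⁻¹ = γ⁻¹ * w * γ * w) : e = 1 := by
  have ae : Commute e a := cm h.ac eQ
  have f1 : γ * b * γ⁻¹ * e * (γ * b * γ⁻¹)⁻¹ = e := cj ((γe.mul_left be).mul_left γe.inv_left)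
  have f2 : γ * b * γ⁻¹ * (a * e * w) * (γ * b * γ⁻¹)⁻¹ = a * e * w := by
    rw [← h1, show γ * b * γ⁻¹ * (γ * w * γ⁻¹) * (γ * b * γ⁻¹)⁻¹ = γ * (b * w * b⁻¹) * γ⁻¹ by group, cj h.toSm.bw]
  have f3 : γ * b * γ⁻¹ * w * (γ * b * γ⁻¹)⁻¹ = w * (a * e * w) := by
    rw [← h1, show γ * b * γ⁻¹ * w * (γ * b * γ⁻¹)⁻¹ = γ * (b * (γ⁻¹ * w * γ) * b⁻¹) * γ⁻¹ by group, h2]
    group
  have f4 : a = a * e * w * w * e := by rw [mul_assoc (a * e), h.ww, mul_one, mul_assoc, ee, mul_one]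
  have f5 : γ * b * γ⁻¹ * k * w * (γ * b * γ⁻¹ * k)⁻¹ = w * e := by
    calc _ = γ * b * γ⁻¹ * (k * w * k⁻¹) * (γ * b * γ⁻¹)⁻¹ := by group
      _ = γ * b * γ⁻¹ * (a * e * w * w * e) * (γ * b * γ⁻¹)⁻¹ := by rw [h.kw, ← f4]
      _ = a * e * w * (w * (a * e * w)) * e := by rw [← conj_mul, ← conj_mul, f1, f2, f3]
      _ = a * e * (w * w) * a * e * w * e := by group
      _ = a * (e * a) * e * w * e := by rw [h.ww]; group
      _ = a * a * (e * e) * w * e := by rw [ae.eq]; group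
      _ = w * e := by rw [h.aa, ee]; group
  have := core2 h (mul_mem (mul_mem (mul_mem hγ (h.toSm.QN h.bB)) (inv_mem hγ)) h.kN)
    (by rw [f5]; exact h.toSm.bw.mul_right be)
  rw [f5] at this
  exact mul_eq_left.1 this

end TbA

open Tb hiding actQ core2 core
open TbA

theorem CfA.fix_w (h : CfA S B Q a w k b t) (hB : n ∈ 𝒩[B]) (hQ : n ∈ 𝒩[Q]) : n * w * n⁻¹ = w := by
  refine core2 h hQ (of_cj ?_)
  rw [show b * (n * w * n⁻¹) * b⁻¹ = n * (n⁻¹ * b * n * w * (n⁻¹ * b * n)⁻¹) * n⁻¹ by group,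
    cj (h.toSm.cw (nm' hB h.bB))]

theorem CfA.tb (h : CfA S B Q a w k b t) (h' : Blk Q a' w k') (ba : b * a' * b⁻¹ = a' * w)
    (hD : ∀ d ∈ Q, d ∈ 𝒞[Q] → Commute k' d → Commute b d) : a' = a ∨ a' = a * w := by
  obtain ⟨u, hu, e, eQ, ke, hz⟩ := h'.split (mul_mem h'.aQ h.aQ)
  have he : e = u⁻¹ * (a' * a) := by rw [hz]; group
  have be : Commute b e := hD e eQ (he ▸ mul_mem (inv_mem (h'.Wc hu)) (mul_mem h'.ac h.ac)) ke
  have aw := h.toBlk.comm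
  have aa' : Commute a' a := cm h.ac h'.aQ
  have a'w := h'.comm
  have bw := cj h.toSm.bw
  have bz : b * (a' * a) * b⁻¹ = a' * a := by
    rw [← conj_mul, ba, h.ba, mul_assoc, ← mul_assoc w, ← aw.eq, mul_assoc a, h.ww, mul_one]
  have bu : b * u * b⁻¹ = u := by
    rw [hz, ← conj_mul, cj be] at bz
    exact mul_right_cancel bz
  have i1 : k'⁻¹ * w * k' = a' * w := by
    have := h'.kaw
    calc k'⁻¹ * w * k' = k'⁻¹ * (k' * (a' * w) * k'⁻¹) * k' := by rw [this]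
      _ = _ := by group
  have i2 : k'⁻¹ * (a' * w) * k' = a' := by
    calc k'⁻¹ * (a' * w) * k' = k'⁻¹ * (k' * a' * k'⁻¹) * k' := by rw [h'.ka]
      _ = _ := by group
  have ia : a⁻¹ = a := inv_eq_of_mul_eq_one_right h.aa
  have iw : w⁻¹ = w := inv_eq_of_mul_eq_one_right h.ww
  have zz : a' * a * (a' * a) = 1 := by rw [aa'.symm.mul_mul_mul_comm, h'.aa, h.aa, one_mul]
  rcases h'.mem.1 hu with hu | hu | hu | hu <;> rw [hu] at bu he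
  · rw [inv_one, one_mul] at he
    have := core h (mul_mem h'.kN h'.kN) eQ (by rw [he, zz]) (ke.mul_left ke) be
      (by rw [show k' * k' * w * (k' * k')⁻¹ = k' * (k' * w * k'⁻¹) * k'⁻¹ by group, h'.kw, h'.ka, he, aa'.eq,
        ← mul_assoc, h.aa, one_mul])
      (by rw [show (k' * k')⁻¹ * w * (k' * k') = k'⁻¹ * (k'⁻¹ * w * k') * k' by group, i1, i2, ba])
    rw [he] at this
    exact Or.inl (by rw [eq_inv_of_mul_eq_one_left this, ia])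
  · rw [ba] at bu
    exact absurd (mul_eq_left.1 bu) h.w1
  · rw [iw] at he
    have wz : Commute w (a' * a) := a'w.symm.mul_right aw.symm
    have := core h h'.kN eQ (by rw [he, wz.symm.mul_mul_mul_comm, h.ww, zz, one_mul]) ke be
      (by rw [h'.kw, he, wz.eq, aa'.eq, ← mul_assoc, ← mul_assoc, h.aa, one_mul, mul_assoc, h.ww, mul_one])
      (by rw [i1, ← conj_mul, ba, bw])
    rw [he, wz.eq, mul_assoc] at this
    exact Or.inr (by rw [eq_inv_of_mul_eq_one_left this, mul_inv_rev, ia, iw, aw.eq])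
  · rw [← conj_mul, ba, bw] at bu
    exact absurd (mul_eq_left.1 bu) h.w1

theorem CfA.tbn (h : CfA S B Q a w k b t) (hB : n ∈ 𝒩[B]) (hQ : n ∈ 𝒩[Q]) :
    n * a * n⁻¹ = a ∨ n * a * n⁻¹ = a * w := by
  have h' := h.toBlk.conj n
  have fw := h.fix_w hB hQ
  rw [mem_normalizer_iff_conjS.1 hQ, fw] at h'
  have b1 := nm' hB h.bB
  have b2 : n⁻¹ * b * n ∉ Q := fun e => h.bQ (by simpa [mul_assoc] using nm hQ e)
  refine h.tb h' ?_ fun d hd dc kd => of_cj ?_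
  · rw [show b * (n * a * n⁻¹) * b⁻¹ = n * (n⁻¹ * b * n * a * (n⁻¹ * b * n)⁻¹) * n⁻¹ by group,
      h.toSm.conj_a b1 b2, ← conj_mul, fw]
  · have d1 := nm (inv_mem hQ) hd
    have d2 := nc (inv_mem hQ) dc
    have d3 : Commute k (n⁻¹ * d * n⁻¹⁻¹) := of_cj (by
      rw [show k * (n⁻¹ * d * n⁻¹⁻¹) * k⁻¹ = n⁻¹ * (n * k * n⁻¹ * d * (n * k * n⁻¹)⁻¹) * n⁻¹⁻¹ by group, cj kd])
    have d4 : n⁻¹ * b * n * (n⁻¹ * d * n⁻¹⁻¹) * (n⁻¹ * b * n)⁻¹ = n⁻¹ * d * n⁻¹⁻¹ := by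
      rcases actB h.toSm b1 d2 with e | e
      · exact e
      · rw [e, cj (h.bD _ d1 d3)]
    calc b * d * b⁻¹ = n * (n⁻¹ * b * n * (n⁻¹ * d * n⁻¹⁻¹) * (n⁻¹ * b * n)⁻¹) * n⁻¹ := by group
      _ = d := by rw [d4]; group

theorem CfA.q1_ge (h : CfA S B Q a w k b t) : Q ≤ S ⊓ 𝒞[WW a w] :=
  le_inf (h.QB.trans h.BS) (le_centralizer_iff.1 h.toBlk.Wc)

theorem CfA.q1_comm' (h : CfA S B Q a w k b t) (hg : Blk Q a w g) (hy : y ∈ 𝒞[WW a w])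
    (yQ : y ∈ 𝒩[Q]) :
    ⁅g, y⁆ ∈ 𝒞[Q] := by
  have yW : y ∈ 𝒩[WW a w] := centralizer_le_normalizer _ hy
  have hC : ⁅g, y⁆ ∈ 𝒞[WW a w] := by
    rw [commutatorElement_def]
    exact mul_mem (LAE.conj_mem_of_mem_normalizer (normalizer_le_normalizer_centralizer _ hg.kW) hy) (inv_mem hy)
  have e : ⁅g, y⁆ = g * (y * g⁻¹ * y⁻¹) := by simp only [commutatorElement_def]; group
  refine h.one ?_ (mem_cent_WW.1 hC).1.symm (mem_cent_WW.1 hC).2.symm ?_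
  · rw [e]
    exact mul_mem hg.kN (mul_mem (mul_mem yQ (inv_mem hg.kN)) (inv_mem yQ))
  · rw [e]
    exact q1_mul hg.kW hg.kQ (q1_conj yQ yW (q1_inv hg.kW hg.kQ))

theorem CfA.q1_split (h : CfA S B Q a w k b t) :
    Odd (Nat.card (pResOf 2 𝒞[Q])) ∧ ∀ c ∈ 𝒞[Q], ∃ z ∈ Q, ∃ o ∈ pResOf 2 𝒞[Q], c = z * o :=
  split (h.pB.to_le h.QB) fun _ hx h2 => h.toSm.cen2A h.hq hx h2

theorem CfA.q1_exists' (h : CfA S B Q a w k b t) (QR : Q ≤ R) (p1 : IsPGroup 2 R) (RC : R ≤ 𝒞[WW a w])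
    (RN : R ≤ 𝒩[Q]) : ∃ g ∈ 𝒩[R], Odd (orderOf g) ∧
    ∀ x ∈ Q, g * x * g⁻¹ = k * x * k⁻¹ := by
  have : Fact (Nat.Prime 2) := ⟨Nat.prime_two⟩
  obtain ⟨hO, hs⟩ := h.q1_split
  have hn : R ≤ 𝒩[pResOf 2 𝒞[Q]] := RN.trans q1_NO
  have hle : conjS k R ≤ R ⊔ pResOf 2 𝒞[Q] := by
    refine conjS_le_iff_forall.2 fun y hy => ?_
    obtain ⟨z, hz, o, ho, e⟩ := hs _ (h.q1_comm' h.toBlk (RC hy) (RN hy))
    have e' : k * y * k⁻¹ = z * o * y := by rw [← e, commutatorElement_def]; group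
    rw [e']
    exact mul_mem (mul_mem (mem_sup_left (QR hz)) (mem_sup_right ho)) (mem_sup_left hy)
  obtain ⟨n, hn', hc⟩ := (q1_syl p1 hO hn).exists_conj_le (isPGroup_conjS p1 k) hle
  rw [← conjS_mul] at hc
  obtain ⟨y, hy, o, ho, rfl⟩ := (mem_sup_iff_of_left_le_normalizer hn).1 hn'
  have h1 : o * k ∈ 𝒩[R] := by
    have := mem_normalizer_of_conjS_le hc
    rw [mul_assoc] at this
    exact (mul_mem_cancel_left (le_normalizer hy)).1 this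
  have h2 : ∀ x ∈ Q, o * k * x * (o * k)⁻¹ = k * x * k⁻¹ := by
    intro x hx
    have hc := mem_centralizer_iff.1 (pResOf_le _ ho) _ (LAE.conj_mem_of_mem_normalizer h.kN hx)
    calc o * k * x * (o * k)⁻¹ = o * (k * x * k⁻¹) * o⁻¹ := by group
      _ = k * x * k⁻¹ := by rw [← hc]; group
  obtain ⟨m, hm⟩ := exists_odd_pow (o * k)
  exact ⟨_, pow_mem h1 _, hm, fun x hx => by rw [(h.toBlk.q1_of_act h2).pow_act m hx, h2 x hx]⟩

theorem cent_of_act (hg : ∀ x ∈ Q, g * x * g⁻¹ = k * x * k⁻¹) : g⁻¹ * k ∈ 𝒞[Q] := fun x hx => by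
  calc x * (g⁻¹ * k) = g⁻¹ * (g * x * g⁻¹) * k := by group
    _ = _ := by rw [hg x hx]; group

theorem CfA.nQ_of (h : CfA S B Q a w k b t) (hB : x ∈ 𝒩[B]) (hx : x ∈ 𝒞[WW a w]) : x ∈ 𝒩[Q] := by
  refine mem_normalizer_of_conjS_le (conjS_le_iff_forall.2 fun y hy => ?_)
  refine h.toSm.mem_Q (LAE.conj_mem_of_mem_normalizer hB (h.QB hy)) ?_
  have h1 : Commute x a := (mem_cent_WW.1 hx).1.symm
  have h2 : Commute y a := mem_centralizer_iff.1 h.ac y hy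
  exact (h1.mul_left h2).mul_left h1.inv_left

theorem CfA.Q2_le (h : CfA S B Q a w k b t) : S ⊓ 𝒩[S ⊓ 𝒞[WW a w] ⊓ 𝒩[Q]] ≤ 𝒩[B] := by
  have QR : Q ≤ S ⊓ 𝒞[WW a w] ⊓ 𝒩[Q] := le_inf h.q1_ge le_normalizer
  obtain ⟨g, h1, -, h2⟩ := h.q1_exists' QR (h.syl.isPGroup.to_le (inf_le_left.trans inf_le_left))
    (inf_le_left.trans inf_le_right) inf_le_right
  have e := h.hm _ (S ⊓ 𝒩[S ⊓ 𝒞[WW a w] ⊓ 𝒩[Q]]) g QR (inf_le_left.trans inf_le_left) h1 (cent_of_act h2)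
    h.syl.isPGroup.to_inf_left (le_inf h.BS (le_normalizer_inf (le_normalizer_inf (h.BS.trans le_normalizer)
      (le_normalizer_centralizer h.toSm.BW)) (h.toSm.QN.trans le_normalizer))) inf_le_right
  have := le_normalizer_bau (p := 2) (S ⊓ 𝒩[S ⊓ 𝒞[WW a w] ⊓ 𝒩[Q]])
  rwa [e] at this

theorem CfA.Q1_le (h : CfA S B Q a w k b t) : S ⊓ 𝒞[WW a w] ≤ 𝒩[Q] := by
  by_contra hn
  obtain ⟨y, h1, h2, h3, -⟩ := end1_exists_norm (C := S ⊓ 𝒞[WW a w]) (L := S ⊓ 𝒞[WW a w] ⊓ 𝒩[Q])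
    h.syl.isPGroup.to_inf_left inf_le_left fun e => hn (e.trans inf_le_right)
  exact h3 ⟨h1, h.nQ_of (h.Q2_le ⟨h1.1, h2⟩) h1.2⟩

theorem CfA.Q1_B (h : CfA S B Q a w k b t) : S ⊓ 𝒞[WW a w] ≤ 𝒩[B] := fun _ hx =>
  h.Q2_le ⟨hx.1, le_normalizer (H := S ⊓ 𝒞[WW a w] ⊓ 𝒩[Q]) ⟨hx, h.Q1_le hx⟩⟩

theorem CfA.q1_comm (h : CfA S B Q a w k b t) (hg : Blk Q a w g) (hy : y ∈ S ⊓ 𝒞[WW a w]) : ⁅g, y⁆ ∈ 𝒞[Q] :=
  h.q1_comm' hg hy.2 (h.Q1_le hy)

theorem CfA.q1_exists (h : CfA S B Q a w k b t) : ∃ g ∈ 𝒩[S ⊓ 𝒞[WW a w]], Odd (orderOf g) ∧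
    ∀ x ∈ Q, g * x * g⁻¹ = k * x * k⁻¹ :=
  h.q1_exists' h.q1_ge h.syl.isPGroup.to_inf_left inf_le_right h.Q1_le

theorem CfA.q1_blk (h : CfA S B Q a w k b t) (hN : g ∈ 𝒩[S ⊓ 𝒞[WW a w]]) (ho : Odd (orderOf g))
    (hg : Blk Q a w g) : Blk (S ⊓ 𝒞[WW a w]) a w g where
  aQ := h.q1_ge h.aQ
  wQ := h.q1_ge h.wQ
  ac := mem_centralizer_iff.2 fun _ hy => (mem_cent_WW.1 hy.2).1.symm.eq
  wc := mem_centralizer_iff.2 fun _ hy => (mem_cent_WW.1 hy.2).2.symm.eq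
  aa := h.aa
  ww := h.ww
  w1 := h.w1
  aw := h.aw
  kN := hN
  kw := hg.kw
  ka := hg.ka
  kQ y hy := by
    have p1 : IsPGroup 2 (S ⊓ 𝒞[WW a w] : Subgroup Γ) := h.syl.isPGroup.to_le inf_le_left
    have h1 : ⁅g, y⁆ ∈ S ⊓ 𝒞[WW a w] := by
      rw [commutatorElement_def]
      exact mul_mem (LAE.conj_mem_of_mem_normalizer hN hy) (inv_mem hy)
    have h2 : ⁅g, y⁆ ∈ Q := h.toSm.cen2A h.hq (h.q1_comm hg hy) (two_of_mem p1 h1)
    obtain ⟨u, hu, d, hd, hc, e⟩ := hg.split h2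
    obtain ⟨v, hv, ev⟩ := hg.exists_comm hu
    have hvd : d * v = v * d := mem_centralizer_iff.1 (hg.Wc hv) d hd
    have e1 : ⁅g, v⁻¹ * y⁆ = d := by
      have e2 : ⁅g, v⁻¹ * y⁆ = v⁻¹ * (⁅g, v⁆⁻¹ * ⁅g, y⁆) * v := by
        simp only [commutatorElement_def]; group
      rw [e2, ev, e, inv_mul_cancel_left, mul_assoc, hvd, inv_mul_cancel_left]
    have h3 : Commute g (v⁻¹ * y) :=
      commute_of_odd ho (by rw [e1]; exact two_of_mem p1 (h.q1_ge hd)) (by rw [e1]; exact hc)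
    have h4 : d = 1 := by rw [← e1]; exact h3.commutator_eq
    rw [e, h4, mul_one]
    exact hu

theorem CfA.q1 (h : CfA S B Q a w k b t) : ∃ k' : Γ, Blk (S ⊓ 𝒞[WW a w]) a w k' ∧
    (∀ x ∈ Q, k' * x * k'⁻¹ = k * x * k⁻¹) ∧
      ∀ d ∈ S ⊓ 𝒞[WW a w], Commute k' d → Commute k' (b * d * b⁻¹) := by
  obtain ⟨g, hN, ho, hact⟩ := h.q1_exists
  have hg := h.toBlk.q1_of_act hact
  have h1 := h.q1_blk hN ho hg
  refine ⟨g, h1, hact, fun d hd hc => ?_⟩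
  obtain ⟨hO, hs⟩ := h.q1_split
  have p1 : IsPGroup 2 (S ⊓ 𝒞[WW a w] : Subgroup Γ) := h.syl.isPGroup.to_le inf_le_left
  have bW : b ∈ 𝒩[WW a w] := h.toSm.BW h.bB
  have bQ : b ∈ 𝒩[Q] := h.toSm.QN h.bB
  have b1 : b ∈ 𝒩[S ⊓ 𝒞[WW a w]] :=
    le_normalizer_inf (h.BS.trans le_normalizer) (le_normalizer_centralizer h.toSm.BW) h.bB
  have cW : b * g * b⁻¹ ∈ 𝒩[WW a w] := mul_mem (mul_mem bW hg.kW) (inv_mem bW)
  have bw : b * w * b⁻¹ = w := by rw [h.toSm.bw.eq, mul_inv_cancel_right]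
  have baw : b * (a * w) * b⁻¹ = a := by
    calc b * (a * w) * b⁻¹ = (b * a * b⁻¹) * (b * w * b⁻¹) := by group
      _ = a := by rw [h.ba, bw, mul_assoc, h.ww, mul_one]
  have ba' : b⁻¹ * a * b = a * w := by
    calc b⁻¹ * a * b = b⁻¹ * (b * (a * w) * b⁻¹) * b := by rw [baw]
      _ = a * w := by group
  have baw' : b⁻¹ * (a * w) * b = a := by rw [← h.ba]; group
  have sa : Commute (b * g * b⁻¹ * g) a := by
    have : b * g * b⁻¹ * g * a * (b * g * b⁻¹ * g)⁻¹ = a := by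
      calc b * g * b⁻¹ * g * a * (b * g * b⁻¹ * g)⁻¹
          = b * (g * (b⁻¹ * (g * a * g⁻¹) * b) * g⁻¹) * b⁻¹ := by group
        _ = a := by rw [hg.ka, baw', hg.ka, baw]
    exact mul_inv_eq_iff_eq_mul.1 this
  have sw : Commute (b * g * b⁻¹ * g) w := by
    have : b * g * b⁻¹ * g * w * (b * g * b⁻¹ * g)⁻¹ = w := by
      calc b * g * b⁻¹ * g * w * (b * g * b⁻¹ * g)⁻¹
          = b * (g * (b⁻¹ * (g * w * g⁻¹) * b) * g⁻¹) * b⁻¹ := by group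
        _ = w := by rw [hg.kw, ba', hg.kaw, bw]
    exact mul_inv_eq_iff_eq_mul.1 this
  have sC : b * g * b⁻¹ * g ∈ 𝒞[Q] :=
    h.one (mul_mem (mul_mem (mul_mem bQ hg.kN) (inv_mem bQ)) hg.kN) sa sw
      (q1_mul cW (q1_conj bQ bW hg.kQ) hg.kQ)
  have sN : b * g * b⁻¹ * g ∈ 𝒩[S ⊓ 𝒞[WW a w]] := mul_mem (mul_mem (mul_mem b1 hN) (inv_mem b1)) hN
  have sW := q1_mul cW (q1_conj b1 bW h1.kQ) h1.kQ
  obtain ⟨z, hz, o, ho', e⟩ := hs _ sC
  have hy : b * d * b⁻¹ ∈ S ⊓ 𝒞[WW a w] := LAE.conj_mem_of_mem_normalizer b1 hd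
  have oN : o ∈ 𝒩[S ⊓ 𝒞[WW a w]] := by
    rw [e] at sN
    exact (mul_mem_cancel_left (le_normalizer (h.q1_ge hz))).1 sN
  have o1 : ⁅o, b * d * b⁻¹⁆ = 1 := by
    refine q1_eq_one p1 hO ?_ ?_
    · rw [commutatorElement_def]
      exact mul_mem (LAE.conj_mem_of_mem_normalizer oN hy) (inv_mem hy)
    · rw [commutatorElement_def, mul_assoc, mul_assoc, ← mul_assoc (b * d * b⁻¹)]
      exact mul_mem ho' (LAE.conj_mem_of_mem_normalizer (q1_NO (h.Q1_le hy)) (inv_mem ho'))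
  have e1 : ⁅b * g * b⁻¹ * g, b * d * b⁻¹⁆ = ⁅z, b * d * b⁻¹⁆ := by
    have : ⁅z * o, b * d * b⁻¹⁆ = z * ⁅o, b * d * b⁻¹⁆ * z⁻¹ * ⁅z, b * d * b⁻¹⁆ := by
      simp only [commutatorElement_def]; group
    rw [e, this, o1, mul_one, mul_inv_cancel, one_mul]
  have s1 : Commute (b * g * b⁻¹ * g) (b * d * b⁻¹) := by
    rw [← commutatorElement_eq_one_iff_commute, e1]
    exact h1.comm_eq_one (h.q1_ge hz) hy (e1 ▸ sW _ hy)
  have s2 : Commute (b * g * b⁻¹) (b * d * b⁻¹) := by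
    have := hc.eq
    calc b * g * b⁻¹ * (b * d * b⁻¹) = b * (g * d) * b⁻¹ := by group
      _ = b * d * b⁻¹ * (b * g * b⁻¹) := by rw [this]; group
  have := s2.inv_left.mul_left s1
  rwa [inv_mul_cancel_left] at this

theorem CfA.fin_bb (h : CfA S B Q a w k b t) : b * b = 1 := by
  rw [← h.ta, conj_mul, h.aa]; simp

theorem CfA.fin_kw (h : CfA S B Q a w k b t) : ¬ Commute k w := fun e =>
  h.w1 (h.toBlk.eq_one (right_mem_WW a w) e)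

theorem CfA.fin_ca (h : CfA S B Q a w k b t) (hy : y ∈ B) : y * a * y⁻¹ = a ∨ y * a * y⁻¹ = a * w := by
  by_cases hQ : y ∈ Q
  · left
    rw [h.ac y hQ, mul_inv_cancel_right]
  · exact Or.inr (h.toSm.conj_a hy hQ)

theorem CfA.fin_nQ (h : CfA S B Q a w k b t) (hn : n ∈ 𝒩[B]) (hc : ∀ x ∈ Q, Commute (n * x * n⁻¹) a) :
    n ∈ 𝒩[Q] :=
  mem_normalizer_of_conjS_le (conjS_le_iff_forall.2 fun x hx =>
    h.toSm.mem_Q (LAE.conj_mem_of_mem_normalizer hn (h.QB hx)) (hc x hx))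

theorem CfA.fin_BQ1 (h : CfA S B Q a w k b t) : B ≤ 𝒩[S ⊓ 𝒞[WW a w]] :=
  le_normalizer_inf (h.BS.trans le_normalizer) (le_normalizer_centralizer h.toSm.BW)

theorem CfA.tb' (h : CfA S B Q a w k b t) : t * b * t⁻¹ = a ∨ t * b * t⁻¹ = a * w := by
  have bb := h.fin_bb
  have hc := h.toBlk.comm
  have hb' : t * b * t⁻¹ ∈ B := LAE.conj_mem_of_mem_normalizer h.tB h.bB
  have e0 : t * b * t⁻¹ = (t * t) * a * (t * t)⁻¹ := by rw [← h.ta]; group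
  have hn : t * t ∈ 𝒩[B] := mul_mem h.tB h.tB
  have nw : (t * t) * w * (t * t)⁻¹ = w := by
    calc _ = t * (t * w * t⁻¹) * t⁻¹ := by group
      _ = w := by rw [h.tw, h.tw]
  have e1 : (t * b * t⁻¹) * b * (t * b * t⁻¹)⁻¹ = b * w := by
    calc _ = (t * b * t⁻¹) * (t * a * t⁻¹) * (t * b * t⁻¹)⁻¹ := by rw [h.ta]
      _ = t * (b * a * b⁻¹) * t⁻¹ := by group
      _ = _ := by rw [h.ba, ← conj_mul, h.ta, h.tw]
  have e2 : (t * b * t⁻¹) * (t * b * t⁻¹) = 1 := by rw [conj_mul, bb]; simp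
  have e3 : ∀ x ∈ B, x * (t * b * t⁻¹) * x⁻¹ = t * b * t⁻¹ ∨ x * (t * b * t⁻¹) * x⁻¹ = t * b * t⁻¹ * w := by
    intro x hx
    have e4 : x * (t * b * t⁻¹) * x⁻¹ =
        (t * t) * (((t * t)⁻¹ * x * (t * t)⁻¹⁻¹) * a * ((t * t)⁻¹ * x * (t * t)⁻¹⁻¹)⁻¹) * (t * t)⁻¹ := by
      rw [e0]; generalize t * t = n; group
    rcases h.fin_ca (LAE.conj_mem_of_mem_normalizer (inv_mem hn) hx) with e | e
    · left; rw [e4, e, e0]
    · right; rw [e4, e, ← conj_mul, nw, e0]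
  have hQ : t * b * t⁻¹ ∈ Q := by
    refine (h.idx _ hb').resolve_right fun hq => ?_
    obtain ⟨u, hu, d, hd, hkd, e⟩ := h.toBlk.split hq
    have bd := h.bD d hd hkd
    have ud : Commute u d := (h.toBlk.Wc hu d hd).symm
    have e5 : t * b * t⁻¹ = u * d * b := by rw [← e, mul_assoc _ b b, bb, mul_one]
    rw [e5] at e1 e2
    have e6 : u * b * u⁻¹ = b * w := by
      rw [← e1]
      calc _ = u * (d * b * d⁻¹) * u⁻¹ := by rw [← bd.eq, mul_inv_cancel_right]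
        _ = _ := by group
    have e7 : d * d * (u * u) * w⁻¹ = 1 := by
      have e8 : b * u = u * (b * w⁻¹) := by
        have : Commute u w := h.toBlk.Wc hu w h.wQ |>.symm
        calc b * u = b * w * u * w⁻¹ := by rw [mul_assoc b w u, ← this.eq]; group
          _ = _ := by rw [← e6]; group
      have wd : Commute w⁻¹ d := Commute.inv_left (h.wc d hd).symm
      have e9 : u * d * (b * u) * d * b = 1 := by rw [← e2]; simp only [mul_assoc]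
      rw [e8] at e9
      simp only [mul_assoc, ud.left_comm, bd.left_comm, wd.left_comm] at e9
      rw [← h.toSm.bw.inv_right.eq, ← mul_assoc b b, bb, one_mul] at e9
      simpa only [mul_assoc] using e9
    have uu : u * u = 1 := by
      rcases h.toBlk.mem.1 hu with rfl | rfl | rfl | rfl
      · simp
      · exact h.aa
      · exact h.ww
      · rw [← hc.mul_mul_mul_comm, h.aa, h.ww, one_mul]
    rw [uu, mul_one, mul_inv_eq_one] at e7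
    exact h.fin_kw (e7 ▸ hkd.mul_right hkd)
  have hZ : ∀ x ∈ Q, Commute x (t * b * t⁻¹) := by
    intro x hx
    rcases e3 x (h.QB hx) with e | e
    · exact mul_inv_eq_iff_eq_mul.1 e
    · have e4 : ⁅x, t * b * t⁻¹⁆ = w := by
        rw [commutatorElement_def, e, h.wc _ hQ, mul_inv_cancel_right]
      exact commutatorElement_eq_one_iff_commute.1
        (h.toBlk.comm_eq_one hx hQ (e4 ▸ right_mem_WW a w))
  rw [e0]
  refine h.tbn hn (inv_mem_iff.1 (h.fin_nQ (inv_mem hn) fun x hx => ?_))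
  have := (hZ x hx).conj (t * t)⁻¹
  rwa [e0, show (t * t)⁻¹ * (t * t * a * (t * t)⁻¹) * (t * t)⁻¹⁻¹ = a by group] at this

theorem CfA.nQ1 (h : CfA S B Q a w k b t) (hy : y ∈ S) (hn : y ∈ 𝒩[S ⊓ 𝒞[WW a w]]) :
    y * a * y⁻¹ = a ∨ y * a * y⁻¹ = a * w := by
  obtain ⟨k', h', hk, -⟩ := h.q1
  have e := h.hm _ (S ⊓ 𝒩[S ⊓ 𝒞[WW a w]]) k' h.q1_ge inf_le_left h'.kN (cent_of_act hk)
    h.syl.isPGroup.to_inf_left (le_inf h.BS h.fin_BQ1) inf_le_right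
  have yB : y ∈ 𝒩[B] := by
    rw [← e]
    exact le_normalizer_bau _ ⟨hy, hn⟩
  refine h.tbn yB (h.fin_nQ yB fun x hx => ?_)
  have hx1 : x ∈ S ⊓ 𝒞[WW a w] := ⟨h.BS (h.QB hx), mem_cent_WW.2 ⟨(h.ac x hx).symm, (h.wc x hx).symm⟩⟩
  exact (mem_cent_WW.1 (LAE.conj_mem_of_mem_normalizer hn hx1).2).1.symm

theorem CfA.exists_ed (h : CfA S B Q a w k b t) : ∃ D : Subgroup Γ, Ed S D a b w t := by
  obtain ⟨k', h', hk, hb⟩ := h.q1
  have kk : ∀ x ∈ Q, Commute k' x ↔ Commute k x := fun x hx => by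
    rw [commute_iff_eq, commute_iff_eq, ← mul_inv_eq_iff_eq_mul, ← mul_inv_eq_iff_eq_mul, hk x hx]
  have mem : ∀ x, x ∈ (S ⊓ 𝒞[WW a w]) ⊓ centralizer {k'} ↔ x ∈ S ⊓ 𝒞[WW a w] ∧ Commute k' x := fun x => by
    rw [mem_inf, mem_centralizer_singleton_iff, commute_iff_eq, eq_comm]
  refine ⟨(S ⊓ 𝒞[WW a w]) ⊓ centralizer {k'}, h.syl.isPGroup, h.BS (h.QB h.aQ), h.BS h.bB, h.tS,
    inf_le_left.trans inf_le_left, h.aa, h.ww, h.w1, h.toBlk.comm, h.toSm.bw, h.ba,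
    fun d hd => (mem_cent_WW.1 hd.1.2).1, fun y hy => ?_,
    fun hw => h.w1 (h'.eq_one (right_mem_WW a w) ((mem w).1 hw).2), fun x hx ha hw => ?_,
    fun y hy hn => h.nQ1 hy hn, h.ta, h.tw, h.tb'⟩
  · obtain ⟨y1, ky⟩ := (mem y).1 hy
    have yB : y ∈ 𝒩[B] := h.Q1_B y1
    have yQ : y ∈ 𝒩[Q] := h.Q1_le y1
    obtain ⟨q, hq⟩ : ∃ q, q = y * (b * y⁻¹ * b⁻¹) := ⟨_, rfl⟩
    have e1 : y * b * y⁻¹ = q * b := by rw [hq]; group
    have q1 : q ∈ S ⊓ 𝒞[WW a w] :=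
      hq ▸ mul_mem y1 (LAE.conj_mem_of_mem_normalizer (h.fin_BQ1 h.bB) (inv_mem y1))
    have qB : q ∈ B := by
      have := LAE.conj_mem_of_mem_normalizer yB h.bB
      rwa [e1, B.mul_mem_cancel_right h.bB] at this
    have qQ : q ∈ Q := h.toSm.mem_Q qB (mem_cent_WW.1 q1.2).1.symm
    have kq : Commute k q := (kk q qQ).1 (hq ▸ ky.mul_right (hb _ (inv_mem y1) ky.inv_right))
    have bq := h.bD q qQ kq
    have cQ : ∀ x ∈ Q, Commute x q := by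
      intro x hx
      obtain ⟨u, hu, d, hd, hkd, rfl⟩ := h.toBlk.split hx
      refine Commute.mul_left (q1.2 u hu) ?_
      have d1 : y⁻¹ * d * y⁻¹⁻¹ ∈ Q := LAE.conj_mem_of_mem_normalizer (inv_mem yQ) hd
      have d2 := (h.bD _ d1 ((kk _ d1).1
        ((ky.inv_right.mul_right ((kk d hd).2 hkd)).mul_right ky.inv_right.inv_right))).conj y
      rw [e1, show y * (y⁻¹ * d * y⁻¹⁻¹) * y⁻¹ = d by group] at d2
      have := d2.mul_left (h.bD d hd hkd).inv_left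
      rw [mul_inv_cancel_right] at this
      exact this.symm
    have cB : ∀ x ∈ B, Commute x q := by
      intro x hx
      rcases h.idx x hx with e | e
      · exact cQ x e
      · have := (cQ _ e).mul_left bq.inv_left
        rwa [mul_inv_cancel_right] at this
    have nB : t⁻¹ * y * t ∈ 𝒩[B] := mul_mem (mul_mem (inv_mem h.tB) yB) h.tB
    have nQ : t⁻¹ * y * t ∈ 𝒩[Q] := by
      refine h.fin_nQ nB fun x hx => ?_
      have x1 : Commute (t * x * t⁻¹) b := h.ta ▸ Commute.conj (h.ac x hx) t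
      have x2 := x1.conj y
      rw [e1] at x2
      have x3 := (cB _ (LAE.conj_mem_of_mem_normalizer yB
        (LAE.conj_mem_of_mem_normalizer h.tB (h.QB hx)))).inv_right.mul_right x2
      rw [inv_mul_cancel_left, ← h.ta] at x3
      have x4 := x3.conj t⁻¹
      rw [show t⁻¹ * (t * a * t⁻¹) * t⁻¹⁻¹ = a by group] at x4
      convert x4 using 1
      group
    have e2 : y * b * y⁻¹ = t * ((t⁻¹ * y * t) * a * (t⁻¹ * y * t)⁻¹) * t⁻¹ := by rw [← h.ta]; group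
    rcases h.tbn nB nQ with e | e
    · rw [e, h.ta, mul_inv_eq_iff_eq_mul] at e2
      exact e2.symm
    · rw [e, ← conj_mul, h.ta, h.tw, e1, h.toSm.bw.eq, mul_left_inj] at e2
      exact absurd (e2 ▸ kq) h.fin_kw
  · obtain ⟨u, hu, d, hd, hkd, e⟩ := h'.split (x := x) ⟨hx, mem_cent_WW.2 ⟨ha, hw⟩⟩
    exact ⟨u, hu, d, (mem d).2 ⟨hd, hkd⟩, e⟩

end CfsgLib.OFP
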