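import Mathlib
import Cfsg.Agent.Lib.OFP.Bas1
import Cfsg.Agent.Lib.Tech.SylowIn

set_option autoImplicit false
set_option linter.unusedSectionVars false

namespace CfsgLib.OFP

open Subgroup Cfsg CfsgLib.LAE CfsgLib.Push CfsgLib.Blocks CfsgLib.ZJ
open scoped commutatorElement

variable {Γ : Type*} [Group Γ] [Finite Γ]

variable {S L : Subgroup Γ} {c g g' : Γ}

namespace End2

theorem inv_sq {u : Γ} (h : u ^ 4 = 1) : (u * u)⁻¹ = u * u :=
  inv_eq_of_mul_eq_one_right (by rw [← h]; simp only [pow_succ, pow_zero, one_mul, mul_assoc])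

theorem comm_of_conj {x y : Γ} (h : x * y * x⁻¹ = y) : Commute x y := mul_inv_eq_iff_eq_mul.1 h

theorem of_cube {s x : Γ} (h : Two s) (hc : Commute (s ^ 3) x) : Commute s x := by
  obtain ⟨n, hn⟩ := h
  have h4 : s ^ 4 ^ n = 1 := by
    rw [show (4 : ℕ) = 2 * 2 from rfl, mul_pow, pow_mul, hn, one_pow]
  have h3 : 4 ^ n % 3 = 1 := by rw [Nat.pow_mod]; simp
  have e : (s ^ 3) ^ (4 ^ n / 3) * s = 1 := by
    rw [← pow_mul, ← pow_succ, ← h4]; congr 1; omega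
  rw [eq_inv_of_mul_eq_one_right e]
  exact (hc.pow_left _).inv_left

theorem caseA {u v : Γ} (vL : v ∈ L) (uL : u ∈ L) (v4 : v ^ 4 = 1)
    (Hu : ∀ y ∈ L, Commute y (u * u) → y * u * y⁻¹ = u ∨ y * u * y⁻¹ = u⁻¹)
    (Hv : ∀ y ∈ L, Commute y (v * v) → y * v * y⁻¹ = v ∨ y * v * y⁻¹ = v⁻¹)
    (hne : u * u ≠ v * v) (h : Commute u (v * v)) : Commute u v := by
  rcases Hv u uL h with e | e
  · exact comm_of_conj e
  have e2 : Commute (u * u) v := comm_of_conj (by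
    calc u * u * v * (u * u)⁻¹ = u * (u * v * u⁻¹) * u⁻¹ := by group
      _ = u * v⁻¹ * u⁻¹ := by rw [e]
      _ = (u * v * u⁻¹)⁻¹ := by group
      _ = v := by rw [e, inv_inv])
  rcases Hu v vL e2.symm with e' | e'
  · exact (comm_of_conj e').symm
  refine absurd ?_ hne
  calc u * u = u * (v * u * v⁻¹)⁻¹ := by rw [e', inv_inv]
    _ = u * v * u⁻¹ * v⁻¹ := by group
    _ = (v * v)⁻¹ := by rw [e]; group
    _ = v * v := inv_sq v4

theorem core {u v : Γ} (uL : u ∈ L) (vL : v ∈ L) (h2 : Two (u * v)) (u4 : u ^ 4 = 1) (v4 : v ^ 4 = 1)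
    (Hu : ∀ y ∈ L, Commute y (u * u) → y * u * y⁻¹ = u ∨ y * u * y⁻¹ = u⁻¹)
    (Hv : ∀ y ∈ L, Commute y (v * v) → y * v * y⁻¹ = v ∨ y * v * y⁻¹ = v⁻¹)
    (hc : Commute (u * u) (v * v)) (hne : u * u ≠ v * v) : Commute u v := by
  rcases Hu _ (L.mul_mem vL vL) hc.symm with e | e
  · exact caseA vL uL v4 Hu Hv hne (comm_of_conj e).symm
  rcases Hv _ (L.mul_mem uL uL) hc with e' | e'
  · exact (caseA uL vL u4 Hv Hu hne.symm (comm_of_conj e').symm).symm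
  have iu := inv_sq u4
  have iv := inv_sq v4
  set x := u * u with hx
  set y := v * v with hy
  have xx : x * x = 1 := by nth_rewrite 1 [← iu]; exact inv_mul_cancel x
  have yy : y * y = 1 := by nth_rewrite 1 [← iv]; exact inv_mul_cancel y
  have ux : u * x * u⁻¹ = x := by rw [hx]; group
  have vy : v * y * v⁻¹ = y := by rw [hy]; group
  have uy : u * y * u⁻¹ = x * y := by
    calc u * y * u⁻¹ = u * (y * u * y⁻¹)⁻¹ * y := by group
      _ = x * y := by rw [e, inv_inv]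
  have vx : v * x * v⁻¹ = y * x := by
    calc v * x * v⁻¹ = v * (x * v * x⁻¹)⁻¹ * x := by group
      _ = y * x := by rw [e', inv_inv]
  have s1 : u * v * x * (u * v)⁻¹ = y := by
    calc u * v * x * (u * v)⁻¹ = u * (v * x * v⁻¹) * u⁻¹ := by group
      _ = (u * y * u⁻¹) * (u * x * u⁻¹) := by rw [vx]; group
      _ = y := by rw [uy, ux, hc.eq, mul_assoc, xx, mul_one]
  have s2 : u * v * y * (u * v)⁻¹ = x * y := by
    calc u * v * y * (u * v)⁻¹ = u * (v * y * v⁻¹) * u⁻¹ := by group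
      _ = x * y := by rw [vy, uy]
  have s3 : Commute ((u * v) ^ 3) x := comm_of_conj (by
    calc (u * v) ^ 3 * x * ((u * v) ^ 3)⁻¹
        = u * v * (u * v * (u * v * x * (u * v)⁻¹) * (u * v)⁻¹) * (u * v)⁻¹ := by
          simp only [pow_succ, pow_zero, one_mul, mul_inv_rev, mul_assoc]
      _ = u * v * (x * y) * (u * v)⁻¹ := by rw [s1, s2]
      _ = (u * v * x * (u * v)⁻¹) * (u * v * y * (u * v)⁻¹) := by group
      _ = x := by rw [s1, s2, ← mul_assoc, ← hc.eq, mul_assoc, yy, mul_one])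
  refine absurd ?_ hne
  rw [← s1, (of_cube h2 s3).eq, mul_inv_cancel_right]

theorem conj_sq (g c : Γ) : g * c * g⁻¹ * (g * c * g⁻¹) = g * (c * c) * g⁻¹ := by group

theorem Hg (H : ∀ y ∈ L, Commute y (c * c) → y * c * y⁻¹ = c ∨ y * c * y⁻¹ = c⁻¹) (hg : g ∈ L) :
    ∀ y ∈ L, Commute y (g * c * g⁻¹ * (g * c * g⁻¹)) →
      y * (g * c * g⁻¹) * y⁻¹ = g * c * g⁻¹ ∨ y * (g * c * g⁻¹) * y⁻¹ = (g * c * g⁻¹)⁻¹ := by
  intro y hy hc
  rw [conj_sq] at hc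
  have e : y * (g * c * g⁻¹) * y⁻¹ = g * (g⁻¹ * y * g * c * (g⁻¹ * y * g)⁻¹) * g⁻¹ := by group
  have hc' : Commute (g⁻¹ * y * g) (c * c) := comm_of_conj (by
    calc g⁻¹ * y * g * (c * c) * (g⁻¹ * y * g)⁻¹ = g⁻¹ * (y * (g * (c * c) * g⁻¹)) * y⁻¹ * g := by group
      _ = c * c := by rw [hc.eq]; group)
  rcases H _ (L.mul_mem (L.mul_mem (L.inv_mem hg) hy) hg) hc' with e' | e'
  · exact .inl (by rw [e, e'])
  · exact .inr (by rw [e, e']; group)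

theorem conj4 (h4 : c ^ 4 = 1) (g : Γ) : (g * c * g⁻¹) ^ 4 = 1 := by
  rw [conj_pow, h4, mul_one, mul_inv_cancel]

end End2

open End2

/-- For `g ∈ L` put `c_g = g c g⁻¹`, `ω_g = c_g²`; every `y ∈ L` commuting with `ω_g` maps `c_g` to `c_g` or
`c_g⁻¹ = c_g ω_g`. If `ω = ω_g = ω_{g'}` then `g⁻¹ g'` commutes with `c²`, so `c_{g'} = c_g ^ (±1)`. Let `ω ≠ ω'`
commute. If `ω'` inverts `c_g` and `ω` inverts `c_{g'}` (and `ω, ω' ≠ 1`), then `s = c_g c_{g'} ∈ S` maps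
`ω ↦ ω' ↦ ω ω' ↦ ω`, impossible as `s ^ 4 ^ n = 1` for some `n`. So say `ω'` centralizes `c_g`; `ω = c_g²` centralizes
`c_{g'}` or inverts it; `c_g c_{g'} c_g⁻¹ ∈ {c_{g'}, c_{g'} ω'}` shows that `c_g²` centralizes `c_{g'}`. Then
`c_{g'}⁻¹ c_g c_{g'} ∈ {c_g, c_g ω} ⊓ {c_g, ω' c_g}`. -/
theorem comm_of_sq (pS : IsPGroup 2 S) (SL : S ≤ L) (LN : L ≤ 𝒩[S]) (cS : c ∈ S) (h4 : c ^ 4 = 1)
    (H : ∀ y ∈ L, Commute y (c * c) → y * c * y⁻¹ = c ∨ y * c * y⁻¹ = c⁻¹) (hg : g ∈ L) (hg' : g' ∈ L)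
    (hc : Commute (g * (c * c) * g⁻¹) (g' * (c * c) * g'⁻¹)) : Commute (g * c * g⁻¹) (g' * c * g'⁻¹) := by
  have uS := (mem_normalizer_iff.1 (LN hg) c).1 cS
  have vS := (mem_normalizer_iff.1 (LN hg') c).1 cS
  by_cases hne : g * c * g⁻¹ * (g * c * g⁻¹) = g' * c * g'⁻¹ * (g' * c * g'⁻¹)
  · have e : g' * g⁻¹ * (g * c * g⁻¹) * (g' * g⁻¹)⁻¹ = g' * c * g'⁻¹ := by group
    have := Hg H hg (g' * g⁻¹) (L.mul_mem hg' (L.inv_mem hg)) (comm_of_conj (by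
      nth_rewrite 2 [hne]
      group))
    rw [e] at this
    rcases this with e | e <;> rw [e]
    exact (Commute.refl _).inv_right
  · exact core (SL uS) (SL vS) (two_of_mem pS (S.mul_mem uS vS)) (conj4 h4 g) (conj4 h4 g') (Hg H hg) (Hg H hg')
      (by rwa [conj_sq, conj_sq]) hne

namespace End2

theorem conj_comm {K : Subgroup Γ} {x h : Γ} (hK : ∀ y ∈ K, ∀ z ∈ K, Commute (y * x * y⁻¹) (z * x * z⁻¹))
    (hg : g ∈ 𝒩[K]) (hh : h ∈ K) : Commute (h * (g * x * g⁻¹) * h⁻¹) (g * x * g⁻¹) := by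
  have := (hK _ ((mem_normalizer_iff''.1 hg h).1 hh) 1 K.one_mem).map (MulAut.conj g).toMonoidHom
  simp only [MulEquiv.coe_toMonoidHom, MulAut.conj_apply] at this
  convert this using 1 <;> group

theorem step (pS : IsPGroup 2 S) (SL : S ≤ L) (LN : L ≤ 𝒩[S]) (cS : c ∈ S) (h4 : c ^ 4 = 1)
    (H : ∀ y ∈ L, Commute y (c * c) → y * c * y⁻¹ = c ∨ y * c * y⁻¹ = c⁻¹) {K : Subgroup Γ} (KS : K ≤ S)
    (cK : c ∈ K) (hK : ∀ y ∈ K, ∀ z ∈ K, Commute (y * (c * c) * y⁻¹) (z * (c * c) * z⁻¹)) (hg : g ∈ L)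
    (hg' : g' ∈ L) (ng : g ∈ 𝒩[K]) (ng' : g' ∈ 𝒩[K]) : Commute (g * (c * c) * g⁻¹) (g' * (c * c) * g'⁻¹) := by
  have uK := (mem_normalizer_iff.1 ng c).1 cK
  have mK := (mem_normalizer_iff.1 ng' _).1 (K.mul_mem cK cK)
  have h1 := conj_comm hK ng' (K.inv_mem uK)
  have h2 := conj_comm hK ng mK
  have mm : (g' * (c * c) * g'⁻¹)⁻¹ = g' * (c * c) * g'⁻¹ := by
    rw [← conj_sq]; exact inv_sq (conj4 h4 g')
  set μ := g' * (c * c) * g'⁻¹ with hμ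
  have h3 := comm_of_sq pS SL LN cS h4 H (L.mul_mem (SL (KS mK)) hg) hg (by convert h2 using 1; group)
  rw [show μ * g * c * (μ * g)⁻¹ = μ * (g * c * g⁻¹) * μ⁻¹ by group] at h3
  rw [← conj_sq]
  set u := g * c * g⁻¹ with hu
  have m2 : μ * μ = 1 := by nth_rewrite 1 [← mm]; exact inv_mul_cancel μ
  have h5 : (u⁻¹ * μ * u⁻¹⁻¹ * μ) ^ 2 = 1 := by
    rw [h1.mul_pow, conj_pow, sq, m2]; group
  have h6 : (u⁻¹ * (μ * u * μ⁻¹)) ^ 2 = 1 := by
    rw [← h5, mm]; congr 1; group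
  rw [h3.symm.inv_left.mul_pow, inv_pow, inv_mul_eq_one, sq, sq, conj_sq μ u] at h6
  exact (comm_of_conj h6.symm).symm

end End2

/-- Key step (K): let `H ≤ S` contain `c_g` and `μ = ω_{g'}`, and suppose the `H`-conjugates of `ω_g` commute pairwise
and the `H`-conjugates of `μ` commute pairwise. Then `(c_g⁻¹ μ c_g) μ⁻¹` is a product of two commuting involutions, so
`(c_g⁻¹ · μ c_g μ⁻¹)² = 1`; `c_g` and `μ c_g μ⁻¹ = c_{μ g}` commute by `comm_of_sq`, so `ω_g = μ ω_g μ⁻¹`.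
Now take `H` maximal with `C_S(ω) ≤ H ≤ S` (`ω = c²`) and the `H`-conjugates of `ω` commuting. For `n, n' ∈ N_S(H)`
(K) applies to `g = n`, `g' = n'`, so `N_S(H)` has the same property and `H = S`. Conjugating by `L ≤ N(S)`, the
`S`-conjugates of each `ω_g` commute; (K) with `H = S` and `comm_of_sq` finish the proof. -/
theorem comm_conj (pS : IsPGroup 2 S) (SL : S ≤ L) (LN : L ≤ 𝒩[S]) (cS : c ∈ S) (h4 : c ^ 4 = 1)
    (H : ∀ y ∈ L, Commute y (c * c) → y * c * y⁻¹ = c ∨ y * c * y⁻¹ = c⁻¹) (hg : g ∈ L) (hg' : g' ∈ L) :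
    Commute (g * c * g⁻¹) (g' * c * g'⁻¹) := by
  let P : Subgroup Γ → Prop := fun K => c ∈ K ∧ K ≤ S ∧ ∀ y ∈ K, ∀ z ∈ K, Commute (y * (c * c) * y⁻¹) (z * (c * c) * z⁻¹)
  have h0 : P (zpowers c) := by
    refine ⟨mem_zpowers c, zpowers_le.2 cS, ?_⟩
    have e : ∀ y ∈ zpowers c, y * (c * c) * y⁻¹ = c * c := by
      rintro _ ⟨n, rfl⟩
      exact mul_inv_eq_iff_eq_mul.2 (((Commute.refl c).mul_right (Commute.refl c)).zpow_left n)
    intro y hy z hz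
    rw [e y hy, e z hz]
  obtain ⟨K, -, hK⟩ := Finite.exists_le_maximal h0
  obtain ⟨cK, KS, hc⟩ := hK.1
  have e : K = S := by
    by_contra hne
    have hlt := Tech.lt_inf_normalizer_of_lt pS (lt_of_le_of_ne KS hne)
    exact hlt.not_ge (hK.2 ⟨hlt.le cK, inf_le_left, fun y hy z hz =>
      step pS SL LN cS h4 H KS cK hc (SL hy.1) (SL hz.1) hy.2 hz.2⟩ hlt.le)
  subst e
  exact comm_of_sq pS SL LN cS h4 H hg hg' (step pS SL LN cS h4 H le_rfl cS hc hg hg' (LN hg) (LN hg'))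

end CfsgLib.OFP
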