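import Mathlib
import Cfsg.Agent.Lib.OFP.End1
import Cfsg.Agent.Lib.OFP.End2

set_option autoImplicit false
set_option linter.unusedSectionVars false

namespace CfsgLib.OFP

open Subgroup Cfsg CfsgLib.LAE CfsgLib.Push CfsgLib.Blocks CfsgLib.ZJ
open scoped commutatorElement

variable {Γ : Type*} [Group Γ] [Finite Γ]

variable {r : ℕ} {S D : Subgroup Γ} {a b w t φ : Γ}

namespace End3

theorem norm_cl {L : Subgroup Γ} (x : Γ) : L ≤ 𝒩[closure {y | ∃ g ∈ L, g * x * g⁻¹ = y}] := by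
  intro l hl
  refine Tech.mem_normalizer_of_forall fun y hy => ?_
  induction hy using closure_induction with
  | mem y hy =>
    obtain ⟨g, hg, rfl⟩ := hy
    exact subset_closure ⟨l * g, L.mul_mem hl hg, by group⟩
  | one => simp
  | mul x y _ _ hx hy => simpa only [conj_mul] using mul_mem hx hy
  | inv x _ hx => simpa only [conj_inv] using inv_mem hx

theorem comm_cl {X : Set Γ} (h : ∀ x ∈ X, ∀ y ∈ X, Commute x y) {x y : Γ} (hx : x ∈ closure X)
    (hy : y ∈ closure X) : Commute x y := by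
  induction hx, hy using closure_induction₂ with
  | mem x y hx hy => exact h x hx y hy
  | one_left => exact Commute.one_left _
  | one_right => exact Commute.one_right _
  | mul_left _ _ _ _ _ _ h1 h2 => exact h1.mul_left h2
  | mul_right _ _ _ _ _ _ h1 h2 => exact h1.mul_right h2
  | inv_left _ _ _ _ h1 => exact h1.inv_left
  | inv_right _ _ _ _ h1 => exact h1.inv_right

theorem sq_cl {X : Set Γ} {A : Subgroup Γ} (h : ∀ x ∈ X, ∀ y ∈ X, Commute x y) (h2 : ∀ x ∈ X, x * x ∈ A)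
    {x : Γ} (hx : x ∈ closure X) : x * x ∈ A := by
  induction hx using closure_induction with
  | mem y hy => exact h2 y hy
  | one => simp
  | mul x y hx' hy' hx hy =>
    rw [(comm_cl h hy' hx').mul_mul_mul_comm]
    exact mul_mem hx hy
  | inv x _ hx => simpa only [mul_inv_rev] using inv_mem hx

theorem pow_inv2 {w : Γ} (ww : w * w = 1) (i : ℕ) : w ^ i = 1 ∧ Even i ∨ w ^ i = w ∧ Odd i := by
  rcases Nat.even_or_odd i with ⟨j, rfl⟩ | ⟨j, rfl⟩
  · exact .inl ⟨by rw [← two_mul, pow_mul, sq, ww, one_pow], j, rfl⟩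
  · exact .inr ⟨by rw [pow_succ, pow_mul, sq, ww, one_pow, one_mul], j, rfl⟩

end End3

open End3

/-- `L = S ⊔ ⟨φ⟩`, `c = a b`, `c_g = g c g⁻¹`, `ω_g = g w g⁻¹ = c_g²`. By `fix`, `norm_c`, `comm_conj` all `c_g`
(`g ∈ L`) commute. `A = ⟨ω_g⟩` is elementary abelian, `Y = ⟨c_g⟩` abelian, both normalized by `L`, and squares of
elements of `Y` lie in `A`. `lemU` for `A`: `y = c ^ i d`, `y² = w ^ i d² = 1` forces `i` even, so `a` centralizes `A`.
`lemU` for `Y` (`(a y a⁻¹ y⁻¹)² = a y² a⁻¹ y⁻² = 1`): `a c_g a⁻¹ ∈ {c_g, c_g w}`; also `a` commutes with `ω_g`, so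
`a c_g a⁻¹ ∈ {c_g, c_g ω_g}`. So `a` commutes with `c_g` if `ω_g ≠ w`, in particular for `g = φ ^ i`, `0 < i < r`
(else `φ ^ i ∈ S`, `φ ∈ S`). `y_n = (c φ) ^ n (φ ^ n)⁻¹ ∈ Y` satisfies `y_(n+1) = y_n c_(φ ^ n)`, so
`a y_n a⁻¹ = w y_n` for `1 ≤ n ≤ r`. But `y_r = (c φ) ^ r` commutes with `c φ` and `c`, so with `φ`; `y_r = 1` by
`fix`, and `w = 1`. -/
theorem Ed.false (h : Ed S D a b w t) (hr : r.Prime) (hφ : φ ^ r = 1) (φS : φ ∈ 𝒩[S]) (nS : φ ∉ S)
    (fix : ∀ g ∈ S ⊔ zpowers φ, ∀ x ∈ S, x ≠ 1 → Commute g x → g ∈ S) : False := by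
  set L := S ⊔ zpowers φ with hL
  have SL : S ≤ L := le_sup_left
  have φL : φ ∈ L := mem_sup_right (mem_zpowers φ)
  have LN : L ≤ 𝒩[S] := sup_le le_normalizer (zpowers_le.2 φS)
  have cS : a * b ∈ S := S.mul_mem h.aS h.bS
  have cc := h.cc
  have ac := h.ac
  have ic := h.inv_c
  set c := a * b with hc
  have h4 : c ^ 4 = 1 := by
    rw [← h.ww, ← cc]; simp only [pow_succ, pow_zero, one_mul, mul_assoc]
  have H : ∀ y ∈ L, Commute y (c * c) → y * c * y⁻¹ = c ∨ y * c * y⁻¹ = c⁻¹ := fun y hy e => by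
    rw [cc] at e
    exact h.norm_c (fix y hy w h.wS h.w1 e) e
  set Y := closure {y | ∃ g ∈ L, g * c * g⁻¹ = y} with hY
  set A := closure {y | ∃ g ∈ L, g * w * g⁻¹ = y} with hA
  have nY : L ≤ 𝒩[Y] := norm_cl c
  have nA : L ≤ 𝒩[A] := norm_cl w
  have gY : ∀ g ∈ L, g * c * g⁻¹ ∈ Y := fun g hg => subset_closure ⟨g, hg, rfl⟩
  have gA : ∀ g ∈ L, g * w * g⁻¹ ∈ A := fun g hg => subset_closure ⟨g, hg, rfl⟩
  have cY : c ∈ Y := by simpa using gY 1 L.one_mem
  have X2 : ∀ x ∈ {y | ∃ g ∈ L, g * c * g⁻¹ = y}, ∀ y ∈ {y | ∃ g ∈ L, g * c * g⁻¹ = y}, Commute x y := by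
    rintro _ ⟨g, hg, rfl⟩ _ ⟨g', hg', rfl⟩
    exact comm_conj h.pS SL LN cS h4 H hg hg'
  have cm : ∀ x ∈ Y, ∀ y ∈ Y, Commute x y := fun x hx y hy => comm_cl X2 hx hy
  have YS : Y ≤ S := (closure_le _).2 (by
    rintro _ ⟨g, hg, rfl⟩
    exact (mem_normalizer_iff.1 (LN hg) c).1 cS)
  have AY : A ≤ Y := (closure_le _).2 (by
    rintro _ ⟨g, hg, rfl⟩
    rw [← cc, ← End2.conj_sq]
    exact Y.mul_mem (gY g hg) (gY g hg))
  have sY : ∀ y ∈ Y, y * y ∈ A := fun y hy => sq_cl X2 (by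
    rintro _ ⟨g, hg, rfl⟩
    rw [End2.conj_sq, cc]
    exact gA g hg) hy
  have sA : ∀ y ∈ A, y * y = 1 := fun y hy => mem_bot.1 (sq_cl (A := ⊥)
    (fun x hx y hy => cm x (AY (subset_closure hx)) y (AY (subset_closure hy))) (by
      rintro _ ⟨g, hg, rfl⟩
      rw [End2.conj_sq, h.ww, mul_one, mul_inv_cancel]
      exact one_mem _) hy)
  have aL := SL h.aS
  have cD : ∀ d ∈ D, Commute c d := fun d hd => (h.Da d hd).mul_left (h.Db d hd)
  have aA : ∀ y ∈ A, Commute a y := fun y hy => by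
    obtain ⟨i, d, hd, rfl⟩ := h.lemU (AY.trans YS) (SL.trans nA) (fun y hy => cm y (AY hy) c cY)
      (fun y hy => by
        rw [sq]
        exact sA _ (A.mul_mem ((mem_normalizer_iff.1 (nA aL) y).1 hy) (A.inv_mem hy))) hy
    have e := sA _ hy
    rw [← hc, ← sq, ((cD d hd).pow_left i).mul_pow, ← pow_mul, mul_comm i 2, pow_mul, sq c, cc] at e
    rcases pow_inv2 h.ww i with ⟨-, j, rfl⟩ | ⟨e', -⟩
    · rw [← hc, ← two_mul, pow_mul, sq, cc]
      exact (h.aw.pow_right j).mul_right (h.Da d hd)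
    · rw [e'] at e
      exact absurd (eq_inv_of_mul_eq_one_left e ▸ D.inv_mem (D.pow_mem hd 2)) h.wD
  have aY : ∀ y ∈ Y, a * y * a⁻¹ = y ∨ a * y * a⁻¹ = y * w := fun y hy => by
    obtain ⟨i, d, hd, rfl⟩ := h.lemU YS (SL.trans nY) (fun y hy => cm y hy c cY)
      (fun y hy => by
        rw [(cm _ ((mem_normalizer_iff.1 (nY aL) y).1 hy) _ (Y.inv_mem hy)).mul_pow, conj_pow, sq,
          (aA _ (sY y hy)).eq]
        group) hy
    have e : a * (c ^ i * d) * a⁻¹ = c ^ i * d * w ^ i := by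
      calc a * (c ^ i * d) * a⁻¹ = (a * c * a⁻¹) ^ i * (a * d * a⁻¹) := by rw [conj_pow]; group
        _ = c ^ i * d * w ^ i := by
          have cw : Commute c w := cc ▸ (Commute.refl c).mul_right (Commute.refl c)
          rw [ac, ic, (h.Da d hd).eq, mul_inv_cancel_right, cw.mul_pow, mul_assoc,
            ((h.Dw hd).pow_left i).eq, mul_assoc]
    rw [← hc, e]
    rcases pow_inv2 h.ww i with ⟨e', -⟩ | ⟨e', -⟩ <;> simp [e']
  have ag : ∀ n : ℕ, 0 < n → n < r → a * (φ ^ n * c * (φ ^ n)⁻¹) * a⁻¹ = φ ^ n * c * (φ ^ n)⁻¹ := fun n h0 hn => by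
    have gL := L.pow_mem φL n
    refine (aY _ (gY _ gL)).elim id fun e => ?_
    refine (End2.Hg H gL a aL (by rw [End2.conj_sq, cc]; exact aA _ (gA _ gL))).elim id fun e' => ?_
    exfalso
    have e2 : φ ^ n * w * (φ ^ n)⁻¹ = w := by
      have := e.symm.trans e'
      rw [conj_inv, ic] at this
      refine (mul_left_cancel (a := φ ^ n * c * (φ ^ n)⁻¹) ?_).symm
      rw [this]; group
    have hS := fix _ gL w h.wS h.w1 (End2.comm_of_conj e2)
    have hco : Nat.Coprime n r := (Nat.coprime_of_lt_prime h0.ne' hn hr).symm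
    obtain ⟨m, hm⟩ := exists_pow_eq_self_of_coprime (x := φ) (n := n)
      (Nat.Coprime.coprime_dvd_right (orderOf_dvd_of_pow_eq_one hφ) hco)
    exact nS (hm ▸ S.pow_mem hS m)
  have st : ∀ n : ℕ, (c * φ) ^ (n + 1) * (φ ^ (n + 1))⁻¹ = (c * φ) ^ n * (φ ^ n)⁻¹ * (φ ^ n * c * (φ ^ n)⁻¹) :=
    fun n => by rw [pow_succ, pow_succ' φ]; group
  have yY : ∀ n : ℕ, (c * φ) ^ n * (φ ^ n)⁻¹ ∈ Y := fun n => by
    induction n with
    | zero => simp
    | succ n ih => rw [st]; exact Y.mul_mem ih (gY _ (L.pow_mem φL n))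
  have ay : ∀ n : ℕ, n < r → a * ((c * φ) ^ (n + 1) * (φ ^ (n + 1))⁻¹) * a⁻¹ =
      w * ((c * φ) ^ (n + 1) * (φ ^ (n + 1))⁻¹) := fun n => by
    induction n with
    | zero =>
      intro _
      have cw : Commute c w := cc ▸ (Commute.refl c).mul_right (Commute.refl c)
      rw [zero_add, pow_one, pow_one, mul_inv_cancel_right, ac, ic, cw.eq]
    | succ n ih =>
      intro hn
      rw [st, ← conj_mul, ih (by omega), ag _ (by omega) hn, mul_assoc]
  have hr1 : r - 1 + 1 = r := Nat.sub_add_cancel hr.one_le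
  have e := ay (r - 1) (by have := hr.pos; omega)
  have y1 := yY r
  rw [hr1] at e
  rw [hφ, inv_one, mul_one] at e y1
  have e1 : (c * φ) ^ r = 1 := by
    by_contra hne
    refine nS (fix φ φL _ (YS y1) hne ?_)
    have := (cm _ cY _ y1).inv_left.mul_left ((Commute.refl (c * φ)).pow_right r)
    rwa [inv_mul_cancel_left] at this
  rw [e1] at e
  exact h.w1 (by simpa using e.symm)

end CfsgLib.OFP
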