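import Mathlib
import Cfsg.Agent.Lib.OFP.End3

/-!
The final configuration `Ed` inside a `2`-group `S`: any group `L` of operators on `S` has a nontrivial fixed point.
-/

set_option autoImplicit false
set_option linter.unusedSectionVars false

namespace CfsgLib.OFP

open Subgroup Cfsg CfsgLib.LAE CfsgLib.Push CfsgLib.Blocks CfsgLib.ZJ
open scoped commutatorElement

variable {Γ : Type*} [Group Γ] [Finite Γ]

variable {S D L : Subgroup Γ} {a b w t : Γ}

namespace EndA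

/-- `γ ∈ S` has order dividing `4` and `C_S(γ²)` normalizes `⟨γ⟩`. -/
structure P4 (S : Subgroup Γ) (γ : Γ) : Prop where
  mem : γ ∈ S
  h4 : γ ^ 4 = 1
  H : ∀ y ∈ S, Commute y (γ * γ) → y * γ * y⁻¹ = γ ∨ y * γ * y⁻¹ = γ⁻¹

theorem P4.conj {γ g : Γ} (h : P4 S γ) (hg : g ∈ 𝒩[S]) : P4 S (g * γ * g⁻¹) := by
  refine ⟨end1_conj_mem hg h.mem, End2.conj4 h.h4 g, fun y hy hc => ?_⟩
  rw [End2.conj_sq] at hc
  have e : y * (g * γ * g⁻¹) * y⁻¹ = g * (g⁻¹ * y * g * γ * (g⁻¹ * y * g)⁻¹) * g⁻¹ := by group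
  have hc' : Commute (g⁻¹ * y * g) (γ * γ) := End2.comm_of_conj (by
    calc g⁻¹ * y * g * (γ * γ) * (g⁻¹ * y * g)⁻¹ = g⁻¹ * (y * (g * (γ * γ) * g⁻¹)) * y⁻¹ * g := by group
      _ = γ * γ := by rw [hc.eq]; group)
  rcases h.H _ (end1_conj_mem' hg hy) hc' with e' | e'
  · exact .inl (by rw [e, e'])
  · exact .inr (by rw [e, e']; group)

theorem P4.comm_conj (pS : IsPGroup 2 S) {γ g g' : Γ} (h : P4 S γ) (hg : g ∈ S) (hg' : g' ∈ S) :
    Commute (g * γ * g⁻¹) (g' * γ * g'⁻¹) :=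
  OFP.comm_conj pS le_rfl le_normalizer h.mem h.h4 h.H hg hg'

theorem P4.comm_sq (pS : IsPGroup 2 S) {u v : Γ} (hu : P4 S u) (hv : P4 S v) : Commute (u * u) (v * v) := by
  have mm : (v * v)⁻¹ = v * v := End2.inv_sq hv.h4
  have h1 : Commute (u⁻¹ * (v * v) * u⁻¹⁻¹) (v * v) := by
    have := hv.comm_conj pS (S.inv_mem hu.mem) S.one_mem
    rw [one_mul, inv_one, mul_one] at this
    rw [← End2.conj_sq]
    exact (this.mul_left this).mul_right (this.mul_left this)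
  have h3 : Commute (v * v * u * (v * v)⁻¹) u := by
    have := hu.comm_conj pS (S.mul_mem hv.mem hv.mem) S.one_mem
    rwa [one_mul, inv_one, mul_one] at this
  set μ := v * v with hμ
  have m2 : μ * μ = 1 := by nth_rewrite 1 [← mm]; exact inv_mul_cancel μ
  have h5 : (u⁻¹ * μ * u⁻¹⁻¹ * μ) ^ 2 = 1 := by
    rw [h1.mul_pow, conj_pow, sq, m2]; group
  have h6 : (u⁻¹ * (μ * u * μ⁻¹)) ^ 2 = 1 := by
    rw [← h5, mm]; congr 1; group
  rw [h3.symm.inv_left.mul_pow, inv_pow, inv_mul_eq_one, sq, sq, End2.conj_sq μ u] at h6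
  exact (End2.comm_of_conj h6.symm).symm

theorem P4.comm (pS : IsPGroup 2 S) {u v : Γ} (hu : P4 S u) (hv : P4 S v) (hne : u * u ≠ v * v) : Commute u v :=
  End2.core hu.mem hv.mem (two_of_mem pS (S.mul_mem hu.mem hv.mem)) hu.h4 hv.h4 hu.H hv.H (hu.comm_sq pS hv) hne

/-- The product of a commuting orbit is a fixed point. -/
theorem exists_prod {K : Subgroup Γ} (wK : w ∉ D) (hc : ∀ g ∈ L, ∀ g' ∈ L, Commute (g * w * g⁻¹) (g' * w * g'⁻¹))
    (hK : ∀ g ∈ L, g * w * g⁻¹ ∈ K) (hD : ∀ g ∈ L, g * w * g⁻¹ ≠ w → g * w * g⁻¹ ∈ D) :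
    ∃ x ∈ K, x ≠ 1 ∧ ∀ g ∈ L, Commute g x := by
  classical
  set O : Finset Γ := (Set.toFinite {y | ∃ g ∈ L, g * w * g⁻¹ = y}).toFinset with hO
  have mO : ∀ {y : Γ}, y ∈ O ↔ ∃ g ∈ L, g * w * g⁻¹ = y := fun {y} => by simp [hO]
  have cO : (O : Set Γ).Pairwise (Function.onFun Commute id) := by
    intro x hx y hy _
    obtain ⟨g, hg, rfl⟩ := mO.1 hx
    obtain ⟨g', hg', rfl⟩ := mO.1 hy
    exact hc g hg g' hg'
  have wO : w ∈ O := mO.2 ⟨1, L.one_mem, by simp⟩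
  refine ⟨O.noncommProd id cO, ?_, fun e => wK ?_, fun g hg => End2.comm_of_conj ?_⟩
  · refine K.noncommProd_mem _ fun y hy => ?_
    obtain ⟨g, hg, rfl⟩ := mO.1 hy
    exact hK g hg
  · rw [← Finset.mul_noncommProd_erase O wO] at e
    rw [show w = id w from rfl, eq_inv_of_mul_eq_one_left e]
    refine D.inv_mem (D.noncommProd_mem _ fun y hy => ?_)
    obtain ⟨y1, hy⟩ := Finset.mem_erase.1 hy
    obtain ⟨g, hg, rfl⟩ := mO.1 hy
    exact hD g hg y1
  · have e : O.map (MulAut.conj g).toEquiv.toEmbedding = O := by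
      ext y
      rw [Finset.mem_map_equiv, mO, mO]
      constructor
      · rintro ⟨k, hk, e⟩
        refine ⟨g * k, L.mul_mem hg hk, ?_⟩
        have : y = g * (k * w * k⁻¹) * g⁻¹ := by rw [e]; simp [mul_assoc]
        rw [this]; group
      · rintro ⟨k, hk, rfl⟩
        refine ⟨g⁻¹ * k, L.mul_mem (L.inv_mem hg) hk, ?_⟩
        simp [mul_assoc]
    have e2 : (O.val.map id).map (MulAut.conj g) = O.val.map id := by
      rw [Multiset.map_id]
      exact congrArg Finset.val e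
    change MulAut.conj g (O.noncommProd id cO) = _
    unfold Finset.noncommProd
    rw [Multiset.map_noncommProd]
    congr 1

end EndA

open EndA End3

theorem Ed.p4 (h : Ed S D a b w t) : P4 S (a * b) :=
  ⟨S.mul_mem h.aS h.bS, by rw [← h.ww, ← h.cc]; simp only [pow_succ, pow_zero, one_mul, mul_assoc],
    fun y hy e => h.norm_c hy (h.cc ▸ e)⟩

theorem Ed.sq_mem (h : Ed S D a b w t) {γ : Γ} (hγ : P4 S γ) (hc : ∀ s ∈ S, Commute (s * γ * s⁻¹) (a * b))
    (ha : ∀ s ∈ S, Commute a (s * (γ * γ) * s⁻¹)) (hne : γ * γ ≠ w) : γ * γ ∈ D := by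
  have cc := h.cc
  have ac := h.ac
  have ic := h.inv_c
  set Y := closure {y | ∃ g ∈ S, g * γ * g⁻¹ = y} with hY
  have nY : S ≤ 𝒩[Y] := norm_cl γ
  have γY : γ ∈ Y := subset_closure ⟨1, S.one_mem, by simp⟩
  have X2 : ∀ x ∈ {y | ∃ g ∈ S, g * γ * g⁻¹ = y}, ∀ y ∈ {y | ∃ g ∈ S, g * γ * g⁻¹ = y}, Commute x y := by
    rintro _ ⟨g, hg, rfl⟩ _ ⟨g', hg', rfl⟩
    exact hγ.comm_conj h.pS hg hg'
  have cm : ∀ x ∈ Y, ∀ y ∈ Y, Commute x y := fun x hx y hy => comm_cl X2 hx hy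
  have YS : Y ≤ S := (closure_le _).2 (by
    rintro _ ⟨g, hg, rfl⟩
    exact S.mul_mem (S.mul_mem hg hγ.mem) (S.inv_mem hg))
  have Yc : Y ≤ centralizer {a * b} := (closure_le _).2 (by
    rintro _ ⟨g, hg, rfl⟩
    exact mem_centralizer_singleton_iff.2 (hc g hg).eq)
  have sY : ∀ y ∈ Y, y * y ∈ centralizer {a} := fun y hy => sq_cl X2 (by
    rintro _ ⟨g, hg, rfl⟩
    rw [End2.conj_sq]
    exact mem_centralizer_singleton_iff.2 (ha g hg).symm.eq) hy
  obtain ⟨i, d, hd, e0⟩ := h.lemU YS nY (fun y hy => mem_centralizer_singleton_iff.1 (Yc hy))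
    (fun y hy => by
      rw [(cm _ ((mem_normalizer_iff.1 (nY h.aS) y).1 hy) _ (Y.inv_mem hy)).mul_pow, conj_pow, sq,
        ← mem_centralizer_singleton_iff.1 (sY y hy)]
      group) γY
  set c := a * b with hc'
  have cD : Commute c d := (h.Da d hd).mul_left (h.Db d hd)
  have cw : Commute c w := cc ▸ (Commute.refl c).mul_right (Commute.refl c)
  rcases pow_inv2 h.ww i with ⟨e', -⟩ | ⟨e', -⟩
  · rw [e0, ← sq, (cD.pow_left i).mul_pow, ← pow_mul, mul_comm i 2, pow_mul, sq c, cc, e', one_mul]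
    exact D.pow_mem hd 2
  · exfalso
    have e : a * γ * a⁻¹ = γ * w := by
      rw [e0]
      calc a * (c ^ i * d) * a⁻¹ = (a * c * a⁻¹) ^ i * (a * d * a⁻¹) := by rw [conj_pow]; group
        _ = c ^ i * d * w := by
          rw [ac, ic, (h.Da d hd).eq, mul_inv_cancel_right, cw.mul_pow, mul_assoc, e', (h.Dw hd).eq, mul_assoc]
    rcases hγ.H a h.aS (by simpa using ha 1 S.one_mem) with e1 | e1
    · exact h.w1 (by rw [e] at e1; simpa using e1)
    · apply hne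
      rw [← End2.inv_sq hγ.h4, mul_inv_rev]
      nth_rewrite 2 [← e1]
      rw [e, inv_mul_cancel_left]

/-- Any group of operators `L ≥ S` on the `2`-group `S` of the final configuration has a nontrivial fixed point:
the `L`-conjugates of `w` commute, those different from `w` lie in `D`, and their product lies in `w D`. -/
theorem Ed.exists_fixed (h : Ed S D a b w t) (SL : S ≤ L) (LN : L ≤ 𝒩[S]) :
    ∃ x ∈ S, x ≠ 1 ∧ ∀ g ∈ L, Commute g x := by
  have cc := h.cc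
  have p4 := h.p4
  set c := a * b with hc
  have cw : Commute c w := cc ▸ (Commute.refl c).mul_right (Commute.refl c)
  have pg : ∀ g ∈ L, P4 S (g * c * g⁻¹) := fun g hg => p4.conj (LN hg)
  have sg : ∀ g : Γ, g * c * g⁻¹ * (g * c * g⁻¹) = g * w * g⁻¹ := fun g => by rw [End2.conj_sq, cc]
  have X2 : ∀ g ∈ L, ∀ g' ∈ L, Commute (g * w * g⁻¹) (g' * w * g'⁻¹) := fun g hg g' hg' => by
    rw [← sg, ← sg]
    exact (pg g hg).comm_sq h.pS (pg g' hg')
  have cg : ∀ g ∈ L, g * w * g⁻¹ ≠ w → Commute (g * c * g⁻¹) c := fun g hg hne =>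
    (pg g hg).comm h.pS p4 (by rwa [sg, cc])
  set A := closure {y | ∃ g ∈ L, g * w * g⁻¹ = y} with hA
  have nA : L ≤ 𝒩[A] := norm_cl w
  have gA : ∀ g ∈ L, g * w * g⁻¹ ∈ A := fun g hg => subset_closure ⟨g, hg, rfl⟩
  have X3 : ∀ x ∈ {y | ∃ g ∈ L, g * w * g⁻¹ = y}, ∀ y ∈ {y | ∃ g ∈ L, g * w * g⁻¹ = y}, Commute x y := by
    rintro _ ⟨g, hg, rfl⟩ _ ⟨g', hg', rfl⟩
    exact X2 g hg g' hg'
  have AS : A ≤ S := (closure_le _).2 (by
    rintro _ ⟨g, hg, rfl⟩
    exact end1_conj_mem (LN hg) h.wS)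
  have Ac : A ≤ centralizer {c} := (closure_le _).2 (by
    rintro _ ⟨g, hg, rfl⟩
    refine mem_centralizer_singleton_iff.2 ?_
    by_cases e : g * w * g⁻¹ = w
    · rw [e]; exact cw.symm.eq
    · rw [← sg]; exact ((cg g hg e).mul_left (cg g hg e)).eq)
  have sA : ∀ y ∈ A, y * y = 1 := fun y hy => mem_bot.1 (sq_cl (A := ⊥) X3 (by
      rintro _ ⟨g, hg, rfl⟩
      rw [End2.conj_sq, h.ww, mul_one, mul_inv_cancel]
      exact one_mem _) hy)
  have aL := SL h.aS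
  have cD : ∀ d ∈ D, Commute c d := fun d hd => (h.Da d hd).mul_left (h.Db d hd)
  have aA : ∀ y ∈ A, Commute a y := fun y hy => by
    obtain ⟨i, d, hd, rfl⟩ := h.lemU AS (SL.trans nA) (fun y hy => mem_centralizer_singleton_iff.1 (Ac hy))
      (fun y hy => by
        rw [sq]
        exact sA _ (A.mul_mem ((mem_normalizer_iff.1 (nA aL) y).1 hy) (A.inv_mem hy))) hy
    have e := sA _ hy
    rw [← hc, ← sq, ((cD d hd).pow_left i).mul_pow, ← pow_mul, mul_comm i 2, pow_mul, sq c, cc] at e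
    rcases pow_inv2 h.ww i with ⟨-, j, rfl⟩ | ⟨e', -⟩
    · rw [← hc, ← two_mul, pow_mul, sq, cc]
      exact (h.aw.pow_right j).mul_right (h.Da d hd)
    · rw [e'] at e
      exact absurd (eq_inv_of_mul_eq_one_left e ▸ D.inv_mem (D.pow_mem hd 2)) h.wD
  refine exists_prod h.wD X2 (fun g hg => AS (gA g hg)) fun g hg hne => ?_
  by_cases hs : ∃ s ∈ S, s * w * s⁻¹ = g * w * g⁻¹
  · obtain ⟨s, hs, e⟩ := hs
    rw [← e, ← sg] at hne ⊢
    refine h.sq_mem (pg s (SL hs)) (fun y hy => ?_) (fun y hy => ?_) hne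
    · have := p4.comm_conj h.pS (S.mul_mem hy hs) S.one_mem
      rw [one_mul, inv_one, mul_one] at this
      convert this using 1
      group
    · rw [sg]
      convert aA _ (gA _ (SL (S.mul_mem hy hs))) using 1
      group
  · rw [← sg] at hne ⊢
    refine h.sq_mem (pg g hg) (fun y hy => ?_) (fun y hy => ?_) hne
    · have := cg _ (L.mul_mem (SL hy) hg) fun e => hs ⟨y⁻¹, S.inv_mem hy, by
        nth_rewrite 1 [← e]; group⟩
      convert this using 1
      group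
    · rw [sg]
      convert aA _ (gA _ (L.mul_mem (SL hy) hg)) using 1
      group

end CfsgLib.OFP
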