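import Mathlib
import Cfsg.Agent.Lib.OFP.Bas1
import Cfsg.Agent.Lib.Push.Orbit2

set_option autoImplicit false
set_option linter.unusedSectionVars false

namespace CfsgLib.OFP

open Subgroup Cfsg CfsgLib.LAE CfsgLib.Push CfsgLib.Blocks CfsgLib.ZJ
open scoped commutatorElement

variable {Γ : Type*} [Group Γ] [Finite Γ]

variable {p : ℕ} [Fact p.Prime] {S P M : Subgroup Γ}

theorem pu_sub (h : PU p S P M) : PU p (S.subgroupOf P) ⊤ (M.subgroupOf P) := by
  have hq : pCoreOf p (⊤ : Subgroup P) = (pCoreOf p P).subgroupOf P := by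
    rw [pCoreOf_top, pCoreOf_subgroupOf]
  have hi := P.subtype_injective
  refine ⟨subgroupOf_self P ▸ h.syl.subgroupOf le_rfl,
    subgroupOf_self P ▸ (isCharP_subgroupOf_iff le_rfl).2 h.charP,
    ⟨comap_mono h.SM, lt_top_iff_ne_top.2 fun e => h.not_le (subgroupOf_eq_top.1 e),
      fun K h1 h2 => ?_⟩, fun h1 => h.nn fun x hx => ?_, ?_, fun g _ t ht h1 h2 => ?_⟩
  · refine map_le_iff_le_comap.1 (h.uniq.2.2 _ ?_ (lt_of_le_of_ne (map_subtype_le K) fun e => ?_))
    · rw [← map_subgroupOf_eq_of_le h.SP]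
      exact map_mono h1
    · refine h2.ne (top_le_iff.1 fun x _ => ?_)
      obtain ⟨y, hy, e1⟩ := e.ge x.2
      rwa [← Subtype.ext e1]
  · rw [hq] at h1
    exact h1 (show (⟨x, h.SP hx⟩ : P) ∈ S.subgroupOf P from hx)
  · rw [hq]
    refine map_le_iff_le_comap.1 ?_
    rw [map_commutator, map_subgroupOf_eq_of_le h.SP]
    exact h.ab
  · rw [hq] at h1
    exact h.se g g.2 t ht h1 h2

theorem core_map {Δ : Type*} [Group Δ] (f : Γ →* Δ) (hk : f.ker ≤ pCoreOf p P) :
    pCoreOf p (P.map f) = (pCoreOf p P).map f := by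
  refine le_antisymm (fun y hy => ?_) (map_pCoreOf_le f P)
  obtain ⟨x, hx, rfl⟩ := pCoreOf_le _ hy
  refine mem_map_of_mem f (le_pCoreOf (Q := P ⊓ (pCoreOf p (P.map f)).comap f)
    ((isPGroup_comap_of_ker ((isPGroup_pCoreOf P).to_le hk) (isPGroup_pCoreOf _)).to_le
      inf_le_right) inf_le_left (le_normalizer_inf le_normalizer ?_) ⟨hx, hy⟩)
  exact (le_comap_map f P).trans (comap_le_normalizer_comap f (le_normalizer_pCoreOf _))

/-- Characteristic `p`: the preimage `C` in `P` of `C(O_p)` is normal; an element `x ∈ C` of order prime to `p` has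
`[Q, x] ≤ ker f` and centralizes `ker f`, so it centralizes `Q = O_p(P)` and is trivial. Hence `C` is a `p`-group.
The other fields: `ker f ≤ Q ≤ S ≤ M`, so subgroups above `S.map f` correspond to subgroups above `S`. -/
theorem pu_quot (h : PU p S P M) {Δ : Type*} [Group Δ] [Finite Δ] (f : Γ →* Δ) (hk : f.ker ≤ pCoreOf p P)
    (hc : pResOf p P ≤ 𝒞[f.ker]) : PU p (S.map f) (P.map f) (M.map f) := by
  have hq := core_map f hk
  have back : ∀ {X : Subgroup Γ} {x : Γ}, f.ker ≤ X → f x ∈ X.map f → x ∈ X := fun hX hx => by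
    have := mem_comap.2 hx
    rwa [comap_map_eq_self hX] at this
  have hM : f.ker ≤ M := (hk.trans h.QS).trans h.SM
  refine ⟨h.syl.map f, isCharP_of_isPGroup_centralizer ?_, h.uniq.map f (inf_le_right.trans hM),
    fun h1 => h.nn fun x hx => back hk (hq ▸ h1 (mem_map_of_mem f hx)), ?_, ?_⟩
  · set C : Subgroup Γ := P ⊓ (𝒞[pCoreOf p (P.map f)]).comap f with hC
    have h1 : ⁅pCoreOf p P, pResOf p C⁆ ≤ f.ker := by
      rw [← Subgroup.map_eq_bot_iff, map_commutator, ← hq, commutator_eq_bot_iff_le_centralizer,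
        le_centralizer_iff]
      exact map_le_iff_le_comap.2 ((pResOf_le C).trans inf_le_right)
    have h2 : ⁅pCoreOf p P, pResOf p C⁆ = ⊥ := by
      rw [← commutator_pResOf_commutator' (isPGroup_pCoreOf P)
        (inf_le_left.trans (le_normalizer_pCoreOf P)), commutator_eq_bot_iff_le_centralizer]
      exact h1.trans (le_centralizer_iff.1 ((pResOf_mono inf_le_left).trans hc))
    have h3 : pResOf p C ≤ pCoreOf p P := h.charP.le_pCoreOf ((pResOf_le C).trans inf_le_left)
      (le_centralizer_iff.1 (commutator_eq_bot_iff_le_centralizer.1 h2))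
    have h4 : IsPGroup p C := by
      rw [← pResOf_eq_bot_iff, ← pResOf_pResOf, pResOf_eq_bot_iff]
      exact (isPGroup_pCoreOf P).to_le h3
    refine (h4.map f).to_le ?_
    rintro _ ⟨⟨x, hx, rfl⟩, h5⟩
    exact ⟨x, ⟨hx, h5⟩, rfl⟩
  · rw [hq, ← map_commutator]
    exact map_mono h.ab
  · rintro _ ⟨g, hg, rfl⟩ _ ⟨t, ht, rfl⟩ h1 h2
    refine mem_map_of_mem f (h.se g hg t ht (fun h3 => h1 (hq ▸ mem_map_of_mem f h3))
      (back hM ?_))
    rwa [map_mul, map_mul, map_inv]

end CfsgLib.OFP
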