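import Mathlib
import Cfsg.Agent.Lib.OFP.Pq

set_option autoImplicit false
set_option linter.unusedSectionVars false

namespace CfsgLib.OFP

open Subgroup Cfsg CfsgLib.LAE CfsgLib.PLocal CfsgLib.Push CfsgLib.Blocks CfsgLib.ZJ
open scoped commutatorElement

variable {Γ : Type*} [Group Γ] [Finite Γ]

variable {B P M V V₀ : Subgroup Γ}

/-- `NatData.exists_map`. -/
theorem NS.map {F : Type} [Field F] (h : NS F B P V V₀) (hB : B ≤ P) {Δ : Type*} [Group Δ] {f : Γ →* Δ}
    (hf : Function.Injective f) : NS F (B.map f) (P.map f) (V.map f) (V₀.map f) := by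
  obtain ⟨D, d1, d2⟩ := h.nat
  obtain ⟨D', -, e2⟩ := D.exists_map f (by
    rw [(MonoidHom.ker_eq_bot_iff f).2 hf, inf_bot_eq]; exact bot_le)
  refine ⟨⟨D', ?_, ?_⟩, ?_, ?_, ?_, ?_⟩
  · rw [← d1]
    ext g
    rw [D'.mem_img, D.mem_img]
    constructor
    · rintro ⟨_, -, ⟨y, hy, rfl⟩, rfl⟩
      exact ⟨y, hB hy, hy, (e2 y (hB hy)).symm⟩
    · rintro ⟨y, hy, hy', rfl⟩
      exact ⟨f y, mem_map_of_mem f hy, mem_map_of_mem f hy', e2 y hy⟩
  · rw [← map_pCoreOf hf, ← d2]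
    ext g
    rw [D'.mem_ker]
    constructor
    · rintro ⟨⟨y, hy, rfl⟩, h1⟩
      exact mem_map_of_mem f (D.mem_ker.2 ⟨hy, (e2 y hy).symm.trans h1⟩)
    · rintro ⟨y, hy, rfl⟩
      obtain ⟨h1, h2⟩ := D.mem_ker.1 hy
      exact ⟨mem_map_of_mem f h1, (e2 y h1).trans h2⟩
  · rw [← map_pCoreOf hf]; exact map_mono h.VQ
  · rw [← map_pCoreOf hf, ← map_pResOf_of_injective hf, ← Subgroup.map_commutator]
    exact map_mono h.QK
  · rw [← map_pResOf_of_injective hf]
    exact map_le_centralizer_map f h.K0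
  · rw [← map_omegaZ hf]; exact map_mono h.ZV

theorem char_comap_of_surj {A A' : Type*} [Group A] [Group A'] (ρ : A →* A') (hρ : Function.Surjective ρ)
    (hk : ρ.ker.Characteristic) {N : Subgroup A'} (hN : N.Characteristic) : (N.comap ρ).Characteristic := by
  rw [characteristic_iff_le_comap]
  intro ϕ x hx
  have h1 : ∀ ψ : A ≃* A, ρ.ker ≤ (ρ.comp ψ.toMonoidHom).ker := fun ψ y hy =>
    characteristic_iff_le_comap.1 hk ψ hy
  let L : (A ≃* A) → A' →* A' := fun ψ => ρ.liftOfSurjective hρ ⟨ρ.comp ψ.toMonoidHom, h1 ψ⟩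
  have h2 : ∀ ψ y, L ψ (ρ y) = ρ (ψ y) := fun ψ y =>
    ρ.liftOfRightInverse_comp_apply _ _ ⟨ρ.comp ψ.toMonoidHom, h1 ψ⟩ y
  let e : A' ≃* A' := MonoidHom.toMulEquiv (L ϕ) (L ϕ.symm)
    (MonoidHom.ext fun u => by obtain ⟨y, rfl⟩ := hρ u; simp [h2])
    (MonoidHom.ext fun u => by obtain ⟨y, rfl⟩ := hρ u; simp [h2])
  have h3 : L ϕ (ρ x) ∈ N := characteristic_iff_le_comap.1 hN e hx
  rwa [h2] at h3

theorem hchar_quot {X : Type*} [Group X] {π : Γ →* X} (hs : Function.Surjective π) (hN : π.ker ≤ B)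
    (hc : (π.ker.subgroupOf B).Characteristic)
    (hm : ∀ C ≤ B, (C.subgroupOf B).Characteristic → C.Normal → π.ker ≤ C → C ≤ π.ker) :
    HChar (B.map π) ((⊤ : Subgroup Γ).map π) := by
  intro N' hN' hn
  have hnn : (N'.map (B.map π).subtype).Normal := by
    rw [← normalizer_eq_top_iff, eq_top_iff]
    rwa [map_top_of_surjective _ hs] at hn
  have h1 : (N'.map (B.map π).subtype).comap π ≤ π.ker := by
    refine hm _ ((comap_mono (map_subtype_le _)).trans (comap_map_eq_self hN).le) ?_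
      (hnn.comap π) (ker_le_comap _ _)
    have h2 : ((N'.map (B.map π).subtype).comap π).subgroupOf B = N'.comap (π.subgroupMap B) := by
      ext x
      rw [mem_subgroupOf, mem_comap, mem_comap]
      constructor
      · rintro ⟨y, hy, e⟩
        have : y = π.subgroupMap B x := Subtype.ext e
        exact this ▸ hy
      · exact fun hx => ⟨_, hx, rfl⟩
    rw [h2]
    refine char_comap_of_surj _ (π.subgroupMap_surjective B) ?_ hN'
    have h3 : (π.subgroupMap B).ker = π.ker.subgroupOf B := by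
      ext x
      rw [MonoidHom.mem_ker, mem_subgroupOf, MonoidHom.mem_ker, Subtype.ext_iff]
      rfl
    rwa [h3]
  rw [eq_bot_iff]
  rintro ⟨_, y, hy, rfl⟩ hx
  have h4 : y ∈ π.ker := h1 (mem_comap.2 ⟨_, hx, rfl⟩)
  exact mem_bot.2 (Subtype.ext h4)

/-- Let `N` be a characteristic subgroup of `B` normal in `Γ` of maximal order, `π` the quotient map; `N ≤ Q = O₂(Γ)`
and `K = O²(Γ)` centralizes `N`. `pu_quot` applies, and `HChar` holds in the quotient: the preimage in `B` of a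
characteristic subgroup of `B / N` is characteristic (automorphisms of `B` induce automorphisms of `B / N`). As in
`BHS.rank_one` (Lib/BHS/Rank1b) get natural data on `VV` with `img = upU`, `ker = O₂`; `PU.pushing_up'` gives
`Case1'` (`p ≠ 3`), `Case1.comm_res`, `Case1.cen_le`. Pull back with `NatData.comap` to `V = π⁻¹(VV)`,
`V₀ = π⁻¹(C_VV(⊤))`. `K0`: elements of odd order centralize `V₀ / N` and `N` (`commute_of_odd`). `ZV`: `cen_le_VV`. -/
theorem l2a_top (h : PU 2 B ⊤ M)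
    (hA : ∀ C ≤ B, (C.subgroupOf B).Characteristic → C.Normal → pResOf 2 ⊤ ≤ 𝒞[C]) :
    ∃ (F : Type) (_ : Field F) (_ : Fintype F) (_ : CharP F 2) (V V₀ : Subgroup Γ), NS F B ⊤ V V₀ := by
  obtain ⟨N, ⟨hNB, hNc, hNn⟩, hm⟩ := Set.Finite.exists_maximal
    (s := {C : Subgroup Γ | C ≤ B ∧ (C.subgroupOf B).Characteristic ∧ C.Normal}) (Set.toFinite _)
    ⟨⊥, bot_le, by rw [bot_subgroupOf]; infer_instance, inferInstance⟩
  obtain ⟨π, hs, hk⟩ : ∃ π : Γ →* Γ ⧸ N, Function.Surjective π ∧ π.ker = N :=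
    ⟨_, QuotientGroup.mk'_surjective N, QuotientGroup.ker_mk' N⟩
  have pN : IsPGroup 2 N := h.pS.to_le hNB
  have hNQ : π.ker ≤ pCoreOf 2 ⊤ := hk.le.trans (le_pCoreOf pN le_top le_normalizer_of_normal)
  have hKN : pResOf 2 ⊤ ≤ 𝒞[N] := hA N hNB hNc hNn
  have h' := pu_quot h π hNQ (hk.symm ▸ hKN)
  have hH : HChar (B.map π) ((⊤ : Subgroup Γ).map π) :=
    hchar_quot hs (hk.le.trans hNB) (hk.symm ▸ hNc) fun C h1 h2 h3 h4 =>
      (hm ⟨h1, h2, h3⟩ (hk.ge.trans h4)).trans hk.ge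
  obtain ⟨A, hA', hAQ⟩ : ∃ A ∈ maxElemIn 0 (B.map π), ¬ A ≤ pCoreOf 2 ((⊤ : Subgroup Γ).map π) := by
    by_contra h1
    push Not at h1
    exact hH.notJ h' (thompsonSubgroupOf_le_iff.2 h1)
  have hV := hH.elemAb_V h'
  obtain ⟨F, _, _, D, -, hS, hD, -, -, hc, -⟩ := h'.exists_natData_of_maxElemIn (hH.nz h')
    (e := 0) ⟨hV.1, fun _ _ => pow_zero _⟩ hA' hAQ
  have := charP_of_relIndex h'.pS hc
  obtain ⟨A₁, h1⟩ : ∃ A, Case1' 2 (B.map π) ((⊤ : Subgroup Γ).map π) A := by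
    rcases h'.pushing_up' hH with h1 | ⟨A, U, R, D, h1⟩
    · exact h1
    · exact absurd h1.three (by norm_num)
  have hD' : D.ker = pCoreOf 2 ((⊤ : Subgroup Γ).map π) :=
    hD.trans (le_antisymm (h1.cen_le h') (le_inf (pCoreOf_le _) Q_le_centralizer_VV))
  have hQ : (pCoreOf 2 ((⊤ : Subgroup Γ).map π)).comap π = pCoreOf 2 ⊤ := by
    rw [core_map π hNQ, comap_map_eq_self hNQ]
  have hn : (⊤ : Subgroup Γ) ≤ 𝒩[(VV 2 ((⊤ : Subgroup Γ).map π)).comap π] :=
    (le_comap_map π ⊤).trans (comap_le_normalizer_comap π le_normalizer_VV)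
  let D' := D.comap π (E' := ⊤) (U' := (VV 2 ((⊤ : Subgroup Γ).map π)).comap π)
    (U₀' := (cen (VV 2 ((⊤ : Subgroup Γ).map π)) ((⊤ : Subgroup Γ).map π)).comap π) rfl
    (map_comap_eq_self_of_surjective hs _) (inf_of_le_right (comap_mono inf_le_left)).symm hn
  have hφ : ∀ e, D'.φ e = D.φ (π e) := fun _ => rfl
  refine ⟨F, inferInstance, inferInstance, inferInstance, _, _, ⟨D', ?_, ?_⟩, ?_, ?_, ?_, ?_⟩
  · rw [← hS]
    ext g
    rw [D'.mem_img, D.mem_img]
    constructor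
    · rintro ⟨y, hy, hy', rfl⟩
      exact ⟨π y, mem_map_of_mem π hy, mem_map_of_mem π hy', rfl⟩
    · rintro ⟨_, -, ⟨y, hy, rfl⟩, rfl⟩
      exact ⟨y, trivial, hy, rfl⟩
  · rw [← hQ, ← hD']
    ext g
    rw [D'.mem_ker, mem_comap, D.mem_ker, hφ]
    exact and_congr_left' ⟨mem_map_of_mem π, fun _ => trivial⟩
  · exact (comap_mono h'.VQ).trans hQ.le
  · rw [← map_le_iff_le_comap, Subgroup.map_commutator, ← core_map π hNQ, map_pResOf]
    exact h1.comm_res h'
  · refine pResOf_le_iff.2 fun g hg ho x hx => ?_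
    have h2 : ⁅g, x⁆ ∈ N := by
      refine hk.le ?_
      rw [MonoidHom.mem_ker, map_commutatorElement, commutatorElement_eq_one_iff_mul_comm]
      exact hx.2 _ (mem_map_of_mem π hg)
    exact (commute_of_odd (Nat.coprime_two_right.1 ho) (two_of_mem pN h2)
      (hKN (mem_pResOf hg ho) _ h2).symm).symm
  · intro z hz
    obtain ⟨z1, z2, -⟩ := mem_omegaZ.1 hz
    refine cen_le_VV h'.syl ⟨mem_map_of_mem π z1, ?_⟩
    rintro _ ⟨y, hy, rfl⟩
    rw [← map_mul, ← map_mul, z2 y hy]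

/-- From `l2a_top` in the type `P` (`pu_sub`, `NS.map`). -/
theorem l2a (h : PU 2 B P M)
    (hA : ∀ C ≤ B, (C.subgroupOf B).Characteristic → P ≤ 𝒩[C] → pResOf 2 P ≤ 𝒞[C]) :
    ∃ (F : Type) (_ : Field F) (_ : Fintype F) (_ : CharP F 2) (V V₀ : Subgroup Γ), NS F B P V V₀ := by
  have hB : (B.subgroupOf P).map P.subtype = B := map_subgroupOf_eq_of_le h.SP
  have hP : (⊤ : Subgroup P).map P.subtype = P := by rw [← MonoidHom.range_eq_map, range_subtype]
  obtain ⟨F, _, _, _, V, V₀, h1⟩ := l2a_top (pu_sub h) fun C hC hc hn => by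
    have h2 := hA (C.map P.subtype) ((map_mono hC).trans hB.le) (by
      have h3 : (C.map P.subtype).subgroupOf B =
          (C.subgroupOf (B.subgroupOf P)).comap (subgroupOfEquivOfLe h.SP).symm.toMonoidHom := by
        ext x
        rw [mem_subgroupOf, mem_comap, mem_subgroupOf]
        constructor
        · rintro ⟨y, hy, e⟩
          have : y = ⟨x, h.SP x.2⟩ := Subtype.ext e
          subst this
          exact hy
        · exact fun hx => ⟨_, hx, rfl⟩
      rw [h3]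
      refine char_comap_of_surj _ (subgroupOfEquivOfLe h.SP).symm.surjective ?_ hc
      rw [(MonoidHom.ker_eq_bot_iff _).2 (subgroupOfEquivOfLe h.SP).symm.injective]
      infer_instance) (le_normalizer_map_subtype C)
    intro g hg x hx
    refine Subtype.ext (h2 ?_ x (mem_map_of_mem _ hx))
    exact ((map_pResOf_of_injective P.subtype_injective ⊤).trans (congrArg _ hP)).le (mem_map_of_mem _ hg)
  have h2 := h1.map le_top P.subtype_injective
  rw [hB, hP] at h2
  exact ⟨F, inferInstance, inferInstance, inferInstance, _, _, h2⟩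

end CfsgLib.OFP
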