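import Mathlib
import Cfsg.Agent.Lib.OFP.Bas1

set_option autoImplicit false
set_option linter.unusedSectionVars false

namespace CfsgLib.OFP

open Subgroup Cfsg CfsgLib.LAE CfsgLib.Push CfsgLib.Blocks CfsgLib.ZJ
open scoped commutatorElement

variable {Γ : Type*} [Group Γ] [Finite Γ]

variable {B P M V V₀ Z : Subgroup Γ} {F : Type} [Field F] [Fintype F] [CharP F 2]

private theorem l2b_pow_ne {l : F} (h : l ≠ 1) (n : ℕ) : l ^ 4 ^ n ≠ 1 := by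
  intro e
  have h4 : (4 : ℕ) ^ n = 2 ^ (2 * n) := by rw [pow_mul]; norm_num
  have : Fact (Nat.Prime 2) := ⟨Nat.prime_two⟩
  have h1 : (l - 1) ^ 2 ^ (2 * n) = 0 := by
    rw [sub_pow_char_pow, ← h4, e, one_pow, sub_self]
  exact h (sub_eq_zero.1 (pow_eq_zero_iff (by positivity) |>.1 h1))

private theorem l2b_act_dg (a : Fˣ) {v : Fin 2 → F} (hv : v ∈ line0 F) :
    act (SL2.dg a) v 0 = a * v 0 ∧ act (SL2.dg a) v 1 = 0 := by
  rw [mem_line0] at hv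
  constructor <;> simp [act_apply, SL2.dg_00, SL2.dg_01, SL2.dg_10, SL2.dg_11, hv]

/-- `Q = O₂(P) = ker ≤ B`, so `B` is the full preimage of `upU` and elements with `φ` in `borel` normalize `B`.
`E = Ω Z(B) ≤ V` is abelian and `π(E) ⊆ line0` (fixed by `upU`). Take `λ ≠ 0, 1`, `f₀ ∈ P` with `φ f₀ = dg λ`, and
`f = f₀ ^ 4 ^ n` of odd order (`exists_odd_pow`): `φ f = dg μ`, `μ = λ ^ 4 ^ n ≠ 1` (characteristic `2`), `f ∈ O²(P)`
centralizes `V₀`. For `e ∈ E`: `π ⁅f, e⁆ = (μ - 1) π e`, so `⁅f, e⁆ = 1 ↔ e ∈ V₀ ↔ ⁅f, e⁆ ∈ V₀`. There is `z ∈ Z`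
outside `V₀`. Given `z, z' ∈ E \ V₀` choose `g ∈ P`, `φ g = dg ν` with `ν π z = π z'`. Then `g f g⁻¹ = f q` with
`q ∈ Q` centralizing `E`, `z₁ = g z g⁻¹ ∈ E`, `g ⁅f, z⁆ g⁻¹ = ⁅f, z₁⁆`, and `z₁ z'⁻¹ ∈ V₀` commutes with `f`. -/
theorem NS.big (n : NS F B P V V₀) (h : PU 2 B P M) (hq : 2 < Fintype.card F) (hZ : Z ≤ omegaZ 2 B)
    (hnc : ¬ pResOf 2 P ≤ 𝒞[Z]) : Big B P Z := by
  obtain ⟨D, hDB, hDk⟩ := n.nat
  have hBP : B ≤ P := h.syl.le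
  have hQB : D.ker ≤ B := hDk ▸ h.syl.pCoreOf_le
  have hN : ∀ g ∈ P, D.φ g ∈ borel F → g ∈ 𝒩[B] := fun g hg hb =>
    D.mem_normalizer_of_borel hBP hQB hDB hg hb
  have hfix : ∀ e ∈ omegaZ 2 B, D.π e ∈ line0 F := by
    intro e he
    obtain ⟨t, ht, htB, hu, h1⟩ := D.exists_φ_ne_one (T := B) hDB.ge
    have h0 : ⁅t, e⁆ = 1 := by
      rw [commutatorElement_eq_one_iff_mul_comm]
      exact omegaZ_le_centralizer B he t htB
    exact (D.mem_fix.1 ((D.commutator_mem_iff ht hu h1 (n.ZV he)).1 (h0 ▸ V₀.one_mem))).2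
  have hne : ∀ e ∈ omegaZ 2 B, e ∉ V₀ → D.π e 0 ≠ 0 := by
    intro e he h0 h1
    refine h0 ((D.π_eq_zero e (n.ZV he)).1 (vec2_ext h1 ?_))
    exact mem_line0.1 (hfix e he)
  obtain ⟨l, hl⟩ : ∃ l : Fˣ, l ≠ 1 := by
    classical
    have : 1 < Fintype.card Fˣ := by rw [Fintype.card_units]; omega
    have := Fintype.one_lt_card_iff_nontrivial.1 this
    exact exists_ne 1
  obtain ⟨f₀, hf₀, hφ₀⟩ := D.φ_surj (SL2.dg l) (mem_top _)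
  obtain ⟨k, hk⟩ := exists_odd_pow f₀
  set f := f₀ ^ 4 ^ k with hf
  have hfP : f ∈ P := P.pow_mem hf₀ _
  have hφ : D.φ f = SL2.dg (l ^ 4 ^ k) := by
    rw [hf, D.φ_pow hf₀, hφ₀, ← SL2.dgHom_apply, ← map_pow, SL2.dgHom_apply]
  have hμ : ((l ^ 4 ^ k : Fˣ) : F) ≠ 1 := by
    rw [Units.val_pow_eq_pow_val]
    exact l2b_pow_ne (fun e => hl (Units.ext e)) k
  have hf0 : f ∈ 𝒞[V₀] := n.K0 (mem_pResOf hfP ((Nat.coprime_two_right).2 hk))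
  have hfB : f ∈ 𝒩[B] := hN f hfP (hφ ▸ dg_mem_borel _)
  have k1 : ∀ e : Γ, ⁅f, e⁆ ≠ 1 → e ∉ V₀ := by
    intro e h1 h0
    exact h1 (commutatorElement_eq_one_iff_mul_comm.2 (hf0 e h0).symm)
  have k2 : ∀ e ∈ omegaZ 2 B, e ∉ V₀ → ⁅f, e⁆ ≠ 1 := by
    intro e he h0 h1
    have h2 := (D.act_eq_iff hfP (n.ZV he)).2 (h1 ▸ V₀.one_mem)
    have h3 := congrFun h2 0
    rw [hφ, (l2b_act_dg _ (hfix e he)).1] at h3
    exact hμ (mul_right_cancel₀ (hne e he h0) (h3.trans (one_mul _).symm))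
  refine ⟨f, hfP, hfB, ?_, fun z hz z' hz' h1 h2 => ?_⟩
  · by_contra hc
    push Not at hc
    refine hnc (n.K0.trans (centralizer_le fun z hz => ?_))
    by_contra h0
    exact k2 z (hZ hz) h0 (hc z hz)
  · have a1 := hne z hz (k1 z h1)
    have a2 := hne z' hz' (k1 z' h2)
    set ν : Fˣ := Units.mk0 (D.π z' 0 / D.π z 0) (div_ne_zero a2 a1) with hν
    obtain ⟨g, hg, hφg⟩ := D.φ_surj (SL2.dg ν) (mem_top _)
    have hgB : g ∈ 𝒩[B] := hN g hg (hφg ▸ dg_mem_borel _)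
    refine ⟨g, hg, hgB, ?_⟩
    have hz₁ : g * z * g⁻¹ ∈ omegaZ 2 B :=
      LAE.conj_mem_of_mem_normalizer (normalizer_le_normalizer_omegaZ B hgB) hz
    have hgf : g * f * g⁻¹ ∈ P := P.mul_mem (P.mul_mem hg hfP) (P.inv_mem hg)
    have hq : f⁻¹ * (g * f * g⁻¹) ∈ B := by
      refine hQB (D.mem_ker.2 ⟨P.mul_mem (P.inv_mem hfP) hgf, ?_⟩)
      rw [D.φ_mul (P.inv_mem hfP) hgf, D.φ_inv hfP, D.φ_conj hg hfP, hφ, hφg, ← SL2.dg_mul,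
        mul_comm ν, SL2.dg_mul]
      group
    have hv : (g * z * g⁻¹) * z'⁻¹ ∈ V₀ := by
      rw [← D.π_eq_iff' (n.ZV hz₁) (n.ZV hz'), D.π_conj g hg z (n.ZV hz), hφg]
      refine vec2_ext ?_ ?_
      · rw [(l2b_act_dg _ (hfix z hz)).1, hν, Units.val_mk0, div_mul_cancel₀ _ a1]
      · rw [(l2b_act_dg _ (hfix z hz)).2, mem_line0.1 (hfix z' hz')]
    have hc : ⁅f, z'⁆ ∈ omegaZ 2 B := by
      rw [commutatorElement_def]
      exact mul_mem (LAE.conj_mem_of_mem_normalizer (normalizer_le_normalizer_omegaZ B hfB) hz') (inv_mem hz')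
    have e1 := omegaZ_le_centralizer B hz₁ _ hq
    have e2 := hf0 _ hv
    have e3 := omegaZ_le_centralizer B hc _ (omegaZ_le B (mul_mem hz₁ (inv_mem hz')))
    have e0 : g * ⁅f, z⁆ * g⁻¹ =
        f * ((f⁻¹ * (g * f * g⁻¹)) * (g * z * g⁻¹) * (f⁻¹ * (g * f * g⁻¹))⁻¹) * f⁻¹ * (g * z * g⁻¹)⁻¹ := by
      rw [commutatorElement_def]; group
    generalize f⁻¹ * (g * f * g⁻¹) = q at e0 e1
    generalize g * z * g⁻¹ = y at e0 e1 e2 e3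
    obtain ⟨v, rfl⟩ : ∃ v, y = v * z' := ⟨y * z'⁻¹, by group⟩
    rw [mul_inv_cancel_right] at e2 e3
    rw [e0, e1, mul_inv_cancel_right]
    calc f * (v * z') * f⁻¹ * (v * z')⁻¹ = (f * v) * z' * f⁻¹ * z'⁻¹ * v⁻¹ := by group
      _ = (v * ⁅f, z'⁆) * v⁻¹ := by rw [← e2, commutatorElement_def]; group
      _ = ⁅f, z'⁆ := by rw [e3, mul_inv_cancel_right]

end CfsgLib.OFP
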