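import Mathlib
import Cfsg.Agent.Lib.OFP.Blk

set_option autoImplicit false
set_option linter.unusedSectionVars false

namespace CfsgLib.OFP

open Subgroup Cfsg CfsgLib.LAE CfsgLib.Push CfsgLib.Blocks CfsgLib.ZJ CfsgLib.SL2
open scoped commutatorElement MatrixGroups

variable {Γ : Type*} [Group Γ] [Finite Γ]

variable {B P M V V₀ Z : Subgroup Γ} {F : Type} [Field F] [Fintype F] [CharP F 2]

theorem l2c_exists_comm {a w k u : Γ} (aa : a * a = 1) (ww : w * w = 1) (hc : Commute a w)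
    (kw : k * w * k⁻¹ = a) (ka : k * a * k⁻¹ = a * w) (hu : u ∈ WW a w) : ∃ v ∈ WW a w, k * v * k⁻¹ = u * v := by
  rcases (mem_WW aa ww hc).1 hu with rfl | rfl | rfl | rfl
  · exact ⟨1, one_mem _, by simp⟩
  · refine ⟨u * w, mul_mem (left_mem_WW _ _) (right_mem_WW _ _), ?_⟩
    rw [← conj_mul, kw, ka, mul_assoc, ← hc.eq]
  · exact ⟨a, left_mem_WW _ _, ka.trans hc.eq⟩
  · exact ⟨w, right_mem_WW _ _, by rw [kw, mul_assoc, ww, mul_one]⟩

/-- `F = {0, 1}`, `Q = O₂(P) = ker`, `|B : Q| = 2`; take `b ∈ B` with `φ b = uu 1`. Take `k ∈ P` of odd order with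
`φ k = ρ` of order `3` (a power `k₀ ^ 4 ^ n`, `exists_odd_pow`); `k ∈ O²(P)` centralizes `V₀`.
`E = V ⊓ Ω Z(Q)` is normal in `P`, elementary abelian, central in `Q`, and contains some `z ∈ Z \ V₀`; so `π(E)` is
everything. `δ e = ⁅k, e⁆` is an endomorphism of `E` commuting with `k`, with `π (δ e) = (ρ - 1) π e`, `ρ - 1`
invertible; `δ e` depends only on `π e` (`k` centralizes `V₀`). So `W = δ(E)` maps bijectively onto `F²` under `π`.
`W` is `b`-invariant: `b k b⁻¹ = k⁻¹ q` with `q ∈ Q`, and `⁅k⁻¹, e⁆ = δ (k⁻¹ e⁻¹ k)`. Let `w ∈ W` with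
`π w = (1, 0)`, `a = k w k⁻¹`; identities in `W` are checked after applying `π`. `kQ`: for `x ∈ Q`,
`v = ⁅k, x⁆ ∈ V`, `v = u v₀` with `u ∈ W`, `v₀ ∈ V₀`; choose `u' ∈ W` with `δ u' = u`; then `⁅k, u'⁻¹ x⁆ = v₀`
commutes with `k`, so `v₀ = 1` (`commute_of_odd`). `Db`: every `x ∈ Q` is `u d` (`u ∈ W`, `d ∈ D = C_Q(k)`), `D` is
normalized by `Q`, `W ⊓ D = 1`; an element `u d` fixed by `k⁻¹ q` has `u = 1`, so `b D b⁻¹ = C_Q(k⁻¹ q) ≤ D`. -/
theorem NS.small (n : NS F B P V V₀) (h : PU 2 B P M) (hq : Fintype.card F = 2) (hZ : Z ≤ omegaZ 2 B)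
    (hnc : ¬ pResOf 2 P ≤ 𝒞[Z]) : ∃ a w k b : Γ, Sm B (pCoreOf 2 P) a w k b := by
  classical
  obtain ⟨D, hB, hk⟩ := n.nat
  have two : (1 : F) + 1 = 0 := by rw [one_add_one_eq_two]; exact CharTwo.two_eq_zero
  have f01 : ∀ x : F, x = 0 ∨ x = 1 := fun x => by
    by_contra! k
    have := Finset.card_le_univ ({0, 1, x} : Finset F)
    rw [Finset.card_eq_three.2 ⟨0, 1, x, zero_ne_one, k.1.symm, k.2.symm, rfl⟩] at this
    omega
  set Q := pCoreOf 2 P with hQ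
  have BP : B ≤ P := h.syl.le
  have QB : Q ≤ B := h.syl.pCoreOf_le
  have QP : Q ≤ P := pCoreOf_le P
  have PN : P ≤ 𝒩[Q] := le_normalizer_pCoreOf P
  have mQ : ∀ {x}, x ∈ P → (x ∈ Q ↔ D.φ x = 1) := fun hx => by rw [← hk, D.mem_ker, and_iff_right hx]
  obtain ⟨z, hz, z0⟩ : ∃ z ∈ Z, z ∉ V₀ := by
    by_contra! k
    exact hnc (n.K0.trans (centralizer_le (SetLike.coe_subset_coe.2 k)))
  obtain ⟨zB, zc, z2⟩ := mem_omegaZ.1 (hZ hz)
  have zV := n.ZV (hZ hz)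
  obtain ⟨b, bP, bB, hb⟩ := D.mem_img.1 (hB.ge (uu_mem (1 : F)))
  obtain ⟨k₀, k₀P, hk₀⟩ := D.φ_surj (uu 1 * ll 1) (mem_top _)
  obtain ⟨m, ko⟩ := exists_odd_pow k₀
  have aρ : ∀ v : Fin 2 → F, act (uu 1 * ll 1) v = ![v 1, v 0 + v 1] := fun v => by
    rw [act_mul, act_uu, act_ll]
    exact vec2_ext (by simp [Matrix.vecHead, add_comm (v 1), CharTwo.add_cancel_left])
      (by simp [Matrix.vecHead, Matrix.vecTail, add_comm (v 1)])
  have ρ3 : (uu 1 * ll 1 : SL(2, F)) ^ 3 = 1 := SL2_ext_act fun v => by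
    rw [pow_three, act_mul, act_mul (uu 1 * ll 1), aρ, aρ, aρ]
    exact vec2_ext (by simp [add_comm (v 0), CharTwo.add_cancel_left])
      (by simp [add_comm (v 0), CharTwo.add_cancel_left, CharTwo.add_cancel_right])
  have hk1 : D.φ (k₀ ^ 4 ^ m) = uu 1 * ll 1 := by
    rw [D.φ_pow k₀P, hk₀, pow_eq_pow_mod _ ρ3, Nat.pow_mod]; simp
  have kP := pow_mem k₀P (4 ^ m)
  generalize k₀ ^ 4 ^ m = k at ko hk1 kP
  have kR : k ∈ pResOf 2 P := mem_pResOf kP (Nat.coprime_two_right.2 ko)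
  let E : Subgroup Γ := V ⊓ omegaZ 2 Q
  have cE : ∀ {g x}, g ∈ P → x ∈ E → g * x * g⁻¹ ∈ E := fun hg hx =>
    ⟨conj_mem_of_le_normalizer D.norm hg hx.1,
      conj_mem_of_le_normalizer (PN.trans (normalizer_le_normalizer_omegaZ Q)) hg hx.2⟩
  have EQ : ∀ {x}, x ∈ E → x ∈ Q := fun hx => omegaZ_le Q hx.2
  have Ec : ∀ {x}, x ∈ E → x ∈ 𝒞[Q] := fun hx => omegaZ_le_centralizer Q hx.2
  have Ecm : ∀ {x q}, x ∈ E → q ∈ Q → q * x = x * q := fun hx hq => Ec hx _ hq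
  have E2 : ∀ {x}, x ∈ E → x * x = 1 := fun hx => (pow_two _).symm.trans (mem_omegaZ.1 hx.2).2.2
  have zE : z ∈ E := ⟨zV, h.charP.omegaZ_le BP QB (hZ hz)⟩
  have bz : b * z * b⁻¹ = z := by rw [zc b bB, mul_inv_cancel_right]
  have πz : D.π z = ![1, 0] := by
    have k1 := D.π_conj b bP z zV
    rw [bz, hb, eq_comm, act_uu_eq_iff one_ne_zero] at k1
    refine vec2_ext ((f01 _).resolve_left fun e => z0 ((D.π_eq_zero z zV).1 (vec2_ext e k1))) k1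
  obtain ⟨y, hy⟩ : ∃ y, y = k * z * k⁻¹ := ⟨_, rfl⟩
  obtain ⟨x, hx⟩ : ∃ x, x = k * y * k⁻¹ := ⟨_, rfl⟩
  have yE : y ∈ E := hy ▸ cE kP zE
  have xE : x ∈ E := hx ▸ cE kP yE
  have kx : k * x * k⁻¹ = z := by
    have k1 := Ecm zE ((mQ (pow_mem kP 3)).2 (by rw [D.φ_pow kP, hk1, ρ3]))
    rw [hx, hy]
    calc _ = k ^ 3 * z * (k ^ 3)⁻¹ := by rw [pow_three]; group
      _ = z := by rw [k1, mul_inv_cancel_right]
  have πy : D.π y = ![0, 1] := by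
    rw [hy, D.π_conj k kP z zV, hk1, πz, aρ]; simp
  have πx : D.π x = ![1, 1] := by
    rw [hx, D.π_conj k kP y yE.1, hk1, πy, aρ]; simp
  obtain ⟨q, hq', e⟩ : ∃ q ∈ Q, b * k * b⁻¹ = k⁻¹ * q := by
    refine ⟨k * (b * k * b⁻¹), (mQ (mul_mem kP (mul_mem (mul_mem bP kP) (inv_mem bP)))).2 ?_, by group⟩
    rw [D.φ_mul kP (mul_mem (mul_mem bP kP) (inv_mem bP)), D.φ_conj bP kP, hk1, hb, ← uu_neg, CharTwo.neg_eq]
    refine SL2_ext_act fun v => ?_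
    rw [act_mul, aρ, act_mul, act_mul (uu 1) (uu 1 * ll 1), aρ, act_uu, act_uu]
    exact vec2_ext (by simp [CharTwo.add_cancel_right]) (by simp [CharTwo.add_cancel_left, add_assoc])
  have bc : ∀ {u}, u ∈ E → b * (k * u * k⁻¹) * b⁻¹ = k⁻¹ * (b * u * b⁻¹) * k := fun {u} hu => by
    calc _ = b * k * b⁻¹ * (b * u * b⁻¹) * (b * k * b⁻¹)⁻¹ := by group
      _ = k⁻¹ * (q * (b * u * b⁻¹)) * q⁻¹ * k := by rw [e]; group
      _ = _ := by rw [Ecm (cE bP hu) hq']; group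
  have by' : b * y * b⁻¹ = x := by rw [hy, bc zE, bz, ← kx]; group
  have bx : b * x * b⁻¹ = y := by rw [hx, bc yE, by', hx]; group
  have aE := mul_mem xE zE
  have wE := mul_mem yE xE
  have aw : x * z * (y * x) = z * y := by
    rw [Ecm zE (EQ xE), Ecm xE (EQ yE), mul_assoc, ← mul_assoc x, E2 xE, one_mul]
  have πa : D.π (x * z) = ![0, 1] := by
    rw [D.π_mul _ xE.1 _ zV, πx, πz]; exact vec2_ext (by simp [two]) (by simp)
  have πw : D.π (y * x) = ![1, 0] := by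
    rw [D.π_mul _ yE.1 _ xE.1, πx, πy]; exact vec2_ext (by simp) (by simp [two])
  have kw : k * (y * x) * k⁻¹ = x * z := by rw [← conj_mul, kx, ← hx]
  have ka : k * (x * z) * k⁻¹ = x * z * (y * x) := by rw [← conj_mul, kx, ← hy, aw]
  have ba : b * (x * z) * b⁻¹ = x * z * (y * x) := by rw [← conj_mul, bx, bz, aw, Ecm zE (EQ yE)]
  generalize x * z = a at aE πa kw ka ba
  generalize y * x = w at wE πw kw ka ba
  have hc : Commute a w := Ecm wE (EQ aE)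
  have WE : WW a w ≤ E := WW_le.2 ⟨aE, wE⟩
  have sur : ∀ v : Fin 2 → F, ∃ u ∈ WW a w, D.π u = v := fun v => by
    rcases f01 (v 0) with e0 | e0 <;> rcases f01 (v 1) with e1 | e1
    · exact ⟨1, one_mem _, D.π_one.trans (vec2_ext e0.symm e1.symm)⟩
    · exact ⟨a, left_mem_WW _ _, πa.trans (vec2_ext e0.symm e1.symm)⟩
    · exact ⟨w, right_mem_WW _ _, πw.trans (vec2_ext e0.symm e1.symm)⟩
    · refine ⟨a * w, mul_mem (left_mem_WW _ _) (right_mem_WW _ _), ?_⟩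
      rw [D.π_mul _ aE.1 _ wE.1, πa, πw]
      exact vec2_ext (by simp [e0]) (by simp [e1])
  have blk : Blk Q a w k := by
    refine ⟨EQ aE, EQ wE, Ec aE, Ec wE, E2 aE, E2 wE, fun e => ?_, fun e => ?_, PN kP, kw, ka, fun x hx => ?_⟩
    · simpa [e, D.π_one] using congrFun πw 0
    · simpa [e, πw] using congrFun πa 0
    have hv : ⁅k, x⁆ ∈ V := by
      rw [← commutatorElement_inv]
      exact inv_mem (n.QK (commutator_mem_commutator hx kR))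
    obtain ⟨u, hu, e1⟩ := sur (D.π ⁅k, x⁆)
    obtain ⟨v, hv', e2⟩ := l2c_exists_comm (E2 aE) (E2 wE) hc kw ka hu
    have e3 : ⁅k, v⁻¹ * x⁆ = u⁻¹ * ⁅k, x⁆ := by
      calc _ = (k * v * k⁻¹)⁻¹ * (⁅k, x⁆ * v) := by simp only [commutatorElement_def]; group
        _ = v⁻¹ * (u⁻¹ * ⁅k, x⁆ * v) := by rw [e2]; group
        _ = _ := by rw [Ecm (WE hv') (mul_mem (inv_mem (EQ (WE hu))) (n.VQ hv))]; group
    have e4 := (D.π_eq_iff (WE hu).1 hv).1 e1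
    have e5 := commute_of_odd ko (x := v⁻¹ * x)
      (e3 ▸ two_of_mem (isPGroup_pCoreOf P) (n.VQ (D.le e4))) (e3 ▸ (n.K0 kR _ e4).symm)
    exact inv_mul_eq_one.1 (e3.symm.trans e5.commutator_eq) ▸ hu
  refine ⟨a, w, k, b, blk, h.syl.isPGroup, QB, bB, fun e => ?_, fun x hx => ?_, ba, fun d hd hc => ?_⟩
  · exact one_ne_zero (uu_eq_one_iff.1 (hb ▸ (mQ bP).1 e))
  · obtain ⟨c, e⟩ := hB.le (D.φ_mem_img (BP hx) hx)
    rw [mQ (BP hx), mQ (mul_mem (BP hx) bP), D.φ_mul (BP hx) bP, e, hb, ← uu_add, uu_eq_one_iff, uu_eq_one_iff]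
    exact (f01 c).imp_right fun e => by rw [e, two]
  · have hd' := conj_mem_of_le_normalizer PN bP hd
    have e1 : ⁅k, b * d * b⁻¹⁆ = ⁅q, b * d * b⁻¹⁆ := by
      have e2 : k⁻¹ * q * (b * d * b⁻¹) = b * d * b⁻¹ * (k⁻¹ * q) := by rw [← e, conj_mul, conj_mul, hc.eq]
      calc _ = k * (b * d * b⁻¹ * (k⁻¹ * q)) * q⁻¹ * (b * d * b⁻¹)⁻¹ := by
            simp only [commutatorElement_def]; group
        _ = _ := by rw [← e2]; simp only [commutatorElement_def]; group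
    exact commutatorElement_eq_one_iff_commute.1 (e1 ▸ blk.comm_eq_one hq' hd' (e1 ▸ blk.kQ _ hd'))

end CfsgLib.OFP
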