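import Mathlib
import Cfsg.Agent.Lib.OFP.L2a
import Cfsg.Agent.Lib.OFP.L2b
import Cfsg.Agent.Lib.OFP.L2c
import Cfsg.Agent.Lib.BHS.Cen

set_option autoImplicit false
set_option linter.unusedSectionVars false

namespace CfsgLib.OFP

open Subgroup Cfsg CfsgLib.LAE CfsgLib.Push CfsgLib.Blocks CfsgLib.ZJ
open scoped commutatorElement

variable {Γ : Type*} [Group Γ] [Finite Γ]

variable {T Q Z M : Subgroup Γ}

/-- As at the start of `BHS.push_min` and `CP.exists_R1` (Lib/BHS/PushMin): `CP.exists_root hJ` gives a root `A` in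
the image of `T`, `PM.exists_natL` (for `h.pm`) a group `L = A ⊔ B' ≰ M`, `CP.exists_PU` with `sup_JJ'` and
`CP.map_bau`; `¬ P ≤ M`, and `CP.res_sup`. -/
theorem loc1 (h : BHS.CP 2 T M) (hJ : 𝒩[thompsonSubgroupOf 2 T] ≤ M) :
    ∃ P M' : Subgroup Γ, PU 2 (bau 2 T) P M' ∧ pResOf 2 P ⊔ T = ⊤ := by
  have : Fact (Nat.Prime 2) := ⟨Nat.prime_two⟩
  obtain ⟨A₀, hA₀, A, hAA, hA⟩ := h.exists_root hJ
  have hAT := hAA.trans (map_mono (PLocal.mem_maxElemIn.1 hA₀).1)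
  obtain ⟨B₁, b1, b2, -, hN, hc⟩ := h.pm.exists_natL hA hAT
  obtain ⟨P, M₁, h1, h2, -, -⟩ := h.exists_PU hJ hN (sup_le hA.le b1.le) hc
    ((BHS.sup_JJ' hA hAT).trans (h.map_bau hJ).symm)
  have hP : ¬ P ≤ M := fun e =>
    b2 ((le_sup_right.trans (le_sup_left.trans h2.ge)).trans (map_mono e))
  exact ⟨P, M₁, h1, h.res_sup h1 hP⟩

private theorem xl_zj_char (B : Subgroup Γ) : ((zj 2 B).subgroupOf B).Characteristic := by
  have e : (zj 2 B).subgroupOf B = zj 2 (⊤ : Subgroup B) := by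
    have := map_zj (e := 2) B.subtype_injective (⊤ : Subgroup B)
    rw [map_top_subtype] at this
    rw [← this, subgroupOf, comap_map_eq_self_of_injective (subtype_injective _)]
  rw [e, characteristic_iff_map_eq]
  intro φ
  rw [map_zj (f := φ.toMonoidHom) φ.injective, map_top_of_surjective _ φ.surjective]

/-- `M = N(T)`. `MinOver T ⊤ M`: for `gen`, a proper normal `N ≥ T` normalizes `T`, so `T = O₂(N)` is normal.
`chp`: `C(O₂) ≤ C(Q) ≤ Q ≤ O₂`. The group does not centralize `Z`: otherwise `AC Q`, the subgroup `K` of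
`ACin.exists_K` is a normal `2`-subgroup (`C(Q) ≤ Q`) containing `T`, so `T` is normal. Hence `cZ` (`min`).
`N(J(T)) ≤ M`: otherwise `J(T)` is normal, so is `zj T` (`zj_eq_of_J_eq`, `conjS_zj`), which is characteristic in
`bau T` (`zj_bau`); `ACin.res_le` (with `gen`) shows that `O²` centralizes `zj T ≥ Z`, so the group centralizes `Z`.
Now `loc1`; `O²(P)` does not centralize `Z`; `l2a` (hypothesis from `ACin.res_le`, `PU.nclIn_eq`), `NS.big`,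
`NS.small`. `Z ≤ Ω Z(T) ≤ Ω Z(bau T)`. -/
theorem sect_bot (h : Loc T Q ⊥ ⊤) (hZ : Z ≤ omegaZ 2 T) (hc : ACin 𝒞[Z] Q)
    (hA : ∀ C ≤ bau 2 T, (C.subgroupOf (bau 2 T)).Characteristic → AC C) :
    Big (bau 2 T) ⊤ Z ∨ ∃ (Q' : Subgroup Γ) (a w k b : Γ), Sm (bau 2 T) Q' a w k b := by
  have : Fact (Nat.Prime 2) := ⟨Nat.prime_two⟩
  have hmin : ∀ Y : Subgroup Γ, T ≤ Y → Y < ⊤ → Y ≤ 𝒩[T] := fun Y h1 h2 => by
    simpa only [sup_bot_eq] using h.min Y (by rwa [sup_bot_eq]) h2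
  have hnn : ¬ ⊤ ≤ 𝒩[T] := by simpa only [sup_bot_eq] using h.nn
  have hcQ : 𝒞[Q] ≤ Q := by simpa only [sup_bot_eq, top_inf_eq] using h.cQ
  have hQp : IsPGroup 2 Q := h.syl.isPGroup.to_le h.QT
  have hQO : Q ≤ pCore 2 Γ := (le_pCoreOf hQp le_top h.nQ).trans pCoreOf_top.le
  have hgen : ∀ N : Subgroup Γ, T ≤ N → N ≤ ⊤ → ⊤ ≤ 𝒩[N] → ⊤ ≤ N := by
    intro N h1 _ h3
    by_contra h4
    have h5 := hmin N h1 (lt_top_iff_ne_top.2 fun e => h4 e.ge)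
    have e : pCoreOf 2 N = T :=
      le_antisymm (h.syl.mono h1 le_top).pCoreOf_le (le_pCoreOf h.syl.isPGroup h1 h5)
    exact hnn (e ▸ le_normalizer_pCoreOf_of_le h3)
  have hcZ : ¬ ⊤ ≤ 𝒞[Z] := by
    intro e
    obtain ⟨K, hK, hKn⟩ := (hc.mono e).exists_K
    have hKp : IsPGroup 2 K := by
      rintro ⟨x, hx⟩
      obtain ⟨n, hn⟩ := ((hK x).1 hx).2.2
      obtain ⟨m, hm⟩ := two_of_mem hQp (hcQ hn)
      exact ⟨n + m, Subtype.ext (by rw [pow_add, pow_mul]; exact hm)⟩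
    have hTK : T ≤ K := fun x hx =>
      (hK x).2 ⟨mem_top x, h.nQ (mem_top x), (two_of_mem h.syl.isPGroup hx).p2 Q⟩
    rw [h.syl.eq_of_le K hKp hTK le_top] at hKn
    exact hnn ((le_inf le_rfl h.nQ).trans hKn)
  have hTZ : T ≤ 𝒞[Z] := (le_centralizer_omegaZ T).trans (centralizer_le hZ)
  have hCP : BHS.CP 2 T 𝒩[T] :=
    ⟨(centralizer_le hQO).trans (hcQ.trans hQO), h.syl,
      ⟨le_normalizer, lt_top_iff_ne_top.2 fun e => hnn e.ge, hmin, hgen⟩,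
      hmin _ (le_centralizer_omegaZ T)
        (lt_top_iff_ne_top.2 fun e => hcZ (e.ge.trans (centralizer_le hZ)))⟩
  have hJ : 𝒩[thompsonSubgroupOf 2 T] ≤ 𝒩[T] := by
    refine hmin _ (fun t ht => mem_normalizer_iff_conjS.2 (by rw [conjS_J, conjS_eq_of_mem ht]))
      (lt_top_iff_ne_top.2 fun e => hcZ ?_)
    have h1 : ⊤ ≤ 𝒩[zj 2 T] := fun g hg => by
      rw [mem_normalizer_iff_conjS, conjS_zj]
      exact zj_eq_of_J_eq (by rw [← conjS_J]; exact mem_normalizer_iff_conjS.1 (e.ge hg))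
    have h2 := hA (zj 2 T) (zj_le_bau T) (by
      have := xl_zj_char (bau 2 T)
      rwa [zj_bau] at this)
    have h3 := ACin.res_le h2 h1 h.syl.isPGroup le_top
      (hgen _ (le_nclIn T ⊤) le_top (le_normalizer_nclIn T ⊤))
    exact h.syl.le_of_pResOf_le (h3.trans (centralizer_le (hZ.trans (omegaZ_le_zj T)))) hTZ
  obtain ⟨P, M', h1, h2⟩ := loc1 hCP hJ
  have hnc : ¬ pResOf 2 P ≤ 𝒞[Z] := fun e => hcZ (h2.ge.trans (sup_le e hTZ))
  obtain ⟨F, _, _, _, V, V₀, n⟩ := l2a h1 fun C hC hch hn =>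
    ((hA C hC hch).mono le_top).res_le hn h1.syl.isPGroup h1.syl.le h1.nclIn_eq.ge
  have hZ' : Z ≤ omegaZ 2 (bau 2 T) := fun z hz => by
    have := mem_omegaZ.1 (hZ hz)
    exact mem_omegaZ.2 ⟨zj_le_bau T (omegaZ_le_zj T (hZ hz)), centralizer_le (bau_le T) this.2.1, this.2.2⟩
  rcases (show 2 ≤ Fintype.card F from Fintype.one_lt_card).eq_or_lt with hq | hq
  · exact Or.inr ⟨_, n.small h1 hq.symm hZ' hnc⟩
  · obtain ⟨f, -, f1, f2, f3⟩ := n.big h1 hq hZ' hnc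
    refine Or.inl ⟨f, mem_top f, f1, f2, fun z hz z' hz' e1 e2 => ?_⟩
    obtain ⟨g, -, g1⟩ := f3 z hz z' hz' e1 e2
    exact ⟨g, mem_top g, g1⟩

end CfsgLib.OFP
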