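import Mathlib
import Cfsg.Agent.Lib.OFP.T2Defs
import Cfsg.Agent.Lib.OFP.Xl

set_option autoImplicit false
set_option linter.unusedSectionVars false

namespace CfsgLib.OFP

open Subgroup Cfsg CfsgLib.LAE CfsgLib.Push CfsgLib.Blocks CfsgLib.ZJ
open scoped commutatorElement

variable {Γ : Type*} [Group Γ] [Finite Γ]

variable {L T Q Z B P M : Subgroup Γ}

/-- Let `N ≥ C` be maximal among the characteristic subgroups of `B` normalized by `P`. By `PU.normal_cases`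
for `C_P(N)` either `O²(P) ≤ C(N) ≤ C(C)`, or `B ⊓ C(N) = O₂(P) ⊓ C(N)` is normal in `P`; `N ⊔ (B ⊓ C(N))` is
characteristic in `B` (`characteristic_centralizer`), so `B ⊓ C(N) ≤ N`, contradicting `hup`. -/
theorem t2_hA (h : PU 2 B P M)
    (hup : ∀ N ≤ B, (N.subgroupOf B).Characteristic → B ⊓ 𝒞[N] ≤ N → ¬ P ≤ 𝒩[N]) :
    ∀ C ≤ B, (C.subgroupOf B).Characteristic → P ≤ 𝒩[C] → pResOf 2 P ≤ 𝒞[C] := by
  have : Fact (Nat.Prime 2) := ⟨Nat.prime_two⟩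
  intro C hC hch hn
  obtain ⟨N, CN, hN⟩ := Finite.exists_le_maximal
    (p := fun N : Subgroup Γ => N ≤ B ∧ (N.subgroupOf B).Characteristic ∧ P ≤ 𝒩[N]) ⟨hC, hch, hn⟩
  obtain ⟨NB, Nc, PN⟩ := hN.1
  rcases h.normal_cases (N := P ⊓ 𝒞[N]) inf_le_left
    (le_normalizer_inf le_normalizer (le_normalizer_centralizer PN)) with h1 | ⟨-, h1⟩
  · exact h1.trans (inf_le_right.trans (centralizer_anti CN))
  have e : B ⊓ 𝒞[N] = pCoreOf 2 P ⊓ 𝒞[N] := le_antisymm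
    (le_inf (fun x hx => h1 ⟨hx.1, h.SP hx.1, hx.2⟩) inf_le_right) (inf_le_inf_right _ h.QS)
  refine absurd PN (hup N NB Nc (le_sup_right.trans (hN.2 ⟨sup_le NB inf_le_left, ?_, ?_⟩ le_sup_left)))
  · rw [subgroupOf_sup NB inf_le_left, inf_subgroupOf_left, ← centralizer_subgroupOf NB]
    infer_instance
  · refine le_normalizer_sup PN ?_
    rw [e]
    exact le_normalizer_inf (le_normalizer_pCoreOf P) (le_normalizer_centralizer PN)

/-- `W = nclIn Z P` is centralized by `Q` and by `O₂(P) ≤ B`; `PU.normal_cases` for `C_P(W)` gives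
`O₂(P) = B ⊓ C(W)`. -/
theorem t2_nQ (h : PU 2 B P M) (BZ : B ≤ 𝒞[Z]) (QZ : Q ≤ 𝒞[Z]) (PQ : P ≤ 𝒩[Q]) (QB : Q ≤ 𝒩[B])
    (nc : ¬ pResOf 2 P ≤ 𝒞[Z]) : Q ≤ 𝒩[pCoreOf 2 P] := by
  have : Fact (Nat.Prime 2) := ⟨Nat.prime_two⟩
  have h1 : Q ≤ 𝒞[nclIn Z P] := le_centralizer_nclIn QZ PQ
  have h2 : pCoreOf 2 P ≤ 𝒞[nclIn Z P] := le_centralizer_nclIn (h.QS.trans BZ) (le_normalizer_pCoreOf P)
  rcases h.normal_cases (N := P ⊓ 𝒞[nclIn Z P]) inf_le_left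
    (le_normalizer_inf le_normalizer (le_normalizer_centralizer (le_normalizer_nclIn Z P))) with h3 | ⟨-, h3⟩
  · exact absurd (h3.trans (inf_le_right.trans (centralizer_anti (le_nclIn Z P)))) nc
  have e : pCoreOf 2 P = B ⊓ 𝒞[nclIn Z P] :=
    le_antisymm (le_inf h.QS h2) fun x hx => h3 ⟨hx.1, h.SP hx.1, hx.2⟩
  rw [e]
  exact le_normalizer_inf QB (h1.trans le_normalizer)

/-- Copy of `sect_bot` (Xl.lean) with `M = L`, `B = bau T`. `N(T) ≤ N(B) ≤ L` (`up` for `N = B`). `gen`: a proper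
normal `N ≥ T` lies in `L` and Frattini gives `⊤ = N N(T) ≤ L`. `N(J(T)) ≤ L`: otherwise `zj T` is normal,
`B = T ⊓ C(zj T)` is Sylow in the normal subgroup `C(zj T) ≤ C(Z) ≤ L`, and Frattini gives `⊤ ≤ L`. `loc1`; as
`O²(P) ⊔ T = ⊤`, neither `P ≤ L` nor `O²(P) ≤ C(Z)`. `l2a` with `t2_hA`; `t2_nQ`. -/
theorem Loc3.bot (h : Loc3 L T Q ⊥ Z) :
    ∃ (F : Type) (_ : Field F) (_ : Fintype F) (_ : CharP F 2) (P M V V₀ : Subgroup Γ),
      PU 2 (bau 2 T) P M ∧ NS F (bau 2 T) P V V₀ ∧ ¬ P ≤ L ∧ ¬ pResOf 2 P ≤ 𝒞[Z] ∧ Q ≤ 𝒩[pCoreOf 2 P] := by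
  have : Fact (Nat.Prime 2) := ⟨Nat.prime_two⟩
  have nQ := h.nQ
  have TL : T ≤ L := le_sup_left.trans h.TL
  have nn : ¬ ⊤ ≤ L := fun e => h.nn (top_le_iff.1 e)
  have hmin : ∀ Y : Subgroup Γ, T ≤ Y → Y < ⊤ → Y ≤ L := fun Y h1 h2 => h.min Y (by rwa [sup_bot_eq]) h2.ne
  have hcQ : 𝒞[Q] ≤ Q := by simpa only [sup_bot_eq] using h.cQ
  have hQp : IsPGroup 2 Q := h.syl.isPGroup.to_le h.QT
  have hQO : Q ≤ pCore 2 Γ := (le_pCoreOf hQp le_top le_normalizer_of_normal).trans pCoreOf_top.le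
  have nB : 𝒩[bau 2 T] ≤ L := h.up _ le_rfl (by rw [subgroupOf_self]; infer_instance) inf_le_left
  have hgen : ∀ N : Subgroup Γ, T ≤ N → N ≤ ⊤ → ⊤ ≤ 𝒩[N] → ⊤ ≤ N := by
    intro N h1 _ h3
    by_contra h4
    have h5 := hmin N h1 (lt_top_iff_ne_top.2 fun e => h4 e.ge)
    refine nn (((h.syl.mono h1 le_top).frattini_sup le_top h3).ge.trans (sup_le h5 ?_))
    exact inf_le_right.trans ((normalizer_le_normalizer_bau T).trans nB)
  have hTZ : T ≤ 𝒞[Z] := (le_centralizer_omegaZ T).trans (centralizer_le h.ZT)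
  have hCP : BHS.CP 2 T L :=
    ⟨(centralizer_le hQO).trans (hcQ.trans hQO), h.syl, ⟨TL, lt_top_iff_ne_top.2 h.nn, hmin, hgen⟩,
      (centralizer_le h.ZT).trans h.cZ⟩
  have hJ : 𝒩[thompsonSubgroupOf 2 T] ≤ L := by
    refine hmin _ (fun t ht => mem_normalizer_iff_conjS.2 (by rw [conjS_J, conjS_eq_of_mem ht]))
      (lt_top_iff_ne_top.2 fun e => nn ?_)
    have h1 : ⊤ ≤ 𝒩[zj 2 T] := fun g hg => by
      rw [mem_normalizer_iff_conjS, conjS_zj]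
      exact zj_eq_of_J_eq (by rw [← conjS_J]; exact mem_normalizer_iff_conjS.1 (e.ge hg))
    have h2 := le_normalizer_centralizer h1
    refine ((h.syl.inf_of_normal le_top h2).frattini_sup le_top h2).ge.trans (sup_le ?_ (inf_le_right.trans nB))
    exact (centralizer_le (h.ZT.trans (omegaZ_le_zj T))).trans h.cZ
  obtain ⟨P, M', h1, h2⟩ := loc1 hCP hJ
  have hP : ¬ P ≤ L := fun e => nn (h2.ge.trans (sup_le ((pResOf_le P).trans e) TL))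
  have hnc : ¬ pResOf 2 P ≤ 𝒞[Z] := fun e => nn (h2.ge.trans (sup_le (e.trans h.cZ) TL))
  obtain ⟨F, _, _, _, V, V₀, n⟩ := l2a h1 (t2_hA h1 fun N h3 h4 h5 e => hP (e.trans (h.up N h3 h4 h5)))
  exact ⟨F, _, inferInstance, inferInstance, P, M', V, V₀, h1, n, hP, hnc, t2_nQ h1 ((bau_le T).trans hTZ) (h.QT.trans hTZ)
    le_normalizer_of_normal (h.QT.trans (le_normalizer_bau T)) hnc⟩

end CfsgLib.OFP
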