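import Mathlib
import Cfsg.Agent.Lib.OFP.Bas2

set_option autoImplicit false
set_option linter.unusedSectionVars false

namespace CfsgLib.OFP

open Subgroup Cfsg CfsgLib.LAE CfsgLib.Push CfsgLib.Blocks CfsgLib.ZJ
open scoped commutatorElement

variable {Γ : Type*} [Group Γ] [Finite Γ]

variable {S U T : Subgroup Γ}

/-- `Q = U ⊔ C_T(U)`, `Y₀ = N(U) ⊓ N(Q) ≥ T`, `O = O²(C(Q))`.
* `Q = T ⊓ U C(U)` is Sylow in `U C(U) ⊴ N(U)`; Frattini: `N(U) = C(U) Y₀`.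
* `2`-elements of `C(Q)` lie in `Q`: `C(Q) ⊴ Y₀`, so `T ⊓ C(Q) ≤ C_T(U) ≤ Q` is Sylow in `C(Q)` and central in it.
  So `split` applies: `O` has odd order and `C(Q) ≤ Q O`.
* `Y₀` does not normalize `T O`: otherwise `T O ⊴ Y₀` contains all `2`-elements of `Y₀`, `T O ≤ T C(U)` acts on `U` as
  a `2`-group, and for `x, y ∈ N(U)` with `P2 U`, written as `c x'`, `c' y'` with `x', y' ∈ Y₀` (take `2`-parts),
  `x y` acts as a `2`-element; this contradicts `¬ AC U`.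
* `Y` is minimal among the subgroups `T O ≤ Y ≤ Y₀` not normalizing `T O`. -/
theorem Mx.exists_loc (m : Mx S U T) : ∃ Q O Y : Subgroup Γ, Loc T Q O Y ∧ Y ≤ 𝒩[U] := by
  have hUT : U ≤ T := m.syl.le_of_normal m.pU le_normalizer le_rfl
  have hTU : T ≤ 𝒩[U] := m.syl.le
  have hCN : 𝒞[U] ≤ 𝒩[U] := centralizer_le_normalizer _
  obtain ⟨Q, hQ⟩ : ∃ Q : Subgroup Γ, Q = U ⊔ (T ⊓ 𝒞[U]) := ⟨_, rfl⟩
  have hUQ : U ≤ Q := hQ ▸ le_sup_left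
  have hQT : Q ≤ T := hQ ▸ sup_le hUT inf_le_left
  have pQ : IsPGroup 2 Q := m.syl.isPGroup.to_le hQT
  have hTQ : T ≤ 𝒩[Q] :=
    hQ ▸ le_normalizer_sup hTU (le_normalizer_inf le_normalizer (le_normalizer_centralizer hTU))
  have hMN : 𝒩[U] ≤ 𝒩[U ⊔ 𝒞[U]] := le_normalizer_sup le_rfl (le_normalizer_centralizer le_rfl)
  have hQM : IsSylowIn 2 Q (U ⊔ 𝒞[U]) := by
    have := m.syl.inf_of_normal (sup_le le_normalizer hCN) hMN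
    rwa [inf_sup_of_le_of_le_normalizer hCN hUT, ← hQ] at this
  have hCC : 𝒞[Q] ≤ 𝒞[U] := centralizer_anti hUQ
  obtain ⟨hodd, hsp⟩ := split pQ fun x hx h2 => zpowers_le.1 (hQM.le_of_normalizes h2.isPGroup
    (zpowers_le.2 (mem_sup_right (hCC hx))) (zpowers_le.2 (centralizer_le_normalizer _ hx)))
  obtain ⟨O, hO⟩ : ∃ O : Subgroup Γ, O = pResOf 2 𝒞[Q] := ⟨_, rfl⟩
  rw [← hO] at hodd hsp
  have hOC : O ≤ 𝒞[Q] := hO ▸ pResOf_le _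
  have hNO : 𝒩[Q] ≤ 𝒩[O] := hO ▸ le_normalizer_pResOf_of_le (le_normalizer_centralizer le_rfl)
  have hTY : T ≤ 𝒩[U] ⊓ 𝒩[Q] := le_inf hTU hTQ
  have hOY : O ≤ 𝒩[U] ⊓ 𝒩[Q] :=
    le_inf (hOC.trans (hCC.trans hCN)) (hOC.trans (centralizer_le_normalizer _))
  have hTOY : T ⊔ O ≤ 𝒩[U] ⊓ 𝒩[Q] := sup_le hTY hOY
  have hnn : ¬ 𝒩[U] ⊓ 𝒩[Q] ≤ 𝒩[T ⊔ O] := by
    intro hn
    have hsyl : IsSylowIn 2 T (𝒩[U] ⊓ 𝒩[Q]) := m.syl.mono hTY inf_le_left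
    have two_mem : ∀ u ∈ 𝒩[U] ⊓ 𝒩[Q], Two u → u ∈ T ⊔ O := fun u hu h2 => by
      obtain ⟨h, hh, hle⟩ := hsyl.exists_le_conj h2.isPGroup (zpowers_le.2 hu)
      rw [← mem_normalizer_iff_conjS.1 (hn hh)]
      exact conjS_mono le_sup_left (hle (mem_zpowers u))
    have p2_mem : ∀ u ∈ T ⊔ O, P2 U u := fun u hu => by
      obtain ⟨t, ht, o, ho, rfl⟩ := (mem_sup_iff_of_left_le_normalizer (hTQ.trans hNO)).1 hu
      exact ((two_of_mem m.syl.isPGroup ht).p2 U).mul_cent (hTU ht) (hCC (hOC ho))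
    have conjC : ∀ u ∈ 𝒩[U], ∀ c ∈ 𝒞[U], u * c * u⁻¹ ∈ 𝒞[U] := fun u hu c hc =>
      LAE.conj_mem_of_mem_normalizer (normalizer_le_normalizer_centralizer U hu) hc
    have dec : ∀ x ∈ 𝒩[U], P2 U x → ∃ c ∈ 𝒞[U], ∃ u ∈ T ⊔ O, x = c * u := fun x hx h2 => by
      obtain ⟨a, ha, y, hy, e⟩ := hQM.frattini (hMN hx)
      obtain ⟨u, hu, c, hc, rfl⟩ := (mem_sup_iff_of_right_le_normalizer hCN).1 ha
      have huc : u * c = c * u := mem_centralizer_iff.1 hc u hu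
      have e' : u * y = c⁻¹ * x := by rw [e, huc]; group
      have hY : u * y ∈ 𝒩[U] ⊓ 𝒩[Q] :=
        mem_inf.2 ⟨by rw [e']; exact mul_mem (inv_mem (hCN hc)) hx, mul_mem (le_normalizer (hUQ hu)) hy⟩
      have hp : P2 U (u * y) := by rw [e']; exact h2.cent_mul hx (inv_mem hc)
      obtain ⟨a, b, ha2, hb, eab, -, haz, hbz⟩ := exists_two_odd (u * y)
      have haY : a ∈ 𝒩[U] ⊓ 𝒩[Q] := zpowers_le.2 hY haz
      refine ⟨c * (a * b * a⁻¹), mul_mem hc (conjC a haY.1 b (hp.odd_mem hbz hb)), a, two_mem a haY ha2, ?_⟩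
      calc x = c * (c⁻¹ * x) := by group
        _ = _ := by rw [← e', eab]; group
    refine m.nac (acin_of_two fun x _ y _ hx hy x2 y2 => ?_)
    obtain ⟨c, hc, u, hu, rfl⟩ := dec x hx (x2.p2 U)
    obtain ⟨c', hc', u', hu', rfl⟩ := dec y hy (y2.p2 U)
    have e : c * u * (c' * u') = c * (u * c' * u⁻¹) * (u * u') := by group
    rw [e]
    exact (p2_mem _ (mul_mem hu hu')).cent_mul (hTOY (mul_mem hu hu')).1
      (mul_mem hc (conjC u (hTOY hu).1 c' hc'))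
  obtain ⟨Y, ⟨h1, h2, h3⟩, hmin⟩ := Set.exists_min_image
    {Y : Subgroup Γ | T ⊔ O ≤ Y ∧ Y ≤ 𝒩[U] ⊓ 𝒩[Q] ∧ ¬ Y ≤ 𝒩[T ⊔ O]} (fun Y => Nat.card Y) (Set.toFinite _)
    ⟨_, hTOY, le_rfl, hnn⟩
  have hYU : Y ≤ 𝒩[U] := h2.trans inf_le_left
  have hYQ : Y ≤ 𝒩[Q] := h2.trans inf_le_right
  refine ⟨Q, O, Y, ⟨m.syl.mono (le_sup_left.trans h1) hYU, hQT, hYQ, le_sup_right.trans h1, hYQ.trans hNO, hodd,
    hOC, fun c hc => ?_, h3, fun Y' a b => ?_⟩, hYU⟩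
  · obtain ⟨z, hz, o, ho, rfl⟩ := hsp c hc.2
    exact mul_mem (mem_sup_left hz) (mem_sup_right ho)
  · by_contra hc
    exact b.ne (eq_of_le_of_card_ge b.le (hmin Y' ⟨a, b.le.trans h2, hc⟩))

end CfsgLib.OFP
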