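import Mathlib
import Cfsg.Agent.Lib.OFP.Bas2
import Cfsg.Agent.Lib.Core.Fitting

set_option autoImplicit false
set_option linter.unusedSectionVars false

namespace CfsgLib.OFP

open Subgroup Cfsg CfsgLib.LAE CfsgLib.Push CfsgLib.Blocks CfsgLib.ZJ
open scoped commutatorElement

variable {Γ : Type*} [Group Γ] [Finite Γ]

variable {r : ℕ} {G S U T C P : Subgroup Γ} {φ n : Γ}

private theorem mx_hm_conj {B : Subgroup Γ} (h : HM B) (g : Γ) : HM (conjS g B) := by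
  intro U' T' hU' hn hT' h1 h2
  have e := h (conjS g⁻¹ U') (conjS g⁻¹ T') (isPGroup_conjS hU' _) (by rwa [ac_conj_iff])
    (isPGroup_conjS hT' _) (conjS_le_iff.1 h1) (by rw [← conjS_normalizer]; exact conjS_mono h2)
  rw [← e, conjS_bau, conjS_conjS_inv]

private theorem mx_exists_hm (h : ∃ U : Subgroup Γ, IsPGroup 2 U ∧ ¬ AC U) :
    ∃ U T : Subgroup Γ, IsPGroup 2 U ∧ ¬ AC U ∧ IsSylowIn 2 T 𝒩[U] ∧ HM (bau 2 T) := by
  obtain ⟨U₀, pU₀, nU₀⟩ := h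
  obtain ⟨T₀, hT₀⟩ := exists_isSylowIn 2 (𝒩[U₀])
  obtain ⟨A₀, hA₀⟩ := PLocal.maxElemIn_nonempty (p := 2) T₀
  let X : Set (Subgroup Γ) := {T | ∃ U : Subgroup Γ, IsPGroup 2 U ∧ ¬ AC U ∧ IsSylowIn 2 T 𝒩[U]}
  obtain ⟨A₁, ⟨T₁, hT₁, hA₁⟩, m1⟩ := Set.exists_max_image
    {A : Subgroup Γ | ∃ T ∈ X, A ∈ PLocal.maxElemIn 2 T} (fun A => Nat.card A) (Set.toFinite _)
    ⟨A₀, T₀, ⟨U₀, pU₀, nU₀, hT₀⟩, hA₀⟩
  let X2 : Set (Subgroup Γ) := {T | T ∈ X ∧ ∃ A ∈ PLocal.maxElemIn 2 T, Nat.card A₁ ≤ Nat.card A}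
  obtain ⟨T₂, hT₂, m2⟩ := Set.exists_max_image X2 (fun T => Nat.card (thompsonSubgroupOf 2 T))
    (Set.toFinite _) ⟨T₁, hT₁, A₁, hA₁, le_rfl⟩
  let X3 : Set (Subgroup Γ) :=
    {T | T ∈ X2 ∧ Nat.card (thompsonSubgroupOf 2 T₂) ≤ Nat.card (thompsonSubgroupOf 2 T)}
  obtain ⟨T, ⟨⟨⟨U, pU, nU, hT⟩, A, hA, cA⟩, cJ⟩, m3⟩ := Set.exists_max_image X3
    (fun T => Nat.card (bau 2 T)) (Set.toFinite _) ⟨T₂, hT₂, le_rfl⟩
  refine ⟨U, T, pU, nU, hT, fun U' T' pU' nU' pT' h1 h2 => ?_⟩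
  obtain ⟨T'', hT'', h3⟩ := exists_isSylowIn_ge pT' h2
  have hX : T'' ∈ X := ⟨U', pU', nU', hT''⟩
  obtain ⟨A'', hA''⟩ := PLocal.maxElemIn_nonempty (p := 2) T''
  have key : ∀ A' ∈ PLocal.maxElemIn 2 T, A' ∈ PLocal.maxElemIn 2 T'' := fun A' hA' =>
    PLocal.mem_maxElemIn_of_card_le hA'' ((le_bau hA').trans (h1.trans h3)) (PLocal.mem_maxElemIn.1 hA').2.1
      (((m1 A'' ⟨T'', hX, hA''⟩).trans cA).trans (PLocal.card_eq_of_mem_maxElemIn hA hA').le)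
  have hX2 : T'' ∈ X2 := ⟨hX, A, key A hA, cA⟩
  have eJ : thompsonSubgroupOf 2 T = thompsonSubgroupOf 2 T'' :=
    eq_of_le_of_card_ge (PLocal.thompsonSubgroupOf_le_iff.2 fun A' hA' =>
      PLocal.le_thompsonSubgroupOf (key A' hA')) ((m2 T'' hX2).trans cJ)
  have ez : zj 2 T = zj 2 T'' := zj_eq_of_J_eq eJ
  have hX3 : T'' ∈ X3 := ⟨hX2, by rw [← eJ]; exact cJ⟩
  have eB : bau 2 T = bau 2 T'' :=
    eq_of_le_of_card_ge (le_inf (h1.trans h3) (by rw [← ez]; exact bau_le_centralizer T)) (m3 T'' hX3)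
  rw [eB] at h1 ⊢
  exact bau_eq_of_le h1 h3

/-- Among the pairs `(U, T)` (`U` a `2`-group, `¬ AC U`, `T` Sylow in `N(U)`) maximize successively the order `m` of
the members of `maxElemIn 2 T`, then `|J(T)|`, then `|bau T|`; these are conjugation invariant (`ac_conj_iff`,
`conjS_J`, `conjS_bau`), so `T ≤ S` can be arranged. `HM`: extend `T'` to a Sylow `T''` of `N(U')`. As
`J(T) ≤ B ≤ T''`, the rank of `T''` is at least, hence equal to, `m`; so `J(T) ≤ J(T'')`, equal by maximality;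
`zj_eq_of_J_eq`, `B ≤ bau T''`, equal by maximality; finally `bau_eq_of_le`. -/
theorem exists_mx (hS : IsSylowIn 2 S ⊤) (h : ∃ U : Subgroup Γ, IsPGroup 2 U ∧ ¬ AC U) :
    ∃ U T : Subgroup Γ, Mx S U T := by
  obtain ⟨U, T, pU, nU, hT, hm⟩ := mx_exists_hm h
  obtain ⟨g, -, hg⟩ := hS.exists_conj_le hT.isPGroup le_top
  refine ⟨conjS g U, conjS g T, isPGroup_conjS pU g, by rwa [ac_conj_iff], ?_, hg, ?_⟩
  · rw [← conjS_normalizer]; exact hT.conj g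
  · rw [← conjS_bau]; exact mx_hm_conj hm g

private theorem mx_U_le (m : Mx S U T) : U ≤ T := m.syl.le_of_normal m.pU le_normalizer le_rfl

/-- `U ≤ T ≤ S`; `Ω Z(S)` centralizes `U`, and `T Ω Z(S)` is a `2`-subgroup of `N(U)`. -/
theorem Mx.Z_le (m : Mx S U T) (pS : IsPGroup 2 S) : omegaZ 2 S ≤ omegaZ 2 T := by
  have hT : omegaZ 2 S ≤ 𝒞[T] := (omegaZ_le_centralizer S).trans (centralizer_anti m.TS)
  have hU : omegaZ 2 S ≤ 𝒞[U] := hT.trans (centralizer_anti (mx_U_le m))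
  refine le_omegaZ (elemAb_omegaZ S) ?_ hT
  exact m.syl.le_of_normalizes (pS.to_le (omegaZ_le S)) (hU.trans (centralizer_le_normalizer _))
    (hT.trans (centralizer_le_normalizer _))

private theorem mx_ac_of (g : Gl r G S φ) (hC : IsPGroup 2 C) (h : ¬ 𝒩[C] ≤ G) : AC C := by
  by_cases hb : C = ⊥
  · rw [hb]; exact ac_bot
  exact ac_iff.2 (g.ac C hC hb h C le_normalizer hC)

theorem Mx.le_G (m : Mx S U T) (g : Gl r G S φ) : 𝒩[U] ≤ G := by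
  by_contra h
  exact m.nac (mx_ac_of g m.pU h)

/-- Let `B = bau T` and suppose `¬ AC C` (so `C ≠ 1`). `HM` for `T' = N_S(B)` gives `bau T' = B`, so
`N_S(T') ≤ T'`, `T' = S` and `B = bau S` is normalized by `φ`. Then `φ ∈ N(C)` and `Gl.ac` gives `AC C`. -/
theorem Mx.ac_inv (m : Mx S U T) (g : Gl r G S φ) (hC : C ≤ bau 2 T)
    (hn : (S ⊔ zpowers φ) ⊓ 𝒩[bau 2 T] ≤ 𝒩[C]) : AC C := by
  by_contra hac
  have pS := g.syl.isPGroup
  have hBS : bau 2 T ≤ S := (bau_le T).trans m.TS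
  have pC : IsPGroup 2 C := pS.to_le (hC.trans hBS)
  have e : bau 2 (S ⊓ 𝒩[bau 2 T]) = bau 2 T :=
    m.hm C _ pC hac (pS.to_le inf_le_left) (le_inf hBS le_normalizer)
      ((inf_le_inf_right _ le_sup_left).trans hn)
  have eS : S ⊓ 𝒩[bau 2 T] = S := by
    by_contra hne
    have hlt := CfsgLib.Core.lt_inf_normalizer_of_isPGroup pS (lt_of_le_of_ne inf_le_left hne)
    refine hlt.not_ge (le_inf inf_le_left ?_)
    have := normalizer_le_normalizer_bau (p := 2) (S ⊓ 𝒩[bau 2 T])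
    rw [e] at this
    exact inf_le_right.trans this
  rw [eS] at e
  have hφ : φ ∈ 𝒩[C] := hn ⟨mem_sup_right (mem_zpowers φ), by
    rw [← e]; exact normalizer_le_normalizer_bau S g.φS⟩
  exact hac (mx_ac_of g pC fun h => g.φG (h hφ))

/-- All `2`-subgroups `V ≥ B` satisfy `AC` (otherwise `HM` with `T' = V` gives `bau V = B`, and `ac_over` with
`ac_inv` for `C = B`). Apply `ext` to `B ≤ S, n S n⁻¹`. -/
theorem Mx.norm_eq (m : Mx S U T) (g : Gl r G S φ) (hn : n ∈ 𝒩[bau 2 T]) :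
    ∃ c ∈ 𝒞[bau 2 T], ∃ n' ∈ 𝒩[S], n = c * n' := by
  have hB : AC (bau 2 T) := m.ac_inv g le_rfl inf_le_right
  have hBS : bau 2 T ≤ S := (bau_le T).trans m.TS
  have hV : ∀ V : Subgroup Γ, IsPGroup 2 V → bau 2 T ≤ V → AC V := fun V pV hle => by
    by_contra hac
    exact hac (ac_over hB pV (m.hm V V pV hac pV hle le_normalizer))
  have hS' : IsSylowIn 2 (conjS n S) ⊤ := g.syl.conj_of_mem (mem_top n)
  obtain ⟨c, hc, e⟩ := ext hV g.syl hS' hBS (by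
    rw [← mem_normalizer_iff_conjS.1 hn]; exact conjS_mono hBS)
  refine ⟨c, hc, c⁻¹ * n, ?_, by group⟩
  rw [mem_normalizer_iff_conjS, conjS_mul, e, conjS_inv_conjS]

/-- `Z = Ω Z(S) ≤ Ω Z(B)`. By `norm_eq`, `f` acts on `Z` as an element of `N(S)`, so `y = ⁅f, z⁆ ∈ Z` is an involution
and `φ y φ⁻¹ = ⁅f, φ z φ⁻¹⁆` (`i2`). So `g y g⁻¹ = φ y φ⁻¹` with `g ∈ G`, and `φ⁻¹ g ∈ G` by `cenG`. -/
theorem Mx.not_big (m : Mx S U T) (g : Gl r G S φ) (hP : P ≤ G) : ¬ Big (bau 2 T) P (omegaZ 2 S) := by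
  rintro ⟨f, -, hf, ⟨z, hz, hfz⟩, hB⟩
  have hBS : bau 2 T ≤ S := (bau_le T).trans m.TS
  have hZB : omegaZ 2 S ≤ bau 2 T :=
    ((m.Z_le g.syl.isPGroup).trans (omegaZ_le_zj T)).trans (zj_le_bau T)
  have hZ : omegaZ 2 S ≤ omegaZ 2 (bau 2 T) :=
    le_omegaZ (elemAb_omegaZ S) hZB ((omegaZ_le_centralizer S).trans (centralizer_anti hBS))
  obtain ⟨c, hc, n', hn', rfl⟩ := m.norm_eq g hf
  have hnZ : ∀ x ∈ 𝒩[S], ∀ y ∈ omegaZ 2 S, x * y * x⁻¹ ∈ omegaZ 2 S := fun x hx y hy =>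
    LAE.conj_mem_of_mem_normalizer (normalizer_le_normalizer_omegaZ S hx) hy
  have act : ∀ y ∈ omegaZ 2 S, ⁅c * n', y⁆ = n' * y * n'⁻¹ * y⁻¹ := fun y hy => by
    have h1 := mem_centralizer_iff.1 hc _ (hZB (hnZ n' hn' y hy))
    rw [commutatorElement_def]
    calc c * n' * y * (c * n')⁻¹ * y⁻¹ = c * (n' * y * n'⁻¹) * c⁻¹ * y⁻¹ := by group
      _ = _ := by rw [← h1]; group
  have hz' := hnZ φ g.φS z hz
  have e : ⁅c * n', φ * z * φ⁻¹⁆ = φ * ⁅c * n', z⁆ * φ⁻¹ := by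
    rw [act _ hz', act _ hz, g.i2 n' hn' z hz]; group
  have hy : ⁅c * n', z⁆ ∈ omegaZ 2 S := by
    rw [act _ hz]; exact mul_mem (hnZ n' hn' z hz) (inv_mem hz)
  obtain ⟨k, hk, -, ek⟩ := hB z (hZ hz) _ (hZ hz') hfz (by
    rw [e]; intro h0; apply hfz
    calc ⁅c * n', z⁆ = φ⁻¹ * (φ * ⁅c * n', z⁆ * φ⁻¹) * φ := by group
      _ = 1 := by rw [h0]; group)
  rw [e] at ek
  have hG : φ⁻¹ * k ∈ G := g.cenG _ (by rw [← sq]; exact (mem_omegaZ.1 hy).2.2) hfz _ (by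
    rw [commute_iff_eq]
    calc φ⁻¹ * k * ⁅c * n', z⁆ = φ⁻¹ * (k * ⁅c * n', z⁆ * k⁻¹) * k := by group
      _ = _ := by rw [ek]; group)
  apply g.φG
  have := mul_mem (hP hk) (inv_mem hG)
  simpa using this

end CfsgLib.OFP
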