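import Mathlib
import Cfsg.Agent.Lib.OFP.Xl
import Cfsg.Agent.Lib.OFP.Sec
import Cfsg.Agent.Lib.OFP.Mx
import Cfsg.Agent.Lib.OFP.Lg1

set_option autoImplicit false
set_option linter.unusedSectionVars false

namespace CfsgLib.OFP

open Subgroup Cfsg CfsgLib.LAE CfsgLib.Push CfsgLib.Blocks CfsgLib.ZJ
open scoped commutatorElement

variable {Γ : Type*} [Group Γ] [Finite Γ]

variable {r : ℕ} {G S U T Q O Z : Subgroup Γ} {φ : Γ}

section inj
variable {Δ : Type*} [Group Δ] {f : Γ →* Δ} {B C P : Subgroup Γ} {a w k b : Γ}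

theorem lg3_char (hf : Function.Injective f) (h : (C.subgroupOf B).Characteristic) :
    ((C.map f).subgroupOf (B.map f)).Characteristic := by
  let e := B.equivMapOfInjective f hf
  have he : ∀ x : B, ((e x : B.map f) : Δ) = f x := fun _ => rfl
  rw [characteristic_iff_le_comap] at h ⊢
  intro ϕ u hu
  obtain ⟨x, rfl⟩ := e.surjective u
  rw [mem_subgroupOf, he, mem_map_iff_mem hf] at hu
  have h2 := mem_map_of_mem f (show _ ∈ C from h (e.trans (ϕ.trans e.symm)) hu)
  rw [mem_comap, mem_subgroupOf]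
  simpa [← he] using h2

theorem lg3_big (hf : Function.Injective f) (h : Big B P Z) : Big (B.map f) (P.map f) (Z.map f) := by
  obtain ⟨x, hx, hN, ⟨z, hz, hne⟩, H⟩ := h
  refine ⟨f x, mem_map_of_mem f hx, map_le_normalizer_map f (le_refl 𝒩[B]) (mem_map_of_mem f hN),
    ⟨f z, mem_map_of_mem f hz, fun e => hne (hf (by rw [map_commutatorElement, e, map_one]))⟩, ?_⟩
  rw [← map_omegaZ hf]
  rintro _ ⟨z, hz, rfl⟩ _ ⟨z', hz', rfl⟩ n1 n2
  obtain ⟨g, hg, hgN, e⟩ := H z hz z' hz'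
    (fun e => n1 (by rw [← map_commutatorElement, e, map_one]))
    (fun e => n2 (by rw [← map_commutatorElement, e, map_one]))
  refine ⟨f g, mem_map_of_mem f hg, map_le_normalizer_map f (le_refl 𝒩[B]) (mem_map_of_mem f hgN), ?_⟩
  rw [← map_commutatorElement, ← map_commutatorElement, ← e, map_mul, map_mul, map_inv]

theorem lg3_sm (hf : Function.Injective f) (h : Sm B Q a w k b) :
    Sm (B.map f) (Q.map f) (f a) (f w) (f k) (f b) := by
  have hW : (WW a w).map f = WW (f a) (f w) := by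
    rw [WW, WW, MonoidHom.map_closure, Set.image_pair]
  refine ⟨⟨mem_map_of_mem f h.aQ, mem_map_of_mem f h.wQ,
    map_le_centralizer_map f (le_refl 𝒞[Q]) (mem_map_of_mem f h.ac),
    map_le_centralizer_map f (le_refl 𝒞[Q]) (mem_map_of_mem f h.wc),
    by rw [← map_mul, h.aa, map_one], by rw [← map_mul, h.ww, map_one],
    fun e => h.w1 (hf (by rw [e, map_one])), fun e => h.aw (hf e),
    map_le_normalizer_map f (le_refl 𝒩[Q]) (mem_map_of_mem f h.kN),
    by rw [← map_inv, ← map_mul, ← map_mul, h.kw],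
    by rw [← map_inv, ← map_mul, ← map_mul, h.ka, map_mul], ?_⟩, h.pB.map f, map_mono h.QB,
    mem_map_of_mem f h.bB, fun e => h.bQ ((mem_map_iff_mem hf).1 e), ?_,
    by rw [← map_inv, ← map_mul, ← map_mul, h.ba, map_mul], ?_⟩
  · rintro _ ⟨x, hx, rfl⟩
    rw [← hW, ← map_commutatorElement]
    exact mem_map_of_mem f (h.kQ x hx)
  · rintro _ ⟨x, hx, rfl⟩
    exact (h.idx x hx).imp (mem_map_of_mem f) fun e => by
      rw [← map_mul]; exact mem_map_of_mem f e
  · rintro _ ⟨d, hd, rfl⟩ hc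
    rw [← map_inv, ← map_mul, ← map_mul]
    exact (h.Db d hd (hf (by rw [map_mul, map_mul, hc.eq]))).map f

end inj

/-- Apply `sect_bot` in `Γ / O`. `Loc` passes to the quotient (subgroups above `T O` correspond); elements of
`C(Z̄)` lift to `C(Z)` (`sec_norm`, `sec_cent`), so `sec_acin` gives `hc`; every `C̄ ≤ B̄` is the image of
`C = B ⊓ π⁻¹(C̄)` (`sec_char`, `sec_ac`, `sec_bau`); `sec_big`, `sec_sm`. -/
theorem sect (h : Loc T Q O ⊤) (hZ : Z ≤ omegaZ 2 T) (hc : ACin 𝒞[Z] Q)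
    (hA : ∀ C ≤ bau 2 T, (C.subgroupOf (bau 2 T)).Characteristic → AC C) :
    Big (bau 2 T) ⊤ Z ∨ ∃ (Q' : Subgroup Γ) (a w k b : Γ), Sm (bau 2 T) Q' a w k b := by
  have : O.Normal := normalizer_eq_top_iff.1 (eq_top_iff.2 h.nO)
  let π := QuotientGroup.mk' O
  have hk : π.ker = O := QuotientGroup.ker_mk' O
  have ho : Odd (Nat.card π.ker) := by rw [hk]; exact h.odd
  have hs : Function.Surjective π := QuotientGroup.mk'_surjective O
  have ht : (⊤ : Subgroup Γ).map π = ⊤ := map_top_of_surjective π hs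
  have hO : O.map π = ⊥ := (Subgroup.map_eq_bot_iff _).2 hk.ge
  have pT := h.syl.isPGroup
  have pQ : IsPGroup 2 Q := pT.to_le h.QT
  have pZ : IsPGroup 2 Z := pT.to_le (hZ.trans (omegaZ_le T))
  have pB : IsPGroup 2 (bau 2 T) := pT.to_le (bau_le T)
  have hL : Loc (T.map π) (Q.map π) ⊥ ⊤ := by
    refine ⟨ht ▸ h.syl.map π, map_mono h.QT, ht ▸ map_le_normalizer_map π h.nQ, bot_le,
      (normalizer_eq_top ⊥).ge, by simp, bot_le, ?_, fun hn => h.nn fun x _ => ?_,
      fun Y' h1 h2 => ?_⟩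
    · rintro u ⟨-, hu⟩
      obtain ⟨x, rfl⟩ := hs u
      rw [← hO, ← Subgroup.map_sup]
      exact mem_map_of_mem π (h.cQ ⟨mem_top x, sec_cent ho pQ (h.nQ (mem_top x)) hu⟩)
    · rw [sup_bot_eq] at hn
      rw [← hk, ← comap_map_eq]
      exact le_normalizer_comap π (hn (mem_top (π x)))
    · have h3 : T ⊔ O ≤ Y'.comap π := by
        rw [← map_le_iff_le_comap, Subgroup.map_sup, hO]
        exact h1
      have h4 : Y'.comap π < ⊤ := lt_top_iff_ne_top.2 fun e => h2.ne (by
        rw [← map_comap_eq_self_of_surjective hs Y', e, ht])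
      have h5 := map_le_normalizer_map π (h.min _ h3 h4)
      rwa [map_comap_eq_self_of_surjective hs, Subgroup.map_sup, hO] at h5
  have hZ' : Z.map π ≤ omegaZ 2 (T.map π) := by
    rw [← sec_omegaZ ho pT]
    exact map_mono hZ
  have hc' : ACin 𝒞[Z.map π] (Q.map π) := by
    refine (sec_acin ho pQ (le_top.trans h.nQ) hc).mono fun u hu => ?_
    obtain ⟨x, hx, rfl⟩ := sec_norm ho hs pZ (centralizer_le_normalizer _ hu)
    exact mem_map_of_mem π (sec_cent ho pZ hx hu)
  have key := sect_bot hL hZ' hc' (by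
    rw [← sec_bau ho pT]
    intro C' h1 h2
    have e : (bau 2 T ⊓ C'.comap π).map π = C' := by
      refine le_antisymm (map_le_iff_le_comap.2 inf_le_right) fun u hu => ?_
      obtain ⟨x, hx, rfl⟩ := h1 hu
      exact ⟨x, ⟨hx, hu⟩, rfl⟩
    rw [← e] at h2 ⊢
    exact sec_ac ho hs (pB.to_le inf_le_left) (hA _ inf_le_left (sec_char ho pB inf_le_left h2)))
  rw [← sec_bau ho pT] at key
  rcases key with hb | ⟨Q', a, w, k, b, hb⟩
  · exact Or.inl (sec_big ho hs pB (hZ.trans ((omegaZ_le_zj T).trans (zj_le_bau T))) hb)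
  · exact Or.inr (sec_sm ho hs pB hb)

/-- `Mx.exists_loc`, then `sect` in the type `Y` for `T, Q, O, Z = Ω Z(S)` (as `subgroupOf Y`). `hc`: `Z ≠ 1` is
normalized by `φ ∉ G` and `Q ≤ T ≤ N(Z)`, so `Gl.ac`; `hA`: `Mx.ac_inv` (characteristic subgroups of `B` are
normalized by `N(B)`: `normalizer_le_of_characteristic`). `Big` maps to `Big B Y Z` with `Y ≤ N(U) ≤ G`, excluded by
`Mx.not_big`; `Sm` maps along `Y.subtype`. -/
theorem Mx.exists_sm (m : Mx S U T) (g : Gl r G S φ) :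
    ∃ (Q : Subgroup Γ) (a w k b : Γ), Sm (bau 2 T) Q a w k b := by
  obtain ⟨Q, O, Y, h, hY⟩ := m.exists_loc
  have pS := g.syl.isPGroup
  have hf : Function.Injective Y.subtype := Y.subtype_injective
  have ho : Odd (Nat.card Y.subtype.ker) := by rw [ker_subtype]; simp
  have TY : T ≤ Y := h.syl.le
  have QY : Q ≤ Y := h.QT.trans TY
  have TOY : T ⊔ O ≤ Y := sup_le TY h.OY
  have ZT : omegaZ 2 S ≤ omegaZ 2 T := m.Z_le pS
  have ZY : omegaZ 2 S ≤ Y := ZT.trans ((omegaZ_le T).trans TY)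
  have eB : (bau 2 (T.subgroupOf Y)).map Y.subtype = bau 2 T := by
    rw [sec_bau ho ((isPGroup_subgroupOf_iff TY).2 h.syl.isPGroup), map_subgroupOf_eq_of_le TY]
  have hL : Loc (T.subgroupOf Y) (Q.subgroupOf Y) (O.subgroupOf Y) ⊤ := by
    refine ⟨subgroupOf_self Y ▸ h.syl.subgroupOf le_rfl, comap_mono h.QT, fun y _ => ?_, le_top,
      fun y _ => ?_, ?_, ?_, ?_, fun hn => h.nn fun y hy => ?_, fun Y' h1 h2 y hy => ?_⟩
    · rw [← subgroupOf_normalizer_eq QY]
      exact h.nQ y.2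
    · rw [← subgroupOf_normalizer_eq h.OY]
      exact h.nO y.2
    · rw [Nat.card_congr (subgroupOfEquivOfLe h.OY).toEquiv]
      exact h.odd
    · rw [centralizer_subgroupOf QY]
      exact comap_mono h.OC
    · rw [centralizer_subgroupOf QY, ← subgroupOf_sup QY h.OY]
      exact fun y hy => h.cQ ⟨y.2, hy.2⟩
    · rw [← subgroupOf_sup TY h.OY, ← subgroupOf_normalizer_eq TOY] at hn
      exact hn (mem_top (⟨y, hy⟩ : Y))
    · rw [← subgroupOf_sup TY h.OY] at h1 ⊢
      rw [← subgroupOf_normalizer_eq TOY]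
      refine h.min (Y'.map Y.subtype) ?_ ?_ (mem_map_of_mem _ hy)
      · rw [← map_subgroupOf_eq_of_le TOY]
        exact map_mono h1
      · refine lt_of_le_of_ne (map_subtype_le Y') fun e => h2.ne (map_injective hf ?_)
        rw [e, ← MonoidHom.range_eq_map, range_subtype]
  have hZ : (omegaZ 2 S).subgroupOf Y ≤ omegaZ 2 (T.subgroupOf Y) := fun z hz => by
    rw [← mem_map_iff_mem hf, map_omegaZ hf, map_subgroupOf_eq_of_le TY]
    exact ZT hz
  have S1 : S ≠ ⊥ := fun e => m.nac (by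
    have : U ≤ T := m.syl.le_of_normal m.pU le_normalizer le_rfl
    rw [eq_bot_iff.2 ((this.trans m.TS).trans e.le)]
    exact ac_bot)
  have hc : ACin 𝒞[(omegaZ 2 S).subgroupOf Y] (Q.subgroupOf Y) := by
    rw [centralizer_subgroupOf ZY, ← inf_subgroupOf_right, acin_subgroupOf_iff inf_le_right QY]
    exact (g.ac _ (pS.to_le (omegaZ_le S)) (omegaZ_ne_bot pS S1)
      (fun e => g.φG (e (normalizer_le_normalizer_omegaZ S g.φS))) Q
      ((h.QT.trans m.TS).trans (le_normalizer.trans (normalizer_le_normalizer_omegaZ S)))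
      (h.syl.isPGroup.to_le h.QT)).mono (inf_le_left.trans (centralizer_le_normalizer _))
  have key := sect hL hZ hc fun C h1 h2 => by
    have h3 := lg3_char hf h2
    have h4 : C.map Y.subtype ≤ bau 2 T := eB ▸ map_mono h1
    rw [eB] at h3
    have h5 := normalizer_le_of_characteristic ((C.map Y.subtype).subgroupOf (bau 2 T))
    rw [map_subgroupOf_eq_of_le h4] at h5
    exact (acin_map_iff hf).1 ((m.ac_inv g h4 (inf_le_right.trans h5)).mono le_top)
  rcases key with hb | ⟨Q', a, w, k, b, hb⟩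
  · have h1 := lg3_big hf hb
    rw [eB, map_subgroupOf_eq_of_le ZY] at h1
    exact absurd h1 (m.not_big g ((map_subtype_le _).trans (hY.trans (m.le_G g))))
  · exact ⟨_, _, _, _, _, eB ▸ lg3_sm hf hb⟩

end CfsgLib.OFP
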