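import Mathlib
import Cfsg.Agent.Lib.OFP.T2Defs
import Cfsg.Agent.Lib.Core.Fitting

set_option autoImplicit false
set_option linter.unusedSectionVars false

namespace CfsgLib.OFP

open Subgroup Cfsg CfsgLib.LAE CfsgLib.Push CfsgLib.Blocks CfsgLib.ZJ
open scoped commutatorElement

variable {Γ : Type*} [Group Γ] [Finite Γ]

variable {S M U T : Subgroup Γ} {g : Γ}

/-- Downward induction on `U` (as in `ext`, Bas2), for all `g`. Let `S₁ ≥ U`, `S₂ ≥ g U g⁻¹` be Sylow in `M`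
(`exists_isSylowIn_ge`; they are `M`-conjugate to `S`, so Sylow in `⊤`). If `U = S₁`, then `m g ∈ N(U)` for some
`m ∈ M` and `U` is good (`mem_CM'`). Otherwise `U < S₁`, `g U g⁻¹ < S₂` (orders), `R = N_{S₁}(U) > U`,
`T₂ = g⁻¹ N_{S₂}(g U g⁻¹) g > U`. Take a Sylow `T* ≥ R` of `N(U)` and `h` with `h T* h⁻¹ ≤ S`; induction for `R`
gives `h = m c`, `c ∈ C(R)`, so `T = c T* c⁻¹ ≤ M` is Sylow in `N(U)`. There is `n = m' c' ∈ N(U)` (`U` good)
with `n T₂ n⁻¹ ≤ T`, so `U₂ = c' T₂ c'⁻¹ ≤ M`, `U₂ > U`, and `g c'⁻¹` conjugates `U₂` into `M`: induction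
for `U₂`. -/
theorem ext2 (hS : IsSylowIn 2 S ⊤) (SM : S ≤ M) (pU : IsPGroup 2 U) (UM : U ≤ M)
    (h : ∀ R : Subgroup Γ, IsPGroup 2 R → U ≤ R → R ≤ M → Gd M R) (hg : conjS g U ≤ M) :
    ∃ m ∈ M, ∃ c ∈ 𝒞[U], g = m * c := by
  have cM : ∀ {m c : Γ} {X : Subgroup Γ}, m ∈ M → conjS (m * c) X ≤ M → conjS c X ≤ M := fun hm e => by
    rwa [conjS_mul, conjS_le_iff, conjS_eq_of_mem (inv_mem hm)] at e
  have cC : ∀ {c : Γ} {X : Subgroup Γ}, c ∈ 𝒞[X] → conjS c X = X := fun hc =>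
    mem_normalizer_iff_conjS.1 (centralizer_le_normalizer _ hc)
  induction U using WellFoundedGT.induction generalizing g with
  | ind U ih =>
    obtain ⟨S₁, h1, US₁⟩ := exists_isSylowIn_ge pU UM
    obtain ⟨S₂, h2, US₂⟩ := exists_isSylowIn_ge (isPGroup_conjS pU g) hg
    have h1' := h1.of_le_of_isSylowIn hS SM le_top
    have h2' := (h2.of_le_of_isSylowIn hS SM le_top).conj_of_mem (g := g⁻¹) trivial
    have gd := h U pU le_rfl UM
    by_cases e : U = S₁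
    · subst e
      obtain ⟨m, hm, e⟩ := ((h1'.conj_of_mem (g := g) trivial).mono hg le_top).exists_conj h1
      rw [← conjS_mul, ← mem_normalizer_iff_conjS] at e
      obtain ⟨m', hm', -, c, hc, e'⟩ := mem_CM'.1 (gd e)
      exact ⟨m⁻¹ * m', mul_mem (inv_mem hm) hm', c, hc, by rw [mul_assoc, ← e', inv_mul_cancel_left]⟩
    have US₂' : U ≤ conjS g⁻¹ S₂ := conjS_le_iff.1 US₂
    have e' : U ≠ conjS g⁻¹ S₂ := fun e' =>
      e ((e' ▸ h2' : IsSylowIn 2 U ⊤).eq_of_le _ h1.isPGroup US₁ le_top).symm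
    have l1 := Core.lt_inf_normalizer_of_isPGroup h1.isPGroup (lt_of_le_of_ne US₁ e)
    have l2 := Core.lt_inf_normalizer_of_isPGroup h2'.isPGroup (lt_of_le_of_ne US₂' e')
    obtain ⟨T', hT', RT⟩ := exists_isSylowIn_ge (Q := S₁ ⊓ 𝒩[U]) h1.isPGroup.to_inf_left inf_le_right
    obtain ⟨k, -, hk⟩ := hS.exists_conj_le hT'.isPGroup le_top
    obtain ⟨m, hm, c, hc, rfl⟩ := ih _ l1 h1.isPGroup.to_inf_left (inf_le_left.trans h1.le)
      (fun R hR hl => h R hR (l1.le.trans hl)) (g := k) ((conjS_mono RT).trans (hk.trans SM))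
    have TM := cM hm (hk.trans SM)
    have hT := hT'.conj_of_mem (centralizer_le_normalizer _ (centralizer_anti l1.le hc))
    obtain ⟨n, hn, hn'⟩ := hT.exists_conj_le (Q := conjS g⁻¹ S₂ ⊓ 𝒩[U]) h2'.isPGroup.to_inf_left inf_le_right
    obtain ⟨m', hm', -, c', hc', rfl⟩ := mem_CM'.1 (gd hn)
    have l3 : U < conjS c' (conjS g⁻¹ S₂ ⊓ 𝒩[U]) := by
      refine lt_of_le_of_ne ((cC hc').ge.trans (conjS_mono l2.le)) fun e => l2.ne (conjS_injective c' ?_)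
      rw [cC hc', ← e]
    obtain ⟨m₂, hm₂, c₂, hc₂, e₂⟩ := ih _ l3 (isPGroup_conjS h2'.isPGroup.to_inf_left c')
      (cM hm' (hn'.trans TM)) (fun R hR hl => h R hR (l3.le.trans hl)) (g := g * c'⁻¹) (by
        rw [conjS_mul, conjS_inv_conjS, conjS_le_iff]
        exact inf_le_left.trans (conjS_mono h2.le))
    exact ⟨m₂, hm₂, c₂ * c', mul_mem (centralizer_anti l3.le hc₂) hc', by
      rw [← mul_assoc, ← e₂, inv_mul_cancel_right]⟩

/-- Let `T* ≥ T` be Sylow in `N(U)`, `h T* h⁻¹ ≤ S`. If `U < T`, `ext2` for `T` gives `h = m c`, `c ∈ C(T)`,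
`T ≤ c T* c⁻¹ ≤ M ⊓ N(U)`, so `T = T*`. If `U = T`, then `U` is Sylow in `M` (normalizers grow,
`Core.lt_inf_normalizer_of_isPGroup`), so in `⊤`. -/
theorem syl_of_over (hS : IsSylowIn 2 S ⊤) (SM : S ≤ M) (pU : IsPGroup 2 U) (UM : U ≤ M)
    (h : ∀ R : Subgroup Γ, IsPGroup 2 R → U < R → R ≤ M → Gd M R) (hT : IsSylowIn 2 T (M ⊓ 𝒩[U])) :
    IsSylowIn 2 T 𝒩[U] := by
  have UT : U ≤ T := hT.le_of_normal pU (le_inf UM le_normalizer) inf_le_right
  rcases UT.eq_or_lt with rfl | l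
  · obtain ⟨S₁, h1, US₁⟩ := exists_isSylowIn_ge pU UM
    obtain rfl : U = S₁ := by
      by_contra e
      have l1 := Core.lt_inf_normalizer_of_isPGroup h1.isPGroup (lt_of_le_of_ne US₁ e)
      exact l1.ne' (hT.eq_of_le _ h1.isPGroup.to_inf_left l1.le (inf_le_inf_right _ h1.le))
    exact (h1.of_le_of_isSylowIn hS SM le_top).mono le_normalizer le_top
  obtain ⟨T', hT', TT⟩ := exists_isSylowIn_ge hT.isPGroup (hT.le.trans inf_le_right)
  obtain ⟨k, -, hk⟩ := hS.exists_conj_le hT'.isPGroup le_top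
  obtain ⟨m, hm, c, hc, rfl⟩ := ext2 hS SM hT.isPGroup (hT.le.trans inf_le_left)
    (fun R hR hl => h R hR (l.trans_le hl)) (g := k) ((conjS_mono TT).trans (hk.trans SM))
  have TM : conjS c T' ≤ M := by
    have e := hk.trans SM
    rwa [conjS_mul, conjS_le_iff, conjS_eq_of_mem (inv_mem hm)] at e
  have h2 := hT'.conj_of_mem (centralizer_le_normalizer _ (centralizer_anti UT hc))
  rwa [hT.eq_of_le _ h2.isPGroup ((mem_normalizer_iff_conjS.1 (centralizer_le_normalizer _ hc)).ge.trans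
    (conjS_mono TT)) (le_inf TM h2.le)] at h2

end CfsgLib.OFP
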