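import Mathlib
import Cfsg.Agent.Lib.OFP.T2Defs
import Cfsg.Agent.Lib.Core.Fitting

set_option autoImplicit false
set_option linter.unusedSectionVars false

namespace CfsgLib.OFP

open Subgroup Cfsg CfsgLib.LAE CfsgLib.Push CfsgLib.Blocks CfsgLib.ZJ
open scoped commutatorElement

variable {Γ : Type*} [Group Γ] [Finite Γ]

variable {M B R N T H O : Subgroup Γ}

/-- `bau T = B`; `zj T ≤ B` centralizes `B ≥ N` (`bau_le_centralizer`), so `zj T ≤ N`; an element of `T`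
centralizing `N` centralizes `zj T`, so it lies in `bau T = B`. -/
theorem HB.cent (h : HB B R) (NB : N ≤ B) (hc : B ⊓ 𝒞[N] ≤ N) (pT : IsPGroup 2 T) (BT : B ≤ T)
    (TR : T ≤ 𝒩[R]) : T ⊓ 𝒞[N] ≤ N := by
  have e := h T pT BT TR
  have h1 : zj 2 T ≤ N := (le_inf ((zj_le_bau T).trans e.le) ((le_centralizer_iff.1
    (e.ge.trans (bau_le_centralizer T))).trans (centralizer_anti NB))).trans hc
  exact fun x hx => hc ⟨e.le ⟨hx.1, centralizer_anti h1 hx.2⟩, hx.2⟩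

/-- Let `R₂ ≥ R B` be Sylow in `B R C(N)`, `R₃ = R₂ ⊓ R C(N)`, Sylow in `R C(N) ⊴ B R C(N)`. If `R < R₃` take
`x ∈ N_{R₃}(R) \ R`, `x = r c` with `c ∈ C(N)`; `T = N_{R₂}(R) ≥ B` contains `c`, so `c ∈ N ≤ R` by `HB.cent`. -/
theorem HB.syl (h : HB B R) (pB : IsPGroup 2 B) (pR : IsPGroup 2 R) (NR : N ≤ R) (NB : N ≤ B) (RN : R ≤ 𝒩[N])
    (BN : B ≤ 𝒩[N]) (BR : B ≤ 𝒩[R]) (hc : B ⊓ 𝒞[N] ≤ N) : IsSylowIn 2 R (R ⊔ 𝒞[N]) := by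
  have : Fact (Nat.Prime 2) := ⟨Nat.prime_two⟩
  obtain ⟨S, hS, h1⟩ := exists_isSylowIn_ge (H := B ⊔ (R ⊔ 𝒞[N])) (isPGroup_sup pB pR BR)
    (sup_le_sup_left le_sup_left B)
  have h2 := hS.inf_of_normal le_sup_right
    (sup_le (le_normalizer_sup BR (le_normalizer_centralizer BN)) le_normalizer)
  have h3 : R ≤ S ⊓ (R ⊔ 𝒞[N]) := le_inf (le_sup_right.trans h1) le_sup_left
  rcases h3.eq_or_lt with e | h4
  · exact e ▸ e ▸ h2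
  obtain ⟨x, hx, x0⟩ := SetLike.exists_of_lt (Core.lt_inf_normalizer_of_isPGroup h2.isPGroup h4)
  obtain ⟨r, hr, c, hc', rfl⟩ := (mem_sup_iff_of_left_le_normalizer (le_normalizer_centralizer RN)).1 hx.1.2
  refine absurd (mul_mem hr (NR (h.cent (T := S ⊓ 𝒩[R]) NB hc hS.isPGroup.to_inf_left
    (le_inf (le_sup_left.trans h1) BR) inf_le_right ⟨?_, hc'⟩))) x0
  exact (mul_mem_cancel_left (le_inf (le_sup_right.trans h1) le_normalizer hr)).1 ⟨hx.1.1, hx.2⟩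

/-- `K = C(N) ⊓ N(R)` acts on `R` as a `2`-group (`p2_of_odd`): for `v ∈ K` of odd order and `u ∈ R`,
`⁅v, u⁆ ∈ R ⊓ C(N) ≤ N` (`HB.cent` for `T = R B`) commutes with `v`: `commute_of_odd`. Let `T ≥ B` be Sylow in
`B K`; `T ⊓ K` is Sylow in `K ≥ C(R)` and lies in `N` (`HB.cent`); `exists_cent_mul`. -/
theorem HB.cent_le (h : HB B R) (pB : IsPGroup 2 B) (pR : IsPGroup 2 R) (NR : N ≤ R) (NB : N ≤ B)
    (RN : R ≤ 𝒩[N]) (BN : B ≤ 𝒩[N]) (BR : B ≤ 𝒩[R]) (hc : B ⊓ 𝒞[N] ≤ N) : 𝒞[N] ⊓ 𝒩[R] ≤ 𝒞[R] ⊔ N := by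
  have : Fact (Nat.Prime 2) := ⟨Nat.prime_two⟩
  have h0 := h.cent (T := B ⊔ R) NB hc (isPGroup_sup pB pR BR) le_sup_left (sup_le BR le_normalizer)
  have h1 : ∀ x ∈ 𝒞[N] ⊓ 𝒩[R], P2 R x := fun x hx => p2_of_odd fun v hv ho u hu => by
    have hv := zpowers_le.2 hx hv
    have h2 : ⁅v, u⁆ ∈ R := mul_mem (LAE.conj_mem_of_mem_normalizer hv.2 hu) (inv_mem hu)
    have h3 : ⁅v, u⁆ ∈ 𝒞[N] := by
      rw [commutatorElement_def, mul_assoc, mul_assoc, ← mul_assoc u]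
      exact mul_mem hv.1 (bas1_conj (RN hu) (inv_mem hv.1))
    exact (commute_of_odd ho (two_of_mem pR h2) (hv.1 _ (h0 ⟨mem_sup_right h2, h3⟩)).symm).symm
  have h2 : 𝒞[N] ⊓ 𝒩[R] ⊔ 𝒞[R] = 𝒞[N] ⊓ 𝒩[R] :=
    sup_eq_left.2 (le_inf (centralizer_anti NR) (centralizer_le_normalizer _))
  obtain ⟨S, hS, h3⟩ := exists_isSylowIn_ge (H := B ⊔ 𝒞[N] ⊓ 𝒩[R]) pB le_sup_left
  have h4 := hS.inf_of_normal le_sup_right (sup_le (le_normalizer_inf (le_normalizer_centralizer BN)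
    (BR.trans le_normalizer)) le_normalizer)
  intro x hx
  obtain ⟨c, hc', t, ht, rfl⟩ := exists_cent_mul (T := S ⊓ (𝒞[N] ⊓ 𝒩[R])) inf_le_right h1
    (by rw [h2]; exact h4) (mem_sup_left hx)
  exact mul_mem_sup hc' (h.cent NB hc hS.isPGroup h3 (hS.le.trans (sup_le BR inf_le_right)) ⟨ht.1, ht.2.1⟩)

theorem t2up_key {C : Subgroup Γ} (RC : R ≤ 𝒩[C]) (hs : IsSylowIn 2 R (R ⊔ C)) (RM : R ≤ M)
    (hK : C ⊓ 𝒩[R] ≤ CM M R) {c m : Γ} (hc : c ∈ C) (hm : m ∈ M) (hn : c * m ∈ 𝒩[R]) : c * m ∈ CM M R := by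
  have : Fact (Nat.Prime 2) := ⟨Nat.prime_two⟩
  have e1 : conjS m R = conjS c⁻¹ R := by
    conv_rhs => rw [← mem_normalizer_iff_conjS.1 hn, ← conjS_mul, inv_mul_cancel_left]
  have h1 := hs.conj_of_mem (inv_mem (mem_sup_right hc : c ∈ R ⊔ C))
  obtain ⟨d, hd, e⟩ := (hs.mono (le_inf le_sup_left RM) inf_le_left).exists_conj
    (h1.mono (le_inf h1.le (e1 ▸ conjS_le_of_le_of_mem RM hm)) inf_le_left)
  obtain ⟨y, hy, r, hr, rfl⟩ := (mem_sup_iff_of_right_le_normalizer RC).1 (sup_comm R C ▸ hd.1)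
  have h2 : c * y ∈ 𝒩[R] := by
    rw [conjS_mul, conjS_eq_of_mem hr] at e
    rw [mem_normalizer_iff_conjS, conjS_mul, e, conjS_conjS_inv]
  have e2 : c * m = c * y * (y⁻¹ * m) := by group
  rw [e2] at hn ⊢
  exact mul_mem (hK ⟨mul_mem hc hy, h2⟩) (mem_sup_right
    ⟨M.mul_mem (M.inv_mem ((M.mul_mem_cancel_right (RM hr)).1 hd.2)) hm, (Subgroup.mul_mem_cancel_left _ h2).1 hn⟩)

/-- `g = c m` normalizes `R`, so `m R m⁻¹ = c⁻¹ R c ≤ M ⊓ R C(N) = R C_M(N)`, where `R` is Sylow (`HB.syl`):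
there is `y ∈ C_M(N)` with `y m ∈ N_M(R)`; `c y⁻¹ ∈ C(N) ⊓ N(R)`, `HB.cent_le`. -/
theorem HB.up (h : HB B R) (pB : IsPGroup 2 B) (pR : IsPGroup 2 R) (RM : R ≤ M) (NR : N ≤ R) (NB : N ≤ B)
    (RN : R ≤ 𝒩[N]) (BN : B ≤ 𝒩[N]) (BR : B ≤ 𝒩[R]) (hc : B ⊓ 𝒞[N] ≤ N) : 𝒩[R] ⊓ CM M N ≤ CM M R := by
  rintro g ⟨hg, hg'⟩
  obtain ⟨c, hc', m, hm, -, rfl⟩ := mem_CM.1 hg'
  exact t2up_key (le_normalizer_centralizer RN) (h.syl pB pR NR NB RN BN BR hc) RM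
    ((h.cent_le pB pR NR NB RN BN BR hc).trans (sup_le cent_le_CM (le_CM (NR.trans RM) (NR.trans le_normalizer))))
    hc' hm hg

/-- `g = o m` normalizes `R`; `m R m⁻¹ = o⁻¹ R o ≤ M ⊓ R O = R (O ⊓ M)`, where `R` is Sylow: there is
`y ∈ O ⊓ M` with `y m ∈ N(R)`; `o y⁻¹ ∈ O ⊓ N(R)` centralizes `R` since `⁅o y⁻¹, R⁆ ≤ O ⊓ R = 1`. -/
theorem odd_loc (ho : Odd (Nat.card O)) (HO : H ≤ 𝒩[O]) (hH : H ≤ O ⊔ (H ⊓ M)) (pR : IsPGroup 2 R)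
    (RH : R ≤ H) (RM : R ≤ M) : H ⊓ 𝒩[R] ≤ CM M R := by
  have : Fact (Nat.Prime 2) := ⟨Nat.prime_two⟩
  have RO := RH.trans HO
  rintro g ⟨hg, hg'⟩
  obtain ⟨o, ho', m, hm, rfl⟩ := (mem_sup_iff_of_right_le_normalizer (inf_le_left.trans HO)).1 (hH hg)
  refine t2up_key RO (isSylowIn_of_not_dvd_relIndex le_sup_left pR fun hd => ?_) RM (le_trans ?_ cent_le_CM)
    ho' hm.2 hg'
  · have h1 := Core.card_sup_dvd_of_le_normalizer RO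
    rw [← card_mul_index (R.subgroupOf (R ⊔ O)), Nat.card_congr (subgroupOfEquivOfLe le_sup_left).toEquiv] at h1
    exact ho.not_two_dvd_nat (hd.trans (Nat.dvd_of_mul_dvd_mul_left Nat.card_pos h1))
  · exact Core.le_centralizer_of_le_normalizer_of_disjoint inf_le_right
      (le_normalizer_inf RO (le_normalizer.trans le_normalizer)) (eq_bot_iff.2 fun x hx =>
        (Core.isPGroup_inf_eq_bot_of_coprime pR (Nat.coprime_two_right.2 ho)).le ⟨hx.2, hx.1.1⟩)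

end CfsgLib.OFP
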