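import Mathlib
import Cfsg.Agent.Lib.OFP.T2Ext
import Cfsg.Agent.Lib.OFP.T2Up

set_option autoImplicit false
set_option linter.unusedSectionVars false

namespace CfsgLib.OFP

open Subgroup Cfsg CfsgLib.LAE CfsgLib.Push CfsgLib.Blocks CfsgLib.ZJ
open scoped commutatorElement

variable {Γ : Type*} [Group Γ] [Finite Γ]

variable {S M U T C N R : Subgroup Γ} {I : Set (Subgroup Γ)}

private theorem t2mx_ex (h : ∃ U : Subgroup Γ, IsPGroup 2 U ∧ U ≤ M ∧ ¬ Gd M U) :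
    ∃ U T : Subgroup Γ, IsPGroup 2 U ∧ U ≤ M ∧ ¬ Gd M U ∧ IsSylowIn 2 T (M ⊓ 𝒩[U]) ∧
      ∀ R T' : Subgroup Γ, IsPGroup 2 R → R ≤ M → ¬ Gd M R → IsPGroup 2 T' → bau 2 T ≤ T' →
        T' ≤ M ⊓ 𝒩[R] → bau 2 T' = bau 2 T := by
  obtain ⟨U₀, pU₀, mU₀, nU₀⟩ := h
  obtain ⟨T₀, hT₀⟩ := exists_isSylowIn 2 (M ⊓ 𝒩[U₀])
  obtain ⟨A₀, hA₀⟩ := PLocal.maxElemIn_nonempty (p := 2) T₀
  let X : Set (Subgroup Γ) :=
    {T | ∃ U : Subgroup Γ, IsPGroup 2 U ∧ U ≤ M ∧ ¬ Gd M U ∧ IsSylowIn 2 T (M ⊓ 𝒩[U])}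
  obtain ⟨A₁, ⟨T₁, hT₁, hA₁⟩, m1⟩ := Set.exists_max_image
    {A : Subgroup Γ | ∃ T ∈ X, A ∈ PLocal.maxElemIn 2 T} (fun A => Nat.card A) (Set.toFinite _)
    ⟨A₀, T₀, ⟨U₀, pU₀, mU₀, nU₀, hT₀⟩, hA₀⟩
  let X2 : Set (Subgroup Γ) := {T | T ∈ X ∧ ∃ A ∈ PLocal.maxElemIn 2 T, Nat.card A₁ ≤ Nat.card A}
  obtain ⟨T₂, hT₂, m2⟩ := Set.exists_max_image X2 (fun T => Nat.card (thompsonSubgroupOf 2 T))
    (Set.toFinite _) ⟨T₁, hT₁, A₁, hA₁, le_rfl⟩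
  let X3 : Set (Subgroup Γ) :=
    {T | T ∈ X2 ∧ Nat.card (thompsonSubgroupOf 2 T₂) ≤ Nat.card (thompsonSubgroupOf 2 T)}
  obtain ⟨T, ⟨⟨⟨U, pU, mU, nU, hT⟩, A, hA, cA⟩, cJ⟩, m3⟩ := Set.exists_max_image X3
    (fun T => Nat.card (bau 2 T)) (Set.toFinite _) ⟨T₂, hT₂, le_rfl⟩
  refine ⟨U, T, pU, mU, nU, hT, fun U' T' pU' mU' nU' pT' h1 h2 => ?_⟩
  obtain ⟨T'', hT'', h3⟩ := exists_isSylowIn_ge pT' h2
  have hX : T'' ∈ X := ⟨U', pU', mU', nU', hT''⟩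
  obtain ⟨A'', hA''⟩ := PLocal.maxElemIn_nonempty (p := 2) T''
  have key : ∀ A' ∈ PLocal.maxElemIn 2 T, A' ∈ PLocal.maxElemIn 2 T'' := fun A' hA' =>
    PLocal.mem_maxElemIn_of_card_le hA'' ((le_bau hA').trans (h1.trans h3)) (PLocal.mem_maxElemIn.1 hA').2.1
      (((m1 A'' ⟨T'', hX, hA''⟩).trans cA).trans (PLocal.card_eq_of_mem_maxElemIn hA hA').le)
  have hX2 : T'' ∈ X2 := ⟨hX, A, key A hA, cA⟩
  have eJ : thompsonSubgroupOf 2 T = thompsonSubgroupOf 2 T'' :=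
    eq_of_le_of_card_ge (PLocal.thompsonSubgroupOf_le_iff.2 fun A' hA' =>
      PLocal.le_thompsonSubgroupOf (key A' hA')) ((m2 T'' hX2).trans cJ)
  have ez : zj 2 T = zj 2 T'' := zj_eq_of_J_eq eJ
  have hX3 : T'' ∈ X3 := ⟨hX2, by rw [← eJ]; exact cJ⟩
  have eB : bau 2 T = bau 2 T'' :=
    eq_of_le_of_card_ge (le_inf (h1.trans h3) (by rw [← ez]; exact bau_le_centralizer T)) (m3 T'' hX3)
  rw [eB] at h1 ⊢
  exact bau_eq_of_le h1 h3

private theorem t2mx_inv {B : Subgroup Γ} (g : Gl2 S M I) (hBS : B ≤ S)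
    (hm : ∀ R T' : Subgroup Γ, IsPGroup 2 R → R ≤ M → ¬ Gd M R → IsPGroup 2 T' → B ≤ T' →
      T' ≤ M ⊓ 𝒩[R] → bau 2 T' = B) (hC : C ≤ B) (hn : S ⊓ 𝒩[B] ≤ 𝒩[C]) (hI : B = bau 2 S → C ∈ I) :
    Gd M C := by
  by_contra hac
  have pS := g.syl.isPGroup
  have e : bau 2 (S ⊓ 𝒩[B]) = B :=
    hm C _ (pS.to_le (hC.trans hBS)) ((hC.trans hBS).trans g.SM) hac (pS.to_le inf_le_left)
      (le_inf hBS le_normalizer) (le_inf (inf_le_left.trans g.SM) hn)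
  have eS : S ⊓ 𝒩[B] = S := by
    by_contra hne
    have hlt := CfsgLib.Core.lt_inf_normalizer_of_isPGroup pS (lt_of_le_of_ne inf_le_left hne)
    refine hlt.not_ge (le_inf inf_le_left ?_)
    have := normalizer_le_normalizer_bau (p := 2) (S ⊓ 𝒩[B])
    rw [e] at this
    exact inf_le_right.trans this
  rw [eS] at e hn
  exact hac (g.inv C (hC.trans hBS) hn (hI e.symm))

private theorem t2mx_cent {c : Γ} (hc : c ∈ 𝒞[U]) : conjS c U = U :=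
  mem_normalizer_iff_conjS.1 (centralizer_le_normalizer _ hc)

/-- Copy of `mx_exists_hm` and `exists_mx` (Mx.lean) for the pairs `(U, T)`: `U ≤ M` a bad `2`-group, `T` Sylow
in `M ⊓ N(U)`; conjugate by an element of `M` (`S` is Sylow in `M`; `gd_conj_iff`). -/
theorem exists_hm0 (hS : IsSylowIn 2 S ⊤) (SM : S ≤ M)
    (h : ∃ U : Subgroup Γ, IsPGroup 2 U ∧ U ≤ M ∧ ¬ Gd M U) :
    ∃ U T : Subgroup Γ, IsPGroup 2 U ∧ U ≤ M ∧ ¬ Gd M U ∧ IsSylowIn 2 T (M ⊓ 𝒩[U]) ∧ T ≤ S ∧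
      ∀ R T' : Subgroup Γ, IsPGroup 2 R → R ≤ M → ¬ Gd M R → IsPGroup 2 T' → bau 2 T ≤ T' →
        T' ≤ M ⊓ 𝒩[R] → bau 2 T' = bau 2 T := by
  obtain ⟨U, T, pU, mU, nU, hT, hm⟩ := t2mx_ex h
  obtain ⟨g, gM, hg⟩ := (hS.mono SM le_top).exists_conj_le hT.isPGroup (hT.le.trans inf_le_left)
  refine ⟨conjS g U, conjS g T, isPGroup_conjS pU g, conjS_le_of_le_of_mem mU gM, by rwa [gd_conj_iff gM], ?_,
    hg, fun R T' pR RM nR pT' h1 h2 => ?_⟩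
  · have := hT.conj g
    rwa [conjS_inf, conjS_normalizer, conjS_eq_of_mem gM] at this
  · rw [← conjS_bau] at h1 ⊢
    have e := hm (conjS g⁻¹ R) (conjS g⁻¹ T') (isPGroup_conjS pR _) (conjS_le_of_le_of_mem RM (inv_mem gM))
      (by rwa [gd_conj_iff (inv_mem gM)]) (isPGroup_conjS pT' _) (conjS_le_iff.1 h1) (by
        have := conjS_mono (g := g⁻¹) h2
        rwa [conjS_inf, conjS_normalizer, conjS_eq_of_mem (inv_mem gM)] at this)
    rw [← e, conjS_bau, conjS_conjS_inv]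

/-- Take `U, T` from `exists_hm0`, `B = bau T`.
* `B` is good: otherwise `bau (N_S(B)) = B`, so `N_S(B) = S` and `B = bau S` (as in `Mx.ac_inv`); `chI`, `inv`.
* `ovr`: take a bad `R`, `B ≤ R ≤ M`, of maximal order; `bau R = B`, so `N(R) ≤ N(B)`. A Sylow `T' ≥ R` of
  `M ⊓ N(R)` is Sylow in `N(R)` (`syl_of_over`), `bau T' = B`, and every `2`-subgroup of `N(R)` lies in a conjugate
  `n T' n⁻¹`, `n ∈ N(R) ≤ N(B)`: `HB B R` (`conjS_bau`, `bau_eq_of_le`). `HB.up` with `N = B`.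
* `hm`: for `B ≤ T' ≤ N(R)` conjugate `T' R` into `S` by `h`; `ext2` for `R ⊔ B` gives `h = m c` with
  `c ∈ C(R B)`, so `B ≤ c T' c⁻¹ ≤ M ⊓ N(R)`.
* `syl`: the same with `ext2` for `T ≥ U` and a Sylow `T* ≥ T` of `N(U)`. -/
theorem exists_mx2 (g : Gl2 S M I) (h : ∃ U : Subgroup Γ, IsPGroup 2 U ∧ U ≤ M ∧ ¬ Gd M U) :
    ∃ U T : Subgroup Γ, Mx2 S M U T := by
  obtain ⟨U, T, pU, UM, nU, hT, TS, hm⟩ := exists_hm0 g.syl g.SM h
  have BS : bau 2 T ≤ S := (bau_le T).trans TS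
  have pB : IsPGroup 2 (bau 2 T) := g.syl.isPGroup.to_le BS
  have gB : Gd M (bau 2 T) := t2mx_inv g BS hm le_rfl inf_le_right fun e => g.chI _ e.le (by
    rw [e, subgroupOf_self]; infer_instance)
  have ovr : ∀ R : Subgroup Γ, IsPGroup 2 R → bau 2 T ≤ R → R ≤ M → Gd M R := by
    by_contra hn
    push_neg at hn
    obtain ⟨R, ⟨pR, BR, RM, nR⟩, mx⟩ := Set.exists_max_image
      {R : Subgroup Γ | IsPGroup 2 R ∧ bau 2 T ≤ R ∧ R ≤ M ∧ ¬ Gd M R} (fun R => Nat.card R) (Set.toFinite _) hn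
    have eR : bau 2 R = bau 2 T := hm R R pR RM nR pR BR (le_inf RM le_normalizer)
    have NB : 𝒩[R] ≤ 𝒩[bau 2 T] := eR ▸ normalizer_le_normalizer_bau R
    obtain ⟨T', hT', RT'⟩ := exists_isSylowIn_ge pR (le_inf RM le_normalizer : R ≤ M ⊓ 𝒩[R])
    have hT'' := syl_of_over g.syl g.SM pR RM (fun R' pR' lt R'M => by
      by_contra nR'
      exact lt.ne (eq_of_le_of_card_ge lt.le (mx R' ⟨pR', BR.trans lt.le, R'M, nR'⟩))) hT'
    have eT' : bau 2 T' = bau 2 T := hm R T' pR RM nR hT'.isPGroup (BR.trans RT') hT'.le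
    have hb : HB (bau 2 T) R := fun X pX BX XR => by
      obtain ⟨n, hn, hle⟩ := hT''.exists_le_conj pX XR
      have e : bau 2 (conjS n T') = bau 2 T := by
        rw [← conjS_bau, eT']; exact mem_normalizer_iff_conjS.1 (NB hn)
      rw [← e] at BX ⊢
      exact bau_eq_of_le BX hle
    exact nR ((le_inf le_rfl (NB.trans gB)).trans (hb.up pB pR RM BR le_rfl (le_normalizer.trans NB)
      le_normalizer (BR.trans le_normalizer) inf_le_left))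
  have back : ∀ {k m c : Γ} {X : Subgroup Γ}, m ∈ M → k = m * c → conjS k X ≤ S → conjS c X ≤ M :=
    fun {k m c X} hm' e hle => by
      have := conjS_le_of_le_of_mem (hle.trans g.SM) (inv_mem hm')
      rwa [e, conjS_mul, conjS_inv_conjS] at this
  refine ⟨U, T, pU, nU, ?_, TS, fun R pR RM nR T' pT' BT' T'R => ?_, ovr⟩
  · obtain ⟨T', hT', TT'⟩ := exists_isSylowIn_ge hT.isPGroup (hT.le.trans inf_le_right)
    obtain ⟨k, -, hk⟩ := g.syl.exists_conj_le hT'.isPGroup le_top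
    obtain ⟨m, hm', c, hc, e⟩ := ext2 g.syl g.SM hT.isPGroup (TS.trans g.SM)
      (fun R pR TR RM => ovr R pR ((bau_le T).trans TR) RM) (((conjS_mono TT').trans hk).trans g.SM)
    have UT : U ≤ T := hT.le_of_normal pU (le_inf UM le_normalizer) inf_le_right
    have e1 : conjS c T' = T := hT.eq_of_le _ (isPGroup_conjS hT'.isPGroup c)
      ((t2mx_cent hc).ge.trans (conjS_mono TT'))
      (le_inf (back hm' e hk) (conjS_le_of_le_of_mem hT'.le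
        (centralizer_le_normalizer _ (centralizer_anti UT hc))))
    rwa [conjS_injective c (e1.trans (t2mx_cent hc).symm)] at hT'
  · obtain ⟨k, -, hk⟩ := g.syl.exists_conj_le (isPGroup_sup pT' pR T'R) le_top
    obtain ⟨m, hm', c, hc, e⟩ := ext2 (U := bau 2 T ⊔ R) g.syl g.SM (isPGroup_sup pB pR (BT'.trans T'R))
      (sup_le (BS.trans g.SM) RM) (fun X pX h1 XM => ovr X pX (le_sup_left.trans h1) XM)
      (((conjS_mono (sup_le_sup_right BT' R)).trans hk).trans g.SM)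
    have cB := t2mx_cent (centralizer_anti le_sup_left hc)
    have e1 := hm R (conjS c T') pR RM nR (isPGroup_conjS pT' c) (cB.ge.trans (conjS_mono BT'))
      (le_inf (back hm' e ((conjS_mono le_sup_left).trans hk)) (conjS_le_of_le_of_mem T'R
        (centralizer_le_normalizer _ (centralizer_anti le_sup_right hc))))
    rw [← conjS_bau] at e1
    exact conjS_injective c (e1.trans cB.symm)

theorem Mx2.UT (m : Mx2 S M U T) : U ≤ T := m.syl.le_of_normal m.pU le_normalizer le_rfl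

theorem Mx2.BS (m : Mx2 S M U T) : bau 2 T ≤ S := (bau_le T).trans m.TS

/-- Copy of `Mx.Z_le`. -/
theorem Mx2.Z_le (m : Mx2 S M U T) (pS : IsPGroup 2 S) : omegaZ 2 S ≤ omegaZ 2 T := by
  have hT : omegaZ 2 S ≤ 𝒞[T] := (omegaZ_le_centralizer S).trans (centralizer_anti m.TS)
  have hU : omegaZ 2 S ≤ 𝒞[U] := hT.trans (centralizer_anti m.UT)
  refine le_omegaZ (elemAb_omegaZ S) ?_ hT
  exact m.syl.le_of_normalizes (pS.to_le (omegaZ_le S)) (hU.trans (centralizer_le_normalizer _))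
    (hT.trans (centralizer_le_normalizer _))

/-- Copy of `Mx.ac_inv`. -/
theorem Mx2.gd_inv (m : Mx2 S M U T) (g : Gl2 S M I) (hC : C ≤ bau 2 T) (hn : S ⊓ 𝒩[bau 2 T] ≤ 𝒩[C])
    (hI : bau 2 T = bau 2 S → C ∈ I) : Gd M C := by
  exact t2mx_inv g m.BS (fun R T' pR RM nR pT' h1 h2 => m.hm R pR RM nR T' pT' h1 (h2.trans inf_le_right))
    hC hn hI

/-- Trivial if `R` is good; otherwise `hm` and `HB.up`. -/
theorem Mx2.up (m : Mx2 S M U T) (pR : IsPGroup 2 R) (RM : R ≤ M) (NR : N ≤ R) (NB : N ≤ bau 2 T)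
    (RN : R ≤ 𝒩[N]) (BN : bau 2 T ≤ 𝒩[N]) (BR : bau 2 T ≤ 𝒩[R]) (hc : bau 2 T ⊓ 𝒞[N] ≤ N) :
    𝒩[R] ⊓ CM M N ≤ CM M R := by
  by_cases h : Gd M R
  · exact inf_le_left.trans h
  · exact (m.hm R pR RM h).up (m.syl.isPGroup.to_le (bau_le T)) pR RM NR NB RN BN BR hc

end CfsgLib.OFP
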