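import Mathlib
import Cfsg.Agent.Lib.OFP.T2Mx
import Cfsg.Agent.Lib.OFP.Lg3

set_option autoImplicit false
set_option linter.unusedSectionVars false

namespace CfsgLib.OFP

open Subgroup Cfsg CfsgLib.LAE CfsgLib.Push CfsgLib.Blocks CfsgLib.ZJ
open scoped commutatorElement

variable {Γ : Type*} [Group Γ] [Finite Γ]

variable {S M U T Q O Y N : Subgroup Γ} {I : Set (Subgroup Γ)}

/-- Copy of `Mx.exists_loc` (Lg1.lean) with `Q = U ⊔ C_T(U)`, `O = O²(C(Q))`, `Y₀ = N(U) ⊓ N(Q)`.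
`¬ Y₀ ≤ CM M Q`: by Frattini `N(U) = U C(U) Y₀`, and `mem_CM_of_le` puts `Y₀` into `CM M U`, so `U` would be good.
`Y` is minimal among the subgroups `T O ≤ Y ≤ Y₀` not contained in `CM M Q`. -/
theorem Mx2.exists_loc (m : Mx2 S M U T) (SM : S ≤ M) : ∃ Q O Y : Subgroup Γ, Loc2 M T Q O Y := by
  have hUT : U ≤ T := m.UT
  have hTU : T ≤ 𝒩[U] := m.syl.le
  have hCN : 𝒞[U] ≤ 𝒩[U] := centralizer_le_normalizer _
  obtain ⟨Q, hQ⟩ : ∃ Q : Subgroup Γ, Q = U ⊔ (T ⊓ 𝒞[U]) := ⟨_, rfl⟩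
  have hUQ : U ≤ Q := hQ ▸ le_sup_left
  have hQT : Q ≤ T := hQ ▸ sup_le hUT inf_le_left
  have pQ : IsPGroup 2 Q := m.syl.isPGroup.to_le hQT
  have hTQ : T ≤ 𝒩[Q] :=
    hQ ▸ le_normalizer_sup hTU (le_normalizer_inf le_normalizer (le_normalizer_centralizer hTU))
  have hMN : 𝒩[U] ≤ 𝒩[U ⊔ 𝒞[U]] := le_normalizer_sup le_rfl (le_normalizer_centralizer le_rfl)
  have hQM : IsSylowIn 2 Q (U ⊔ 𝒞[U]) := by
    have := m.syl.inf_of_normal (sup_le le_normalizer hCN) hMN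
    rwa [inf_sup_of_le_of_le_normalizer hCN hUT, ← hQ] at this
  have hCC : 𝒞[Q] ≤ 𝒞[U] := centralizer_anti hUQ
  obtain ⟨hodd, hsp⟩ := split pQ fun x hx h2 => zpowers_le.1 (hQM.le_of_normalizes h2.isPGroup
    (zpowers_le.2 (mem_sup_right (hCC hx))) (zpowers_le.2 (centralizer_le_normalizer _ hx)))
  obtain ⟨O, hO⟩ : ∃ O : Subgroup Γ, O = pResOf 2 𝒞[Q] := ⟨_, rfl⟩
  rw [← hO] at hodd hsp
  have hOC : O ≤ 𝒞[Q] := hO ▸ pResOf_le _
  have hNO : 𝒩[Q] ≤ 𝒩[O] := hO ▸ le_normalizer_pResOf_of_le (le_normalizer_centralizer le_rfl)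
  have hTY : T ≤ 𝒩[U] ⊓ 𝒩[Q] := le_inf hTU hTQ
  have hOY : O ≤ 𝒩[U] ⊓ 𝒩[Q] :=
    le_inf (hOC.trans (hCC.trans hCN)) (hOC.trans (centralizer_le_normalizer _))
  have hTOY : T ⊔ O ≤ 𝒩[U] ⊓ 𝒩[Q] := sup_le hTY hOY
  have hnn : ¬ 𝒩[U] ⊓ 𝒩[Q] ≤ CM M Q := by
    intro hn
    refine m.bad fun x hx => ?_
    obtain ⟨a, ha, y, hy, e⟩ := hQM.frattini (hMN hx)
    obtain ⟨u, hu, c, hc, rfl⟩ := (mem_sup_iff_of_right_le_normalizer hCN).1 ha
    have huc : u * c = c * u := mem_centralizer_iff.1 hc u hu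
    have e' : u * y = c⁻¹ * x := by rw [e, huc]; group
    have hY : u * y ∈ 𝒩[U] ⊓ 𝒩[Q] :=
      mem_inf.2 ⟨by rw [e']; exact mul_mem (inv_mem (hCN hc)) hx, mul_mem (le_normalizer (hUQ hu)) hy⟩
    have h1 := mul_mem (cent_le_CM (M := M) hc) (mem_CM_of_le hUQ hY.1 (hn hY))
    rwa [e', mul_inv_cancel_left] at h1
  obtain ⟨Y, ⟨h1, h2, h3⟩, hmin⟩ := Set.exists_min_image
    {Y : Subgroup Γ | T ⊔ O ≤ Y ∧ Y ≤ 𝒩[U] ⊓ 𝒩[Q] ∧ ¬ Y ≤ CM M Q} (fun Y => Nat.card Y) (Set.toFinite _)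
    ⟨_, hTOY, le_rfl, hnn⟩
  have hYU : Y ≤ 𝒩[U] := h2.trans inf_le_left
  have hYQ : Y ≤ 𝒩[Q] := h2.trans inf_le_right
  refine ⟨Q, O, Y, m.syl.mono (le_sup_left.trans h1) hYU, m.TS.trans SM, hQT, hYQ, le_sup_right.trans h1,
    hYQ.trans hNO, hodd, hOC, fun c hc => ?_, h3, fun Y' a b => ?_⟩
  · obtain ⟨z, hz, o, ho, rfl⟩ := hsp c hc
    exact mul_mem (mem_sup_left hz) (mem_sup_right ho)
  · by_contra hc
    exact b.ne (eq_of_le_of_card_ge b.le (hmin Y' ⟨a, b.le.trans h2, hc⟩))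

/-- `N` is good (`Mx2.gd_inv`, `normalizer_le_of_characteristic`, `chI`). `Mx2.up` with `R = Q ⊔ N ≤ T`
(`Q ≤ T ≤ N(B) ≤ N(N)`), then `mem_CM_of_le`. -/
theorem Mx2.hup (m : Mx2 S M U T) (g : Gl2 S M I) (QT : Q ≤ T) (TQ : T ≤ 𝒩[Q]) (hN : N ≤ bau 2 T)
    (hc : (N.subgroupOf (bau 2 T)).Characteristic) (hz : bau 2 T ⊓ 𝒞[N] ≤ N) : 𝒩[Q] ⊓ 𝒩[N] ≤ CM M Q := by
  have h5 := normalizer_le_of_characteristic (N.subgroupOf (bau 2 T))
  rw [map_subgroupOf_eq_of_le hN] at h5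
  have h1 : Gd M N := m.gd_inv g hN (inf_le_right.trans h5) fun e => g.chI N (e ▸ hN) (e ▸ hc)
  have TN : T ≤ 𝒩[N] := (le_normalizer_bau T).trans h5
  have RT : Q ⊔ N ≤ T := sup_le QT (hN.trans (bau_le T))
  have h2 := m.up (m.syl.isPGroup.to_le RT) (RT.trans (m.TS.trans g.SM)) le_sup_right hN (RT.trans TN)
    ((bau_le T).trans TN) ((bau_le T).trans (le_normalizer_sup TQ TN)) hz
  intro x hx
  exact mem_CM_of_le le_sup_left hx.1 (h2 ⟨le_normalizer_sup inf_le_left inf_le_right hx, h1 hx.2⟩)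

/-- Transport to the type `Y` as in `Mx.exists_sm` (Lg3.lean): `centralizer_subgroupOf`,
`subgroupOf_normalizer_eq`, `sec_bau`, `lg3_char`; `cZ` from `Gl2.cz`, `ZT` from `Mx2.Z_le`, `up` from
`Mx2.hup` for `N.map Y.subtype`. -/
theorem Mx2.loc3 (m : Mx2 S M U T) (g : Gl2 S M I) (h : Loc2 M T Q O Y) :
    Loc3 ((CM M Q).subgroupOf Y) (T.subgroupOf Y) (Q.subgroupOf Y) (O.subgroupOf Y)
      ((omegaZ 2 S).subgroupOf Y) := by
  have pS := g.syl.isPGroup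
  have hf : Function.Injective Y.subtype := Y.subtype_injective
  have ho : Odd (Nat.card Y.subtype.ker) := by rw [ker_subtype]; simp
  have TY : T ≤ Y := h.syl.le
  have QY : Q ≤ Y := h.QT.trans TY
  have TOY : T ⊔ O ≤ Y := sup_le TY h.OY
  have ZT : omegaZ 2 S ≤ omegaZ 2 T := m.Z_le pS
  have ZY : omegaZ 2 S ≤ Y := ZT.trans ((omegaZ_le T).trans TY)
  have eB : (bau 2 (T.subgroupOf Y)).map Y.subtype = bau 2 T := by
    rw [sec_bau ho ((isPGroup_subgroupOf_iff TY).2 h.syl.isPGroup), map_subgroupOf_eq_of_le TY]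
  refine ⟨subgroupOf_self Y ▸ h.syl.subgroupOf le_rfl, comap_mono h.QT, normal_subgroupOf_of_le_normalizer h.nQ,
    normal_subgroupOf_of_le_normalizer h.nO, ?_, ?_, ?_,
    sup_le (comap_mono (le_CM h.TM (TY.trans h.nQ))) (comap_mono (h.OC.trans cent_le_CM)),
    fun e => h.nn (subgroupOf_eq_top.1 e), fun Y' h1 h2 y hy => ?_, fun z hz => ?_, ?_, fun C h1 h2 h3 y hy => ?_⟩
  · rw [Nat.card_congr (subgroupOfEquivOfLe h.OY).toEquiv]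
    exact h.odd
  · rw [centralizer_subgroupOf QY]
    exact comap_mono h.OC
  · rw [centralizer_subgroupOf QY, ← subgroupOf_sup QY h.OY]
    exact comap_mono h.cQ
  · rw [← subgroupOf_sup TY h.OY] at h1
    refine h.min (Y'.map Y.subtype) ?_ ?_ (mem_map_of_mem _ hy)
    · rw [← map_subgroupOf_eq_of_le TOY]
      exact map_mono h1
    · refine lt_of_le_of_ne (map_subtype_le Y') fun e => h2 (map_injective hf ?_)
      rw [e, ← MonoidHom.range_eq_map, range_subtype]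
  · rw [← mem_map_iff_mem hf, map_omegaZ hf, map_subgroupOf_eq_of_le TY]
    exact ZT hz
  · rw [centralizer_subgroupOf ZY]
    exact fun y hy => g.cz Q (h.QT.trans m.TS) ⟨hy, h.nQ y.2⟩
  · have h4 := lg3_char hf h2
    have h5 : C.map Y.subtype ≤ bau 2 T := eB ▸ map_mono h1
    rw [eB] at h4
    refine m.hup g h.QT (TY.trans h.nQ) h5 h4 ?_
      ⟨h.nQ y.2, map_le_normalizer_map Y.subtype (le_refl 𝒩[C]) (mem_map_of_mem _ hy)⟩
    rw [← eB]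
    rintro _ ⟨⟨z, hz, rfl⟩, hc⟩
    exact mem_map_of_mem _ (h3 ⟨hz, (bas1_cent_map hf).1 hc⟩)

end CfsgLib.OFP
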