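import Mathlib
import Cfsg.Agent.Lib.OFP.T2Defs
import Cfsg.Agent.Lib.OFP.Sec
import Cfsg.Agent.Lib.OFP.L2a

set_option autoImplicit false
set_option linter.unusedSectionVars false

namespace CfsgLib.OFP

open Subgroup Cfsg CfsgLib.LAE CfsgLib.Push CfsgLib.Blocks CfsgLib.ZJ
open scoped commutatorElement

variable {Γ : Type*} [Group Γ] [Finite Γ]

variable {F : Type} [Field F] {B Q P V V₀ : Subgroup Γ}

theorem NL.QB (n : NL F B Q P V V₀) : Q ≤ B := by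
  obtain ⟨D, -, h, -⟩ := n.nat
  exact h.ge.trans inf_le_left

/-- An element of `B` centralizing `Q ≥ V` lies in the kernel (`NatData.φ_eq_one_iff`). -/
theorem NL.cQ (n : NL F B Q P V V₀) : B ⊓ 𝒞[Q] ≤ Q := by
  obtain ⟨D, -, h, -⟩ := n.nat
  intro x hx
  refine h.le ⟨hx.1, D.mem_ker.2 ⟨n.BP hx.1, (D.φ_eq_one_iff (n.BP hx.1)).2 fun v hv => ?_⟩⟩
  rw [commutatorElement_eq_one_iff_mul_comm.2 (hx.2 v (n.VQ hv)).symm]
  exact one_mem _

/-- Copy of `NS.map` (L2a.lean). -/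
theorem NL.map (n : NL F B Q P V V₀) {Δ : Type*} [Group Δ] [Finite Δ] {f : Γ →* Δ} (hf : Function.Injective f) :
    NL F (B.map f) (Q.map f) (P.map f) (V.map f) (V₀.map f) := by
  obtain ⟨D, d1, d2, d3⟩ := n.nat
  obtain ⟨D', -, e2⟩ := D.exists_map f (by
    rw [(MonoidHom.ker_eq_bot_iff f).2 hf, inf_bot_eq]; exact bot_le)
  have hk : D'.ker = D.ker.map f := by
    ext g
    rw [D'.mem_ker]
    constructor
    · rintro ⟨⟨y, hy, rfl⟩, h1⟩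
      exact mem_map_of_mem f (D.mem_ker.2 ⟨hy, (e2 y hy).symm.trans h1⟩)
    · rintro ⟨y, hy, rfl⟩
      obtain ⟨h1, h2⟩ := D.mem_ker.1 hy
      exact ⟨mem_map_of_mem f h1, (e2 y h1).trans h2⟩
  refine ⟨⟨D', ?_, ?_, ?_⟩, n.pB.map f, map_mono n.BP, map_le_normalizer_map f n.PQ, map_mono n.VQ, ?_, ?_, ?_⟩
  · rw [← d1]
    ext g
    rw [D'.mem_img, D.mem_img]
    constructor
    · rintro ⟨_, -, ⟨y, hy, rfl⟩, rfl⟩
      exact ⟨y, n.BP hy, hy, (e2 y (n.BP hy)).symm⟩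
    · rintro ⟨y, hy, hy', rfl⟩
      exact ⟨f y, mem_map_of_mem f hy, mem_map_of_mem f hy', e2 y hy⟩
  · rw [hk, ← map_inf _ _ _ hf, d2]
  · rw [hk]
    refine (map_mono d3).trans ?_
    rw [Subgroup.map_sup]
    exact sup_le_sup_left (le_inf (map_mono inf_le_left) (map_le_centralizer_map f inf_le_right)) _
  · rw [← map_pResOf_of_injective hf, ← Subgroup.map_commutator]
    exact map_mono n.QK
  · rw [← map_pResOf_of_injective hf]
    exact map_le_centralizer_map f n.K0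
  · rw [← map_omegaZ hf]; exact map_mono n.ZV

/-- `Q = B ⊓ π⁻¹(O₂(P'))`, `P = π⁻¹(P') ⊓ N(Q)`, `V = Q ⊓ π⁻¹(V')`, `V₀ = V ⊓ π⁻¹(V₀')`. `π Q = O₂(P')`,
`π P = P'` (`sec_norm`), `π V = V'`, `π V₀ = V₀'`. `NatData.comap`. For `x` in the kernel `π x = π q` with
`q ∈ Q`, and `q⁻¹ x ∈ ker π ⊓ N(Q)` centralizes `Q` (`sec_cent`). `QK`, `K0`: `map_pResOf`, `NatData.norm₀`,
`sec_cent`; `ZV`: `sec_omegaZ`. -/
theorem sec_nl {X : Type*} [Group X] [Finite X] {π : Γ →* X} (ho : Odd (Nat.card π.ker))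
    (hs : Function.Surjective π) (pB : IsPGroup 2 B) {P' V' V₀' : Subgroup X}
    (hB : IsSylowIn 2 (B.map π) P') (n : NS F (B.map π) P' V' V₀') :
    ∃ P V V₀ : Subgroup Γ, NL F B (B ⊓ (pCoreOf 2 P').comap π) P V V₀ ∧ P.map π = P' := by
  obtain ⟨D, d1, d2⟩ := n.nat
  obtain ⟨Q, hQ⟩ : ∃ Q, Q = B ⊓ (pCoreOf 2 P').comap π := ⟨_, rfl⟩
  have mQ : ∀ {x}, x ∈ Q ↔ x ∈ B ∧ π x ∈ pCoreOf 2 P' := by subst hQ; exact Iff.rfl
  rw [← hQ]
  have QB : Q ≤ B := fun x hx => (mQ.1 hx).1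
  have pQ : IsPGroup 2 Q := pB.to_le QB
  have eQ : Q.map π = pCoreOf 2 P' := by
    refine le_antisymm (by rintro _ ⟨x, hx, rfl⟩; exact (mQ.1 hx).2) fun u hu => ?_
    obtain ⟨x, hx, rfl⟩ := hB.pCoreOf_le hu
    exact mem_map_of_mem π (mQ.2 ⟨hx, hu⟩)
  have eP : (P'.comap π ⊓ 𝒩[Q]).map π = P' := by
    refine le_antisymm (by rintro _ ⟨x, hx, rfl⟩; exact hx.1) fun u hu => ?_
    obtain ⟨x, hx, rfl⟩ := sec_norm ho hs pQ (u := u) (by rw [eQ]; exact le_normalizer_pCoreOf _ hu)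
    exact mem_map_of_mem π ⟨hu, hx⟩
  have eV : (Q ⊓ V'.comap π).map π = V' := by
    refine le_antisymm (by rintro _ ⟨x, hx, rfl⟩; exact hx.2) fun u hu => ?_
    obtain ⟨x, hx, rfl⟩ := eQ.ge (n.VQ hu)
    exact mem_map_of_mem π ⟨hx, hu⟩
  have BP' : B ≤ P'.comap π := map_le_iff_le_comap.1 hB.le
  have BP : B ≤ P'.comap π ⊓ 𝒩[Q] := le_inf BP' (hQ ▸ le_normalizer_inf le_normalizer
    (BP'.trans (comap_le_normalizer_comap π (le_normalizer_pCoreOf _))))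
  have hn : P'.comap π ⊓ 𝒩[Q] ≤ 𝒩[Q ⊓ V'.comap π] :=
    le_normalizer_inf inf_le_right (inf_le_left.trans (comap_le_normalizer_comap π D.norm))
  have PQ : P'.comap π ⊓ 𝒩[Q] ≤ 𝒩[Q] := inf_le_right
  have mP : ∀ {x}, x ∈ P'.comap π ⊓ 𝒩[Q] → π x ∈ P' := fun h => h.1
  generalize P'.comap π ⊓ 𝒩[Q] = P at eP BP hn PQ mP
  let D' := D.comap π eP eV rfl hn
  have hφ : ∀ e, D'.φ e = D.φ (π e) := fun _ => rfl
  have mk : ∀ {x}, x ∈ D'.ker ↔ x ∈ P ∧ π x ∈ pCoreOf 2 P' := fun {x} => by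
    rw [D'.mem_ker, hφ, ← d2, D.mem_ker]
    exact and_congr_right fun h => (and_iff_right (mP h)).symm
  refine ⟨P, _, _, ⟨⟨D', ?_, ?_, fun x hx => ?_⟩, pB, BP, PQ, inf_le_left, le_inf ?_ ?_, fun g hg => ?_,
    fun z hz => ?_⟩, eP⟩
  · rw [← d1]
    ext g
    rw [D'.mem_img, D.mem_img]
    constructor
    · rintro ⟨y, hy, hy', rfl⟩
      exact ⟨π y, mP hy, mem_map_of_mem π hy', rfl⟩
    · rintro ⟨_, -, ⟨y, hy, rfl⟩, rfl⟩
      exact ⟨y, BP hy, hy, rfl⟩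
  · ext x
    rw [mem_inf, mk, mQ]
    exact and_congr_right fun h => and_iff_right (BP h)
  · obtain ⟨h1, h2⟩ := mk.1 hx
    obtain ⟨q, hq, e⟩ := eQ.ge h2
    have h3 : q⁻¹ * x ∈ P := mul_mem (inv_mem (BP (QB hq))) h1
    rw [← mul_inv_cancel_left q x]
    refine mul_mem_sup hq ⟨h3, sec_cent ho pQ (PQ h3) ?_⟩
    rw [map_mul, map_inv, e, inv_mul_cancel]
    exact one_mem _
  · exact commutator_le.2 fun q hq g hg => by
      rw [commutatorElement_def, mul_assoc, mul_assoc, ← mul_assoc g]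
      exact mul_mem hq (LAE.conj_mem_of_mem_normalizer (PQ (pResOf_le _ hg)) (inv_mem hq))
  · rw [← map_le_iff_le_comap, Subgroup.map_commutator, eQ, map_pResOf, eP]
    exact n.QK
  · refine sec_cent ho (pQ.to_le (inf_le_left.trans inf_le_left)) (D'.norm₀ (pResOf_le _ hg)) ?_
    have h1 : π g ∈ pResOf 2 P' := by rw [← eP, ← map_pResOf]; exact mem_map_of_mem π hg
    rintro _ ⟨v, hv, rfl⟩
    exact n.K0 h1 _ hv.2
  · have h1 : π z ∈ V' := n.ZV (by rw [← sec_omegaZ ho pB]; exact mem_map_of_mem π hz)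
    exact ⟨mQ.2 ⟨omegaZ_le B hz, n.VQ h1⟩, h1⟩

end CfsgLib.OFP
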