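import Mathlib
import Cfsg.Agent.Lib.OFP.T2Loc
import Cfsg.Agent.Lib.OFP.T2Bot
import Cfsg.Agent.Lib.OFP.T2Nl

set_option autoImplicit false
set_option linter.unusedSectionVars false

namespace CfsgLib.OFP

open Subgroup Cfsg CfsgLib.LAE CfsgLib.Push CfsgLib.Blocks CfsgLib.ZJ
open scoped commutatorElement

variable {Γ : Type*} [Group Γ] [Finite Γ]

variable {S M U T Q O L Z : Subgroup Γ} {I : Set (Subgroup Γ)}

/-- As `sect` (Lg3.lean): `Loc3` passes to `Γ / O` for `L.map π` (`O ≤ L`; `sec_cent`, `sec_norm`, `sec_omegaZ`,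
`sec_bau`, `sec_char`, `sec_mem`); `Loc3.bot`, `sec_nl`. `Q` normalizes `B = bau T` and `π⁻¹(O₂(P'))`. -/
theorem Loc3.exists_nl (h : Loc3 L T Q O Z) :
    ∃ (F : Type) (_ : Field F) (_ : Fintype F) (_ : CharP F 2) (Q' P V V₀ : Subgroup Γ),
      NL F (bau 2 T) Q' P V V₀ ∧ ¬ P ≤ L ∧ ¬ pResOf 2 P ≤ 𝒞[Z] ∧ Q ≤ 𝒩[Q'] := by
  have := h.nO
  have := h.nQ
  let π := QuotientGroup.mk' O
  have hk : π.ker = O := QuotientGroup.ker_mk' O
  have ho : Odd (Nat.card π.ker) := by rw [hk]; exact h.odd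
  have hs : Function.Surjective π := QuotientGroup.mk'_surjective O
  have ht : (⊤ : Subgroup Γ).map π = ⊤ := map_top_of_surjective π hs
  have hO : O.map π = ⊥ := (Subgroup.map_eq_bot_iff _).2 hk.ge
  have pT := h.syl.isPGroup
  have pQ : IsPGroup 2 Q := pT.to_le h.QT
  have pZ : IsPGroup 2 Z := pT.to_le (h.ZT.trans (omegaZ_le T))
  have pB : IsPGroup 2 (bau 2 T) := pT.to_le (bau_le T)
  have hL : Loc3 (L.map π) (T.map π) (Q.map π) ⊥ (Z.map π) := by
    refine ⟨ht ▸ h.syl.map π, map_mono h.QT, h.nQ.map π hs, inferInstance, by simp, bot_le, fun u hu => ?_,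
      sup_le (map_mono (le_sup_left.trans h.TL)) bot_le, fun e => h.nn ?_, fun Y' h1 h2 => ?_, ?_,
      fun u hu => ?_, ?_⟩
    · obtain ⟨x, rfl⟩ := hs u
      rw [← hO, ← Subgroup.map_sup]
      exact mem_map_of_mem π (h.cQ (sec_cent ho pQ (by rw [normalizer_eq_top]; exact mem_top x) hu))
    · rw [← comap_map_eq_self (f := π) (H := L) (hk.le.trans (le_sup_right.trans h.TL)), e, comap_top]
    · have h3 : T ⊔ O ≤ Y'.comap π := by
        rw [← map_le_iff_le_comap, Subgroup.map_sup, hO]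
        exact h1
      have h5 := map_mono (f := π) (h.min _ h3 fun e => h2 (by
        rw [← map_comap_eq_self_of_surjective hs Y', e, ht]))
      rwa [map_comap_eq_self_of_surjective hs] at h5
    · rw [← sec_omegaZ ho pT]
      exact map_mono h.ZT
    · obtain ⟨x, hx, rfl⟩ := sec_norm ho hs pZ (centralizer_le_normalizer _ hu)
      exact mem_map_of_mem π (h.cZ (sec_cent ho pZ hx hu))
    · rw [← sec_bau ho pT]
      intro C' h1 h2 h3 u hu
      have e : (bau 2 T ⊓ C'.comap π).map π = C' := by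
        refine le_antisymm (map_le_iff_le_comap.2 inf_le_right) fun u hu => ?_
        obtain ⟨x, hx, rfl⟩ := h1 hu
        exact ⟨x, ⟨hx, hu⟩, rfl⟩
      rw [← e] at h2 hu
      obtain ⟨x, hx, rfl⟩ := sec_norm ho hs (pB.to_le inf_le_left) hu
      refine mem_map_of_mem π (h.up _ inf_le_left (sec_char ho pB inf_le_left h2) (fun y hy => ⟨hy.1, ?_⟩) hx)
      refine h3 ⟨mem_map_of_mem π hy.1, ?_⟩
      rw [← e]
      exact map_le_centralizer_map π (le_refl _) (mem_map_of_mem π hy.2)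
  obtain ⟨F, i1, i2, i3, P', M', V', V₀', h1, h2, h3, h4, h5⟩ := hL.bot
  rw [← sec_bau ho pT] at h1 h2
  obtain ⟨P, V, V₀, n, rfl⟩ := sec_nl ho hs pB h1.syl h2
  refine ⟨F, i1, i2, i3, _, P, V, V₀, n, fun e => h3 (map_mono e), fun e => h4 ?_, le_normalizer_inf
    (h.QT.trans (le_normalizer.trans (normalizer_le_normalizer_bau T))) fun x hx =>
      le_normalizer_comap π (h5 (mem_map_of_mem π hx))⟩
  rw [← map_pResOf]
  exact map_le_centralizer_map π e

/-- `Mx2.exists_loc`, `Mx2.loc3`, `Loc3.exists_nl` in the type `Y`, `NL.map` along `Y.subtype`. `bad`: if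
`P ≤ CM M Q'`, `Mx2.up` with `N = Q'`, `R = Q ⊔ Q'` (`NL.cQ`) and `mem_CM_of_le` give `P ≤ CM M Q`. -/
theorem Mx2.exists_lf (m : Mx2 S M U T) (g : Gl2 S M I) :
    ∃ (F : Type) (_ : Field F) (_ : Fintype F) (_ : CharP F 2) (Q P V V₀ : Subgroup Γ),
      Lf F ⊤ M S (bau 2 T) Q P V V₀ := by
  obtain ⟨Q, O, Y, h⟩ := m.exists_loc g.SM
  obtain ⟨F, i1, i2, i3, Q', P, V, V₀, n, h1, h2, h3⟩ := (m.loc3 g h).exists_nl
  have pS := g.syl.isPGroup
  have pT := h.syl.isPGroup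
  have hf : Function.Injective Y.subtype := Y.subtype_injective
  have ho : Odd (Nat.card Y.subtype.ker) := by rw [ker_subtype]; simp
  have TY : T ≤ Y := h.syl.le
  have QY : Q ≤ Y := h.QT.trans TY
  have ZT : omegaZ 2 S ≤ omegaZ 2 T := m.Z_le pS
  have ZY : omegaZ 2 S ≤ Y := ZT.trans ((omegaZ_le T).trans TY)
  have eB : (bau 2 (T.subgroupOf Y)).map Y.subtype = bau 2 T := by
    rw [sec_bau ho ((isPGroup_subgroupOf_iff TY).2 pT), map_subgroupOf_eq_of_le TY]
  have n' := n.map hf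
  rw [eB] at n'
  refine ⟨F, i1, i2, i3, _, _, _, _, n', g.syl, g.SM, le_top, m.BS, le_top, ?_, fun e => h2 fun x hx => ?_,
    fun e => h1 fun x hx => ?_, fun R T' pR RM hR pT' BT _ TR => m.hm R pR RM
      (fun e => hR (inf_le_right.trans e)) T' pT' BT TR,
    fun R pR BR RM => inf_le_right.trans (m.ovr R pR BR RM)⟩
  · exact le_omegaZ (elemAb_omegaZ S) (ZT.trans ((omegaZ_le_zj T).trans (zj_le_bau T)))
      fun x hx => centralizer_le (show ((bau 2 T : Subgroup Γ) : Set Γ) ⊆ S from m.BS) (mem_omegaZ.1 hx).2.1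
  · rw [← bas1_cent_map hf, map_subgroupOf_eq_of_le ZY]
    rw [← map_pResOf] at e
    exact e (mem_map_of_mem _ hx)
  · have k1 : Q ≤ 𝒩[Q'.map Y.subtype] := by
      rw [← map_subgroupOf_eq_of_le QY]
      exact map_le_normalizer_map _ h3
    have k2 : Q ⊔ Q'.map Y.subtype ≤ T := sup_le h.QT (n'.QB.trans (bau_le T))
    have k3 : (x : Γ) ∈ P.map Y.subtype := mem_map_of_mem _ hx
    exact mem_CM_of_le le_sup_left (h.nQ x.2) (m.up (pT.to_le k2) (k2.trans h.TM) le_sup_right n'.QB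
      (sup_le k1 le_normalizer) (n'.BP.trans n'.PQ)
      (le_normalizer_sup ((bau_le T).trans (TY.trans h.nQ)) (n'.BP.trans n'.PQ)) n'.cQ
      ⟨le_normalizer_sup ((map_subtype_le P).trans h.nQ) n'.PQ k3, e k3⟩)

/-- Transport from the type `G`: `NL.map`, `mem_CM_map_iff`; every `R ≤ G` is the image of `R.subgroupOf G`. -/
theorem Lf.map_subtype {G : Subgroup Γ} {F : Type} [Field F] {M S B Q P V V₀ : Subgroup G}
    (l : Lf F ⊤ M S B Q P V V₀) :
    Lf F G (M.map G.subtype) (S.map G.subtype) (B.map G.subtype) (Q.map G.subtype) (P.map G.subtype)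
      (V.map G.subtype) (V₀.map G.subtype) := by
  have hf : Function.Injective G.subtype := G.subtype_injective
  have ho : Odd (Nat.card G.subtype.ker) := by rw [ker_subtype]; simp
  have ht : (⊤ : Subgroup G).map G.subtype = G := by rw [← MonoidHom.range_eq_map, range_subtype]
  have key : ∀ R : Subgroup G, G ⊓ 𝒩[R.map G.subtype] ≤ CM (M.map G.subtype) (R.map G.subtype) ↔
      ⊤ ⊓ 𝒩[R] ≤ CM M R := fun R =>
    ⟨fun e x hx => (mem_CM_map_iff hf).1 (e ⟨x.2, (bas1_norm_map hf).2 hx.2⟩), fun e x hx =>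
      (mem_CM_map_iff hf (g := ⟨x, hx.1⟩)).2 (e ⟨mem_top _, (bas1_norm_map hf (x := ⟨x, hx.1⟩)).1 hx.2⟩)⟩
  have ex : ∀ R ≤ G, ∃ R' : Subgroup G, R'.map G.subtype = R := fun R hR =>
    ⟨R.subgroupOf G, map_subgroupOf_eq_of_le hR⟩
  have pg : ∀ R : Subgroup G, IsPGroup 2 (R.map G.subtype) → IsPGroup 2 R := fun R hR =>
    hR.of_equiv (R.equivMapOfInjective _ hf).symm
  refine ⟨l.toNL.map hf, by simpa only [ht] using l.syl.map G.subtype, map_mono l.SM, map_subtype_le _,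
    map_mono l.BS, map_subtype_le _, ?_, fun e => l.nc fun x hx => ?_,
    fun e => l.bad fun x hx => (mem_CM_map_iff hf).1 (e (mem_map_of_mem _ hx)),
    fun R T pR RM hR pT BT TG TR => ?_, fun R pR BR RM => ?_⟩
  · rw [← map_omegaZ hf, ← map_omegaZ hf]
    exact map_mono l.ZB
  · rw [← map_pResOf, ← map_omegaZ hf] at e
    exact (bas1_cent_map hf).1 (e (mem_map_of_mem _ hx))
  · obtain ⟨R, rfl⟩ := ex R (RM.trans (map_subtype_le _))
    obtain ⟨T, rfl⟩ := ex T TG
    rw [← sec_bau ho (pg T pT), l.hm R T (pg R pR) ((map_le_map_iff_of_injective hf).1 RM)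
      (fun e => hR ((key R).2 e)) (pg T pT) ((map_le_map_iff_of_injective hf).1 BT) le_top
      fun x hx => (bas1_norm_map hf).1 (TR (mem_map_of_mem _ hx))]
  · obtain ⟨R, rfl⟩ := ex R (RM.trans (map_subtype_le _))
    exact (key R).2 (l.ovr R (pg R pR) ((map_le_map_iff_of_injective hf).1 BR)
      ((map_le_map_iff_of_injective hf).1 RM))

end CfsgLib.OFP
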