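import Mathlib
import Cfsg.Agent.Lib.OFP.L2c
import Cfsg.Agent.Lib.OFP.T2Defs

set_option autoImplicit false
set_option linter.unusedSectionVars false

namespace CfsgLib.OFP

open Subgroup Cfsg CfsgLib.LAE CfsgLib.Push CfsgLib.Blocks CfsgLib.ZJ CfsgLib.SL2
open scoped commutatorElement MatrixGroups

variable {Γ : Type*} [Group Γ] [Finite Γ]

variable {B Q P V V₀ Z : Subgroup Γ} {F : Type} [Field F] [Fintype F] [CharP F 2]

/-- As `NS.small`; the kernel is now contained in `Q C(Q)`. -/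
theorem NL.small (n : NL F B Q P V V₀) (hq : Fintype.card F = 2) (hZ : Z ≤ omegaZ 2 B)
    (hnc : ¬ pResOf 2 P ≤ 𝒞[Z]) :
    ∃ a w k b : Γ, Sm B Q a w k b ∧ k ∈ P ∧ P ≤ (B ⊔ zpowers k) ⊔ 𝒞[Q] := by
  classical
  obtain ⟨D, hB, hk, hk'⟩ := n.nat
  have two : (1 : F) + 1 = 0 := by rw [one_add_one_eq_two]; exact CharTwo.two_eq_zero
  have f01 : ∀ x : F, x = 0 ∨ x = 1 := fun x => by
    by_contra! k
    have := Finset.card_le_univ ({0, 1, x} : Finset F)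
    rw [Finset.card_eq_three.2 ⟨0, 1, x, zero_ne_one, k.1.symm, k.2.symm, rfl⟩] at this
    omega
  have BP : B ≤ P := n.BP
  have QB : Q ≤ B := hk ▸ inf_le_left
  have QP : Q ≤ P := QB.trans BP
  have PN : P ≤ 𝒩[Q] := n.PQ
  have mQ : ∀ {x}, x ∈ B → (x ∈ Q ↔ D.φ x = 1) := fun hx => by
    rw [← hk, mem_inf, D.mem_ker, and_iff_right hx, and_iff_right (BP hx)]
  have mK : ∀ {x}, x ∈ P → D.φ x = 1 → ∃ q ∈ Q, ∃ c ∈ 𝒞[Q], x = q * c := fun hx e =>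
    (mem_sup_iff_of_left_le_normalizer (le_normalizer_centralizer le_normalizer)).1
      (sup_le_sup_left inf_le_right Q (hk' (D.mem_ker.2 ⟨hx, e⟩)))
  obtain ⟨z, hz, z0⟩ : ∃ z ∈ Z, z ∉ V₀ := by
    by_contra! k
    exact hnc (n.K0.trans (centralizer_le (SetLike.coe_subset_coe.2 k)))
  obtain ⟨zB, zc, z2⟩ := mem_omegaZ.1 (hZ hz)
  have zV := n.ZV (hZ hz)
  obtain ⟨b, bP, bB, hb⟩ := D.mem_img.1 (hB.ge (uu_mem (1 : F)))
  obtain ⟨k₀, k₀P, hk₀⟩ := D.φ_surj (uu 1 * ll 1) (mem_top _)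
  obtain ⟨m, ko⟩ := exists_odd_pow k₀
  have aρ : ∀ v : Fin 2 → F, act (uu 1 * ll 1) v = ![v 1, v 0 + v 1] := fun v => by
    rw [act_mul, act_uu, act_ll]
    exact vec2_ext (by simp [Matrix.vecHead, add_comm (v 1), CharTwo.add_cancel_left])
      (by simp [Matrix.vecHead, Matrix.vecTail, add_comm (v 1)])
  have ρ3 : (uu 1 * ll 1 : SL(2, F)) ^ 3 = 1 := SL2_ext_act fun v => by
    rw [pow_three, act_mul, act_mul (uu 1 * ll 1), aρ, aρ, aρ]
    exact vec2_ext (by simp [add_comm (v 0), CharTwo.add_cancel_left])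
      (by simp [add_comm (v 0), CharTwo.add_cancel_left, CharTwo.add_cancel_right])
  have hk1 : D.φ (k₀ ^ 4 ^ m) = uu 1 * ll 1 := by
    rw [D.φ_pow k₀P, hk₀, pow_eq_pow_mod _ ρ3, Nat.pow_mod]; simp
  have kP := pow_mem k₀P (4 ^ m)
  generalize k₀ ^ 4 ^ m = k at ko hk1 kP
  have kR : k ∈ pResOf 2 P := mem_pResOf kP (Nat.coprime_two_right.2 ko)
  let E : Subgroup Γ := V ⊓ omegaZ 2 Q
  have cE : ∀ {g x}, g ∈ P → x ∈ E → g * x * g⁻¹ ∈ E := fun hg hx =>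
    ⟨conj_mem_of_le_normalizer D.norm hg hx.1,
      conj_mem_of_le_normalizer (PN.trans (normalizer_le_normalizer_omegaZ Q)) hg hx.2⟩
  have EQ : ∀ {x}, x ∈ E → x ∈ Q := fun hx => omegaZ_le Q hx.2
  have Ec : ∀ {x}, x ∈ E → x ∈ 𝒞[Q] := fun hx => omegaZ_le_centralizer Q hx.2
  have Ecm : ∀ {x q}, x ∈ E → q ∈ Q → q * x = x * q := fun hx hq => Ec hx _ hq
  have E2 : ∀ {x}, x ∈ E → x * x = 1 := fun hx => (pow_two _).symm.trans (mem_omegaZ.1 hx.2).2.2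
  have Eck : ∀ {x g}, x ∈ E → g ∈ P → D.φ g = 1 → g * x = x * g := fun {x g} hx hg e => by
    obtain ⟨q, hq, c, hc, rfl⟩ := mK hg e
    rw [mul_assoc, ← hc x (EQ hx), ← mul_assoc, Ecm hx hq, mul_assoc]
  have zE : z ∈ E := ⟨zV, mem_omegaZ.2 ⟨n.VQ zV, centralizer_le (SetLike.coe_subset_coe.2 QB) zc, z2⟩⟩
  have bz : b * z * b⁻¹ = z := by rw [zc b bB, mul_inv_cancel_right]
  have πz : D.π z = ![1, 0] := by
    have k1 := D.π_conj b bP z zV
    rw [bz, hb, eq_comm, act_uu_eq_iff one_ne_zero] at k1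
    refine vec2_ext ((f01 _).resolve_left fun e => z0 ((D.π_eq_zero z zV).1 (vec2_ext e k1))) k1
  obtain ⟨y, hy⟩ : ∃ y, y = k * z * k⁻¹ := ⟨_, rfl⟩
  obtain ⟨x, hx⟩ : ∃ x, x = k * y * k⁻¹ := ⟨_, rfl⟩
  have yE : y ∈ E := hy ▸ cE kP zE
  have xE : x ∈ E := hx ▸ cE kP yE
  have kx : k * x * k⁻¹ = z := by
    have k1 := Eck zE (pow_mem kP 3) (by rw [D.φ_pow kP, hk1, ρ3])
    rw [hx, hy]
    calc _ = k ^ 3 * z * (k ^ 3)⁻¹ := by rw [pow_three]; group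
      _ = z := by rw [k1, mul_inv_cancel_right]
  have πy : D.π y = ![0, 1] := by
    rw [hy, D.π_conj k kP z zV, hk1, πz, aρ]; simp
  have πx : D.π x = ![1, 1] := by
    rw [hx, D.π_conj k kP y yE.1, hk1, πy, aρ]; simp
  obtain ⟨q, qP, hq', e⟩ : ∃ q ∈ P, D.φ q = 1 ∧ b * k * b⁻¹ = k⁻¹ * q := by
    refine ⟨k * (b * k * b⁻¹), mul_mem kP (mul_mem (mul_mem bP kP) (inv_mem bP)), ?_, by group⟩
    rw [D.φ_mul kP (mul_mem (mul_mem bP kP) (inv_mem bP)), D.φ_conj bP kP, hk1, hb, ← uu_neg, CharTwo.neg_eq]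
    refine SL2_ext_act fun v => ?_
    rw [act_mul, aρ, act_mul, act_mul (uu 1) (uu 1 * ll 1), aρ, act_uu, act_uu]
    exact vec2_ext (by simp [CharTwo.add_cancel_right]) (by simp [CharTwo.add_cancel_left, add_assoc])
  have bc : ∀ {u}, u ∈ E → b * (k * u * k⁻¹) * b⁻¹ = k⁻¹ * (b * u * b⁻¹) * k := fun {u} hu => by
    calc _ = b * k * b⁻¹ * (b * u * b⁻¹) * (b * k * b⁻¹)⁻¹ := by group
      _ = k⁻¹ * (q * (b * u * b⁻¹)) * q⁻¹ * k := by rw [e]; group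
      _ = _ := by rw [Eck (cE bP hu) qP hq']; group
  have by' : b * y * b⁻¹ = x := by rw [hy, bc zE, bz, ← kx]; group
  have bx : b * x * b⁻¹ = y := by rw [hx, bc yE, by', hx]; group
  have aE := mul_mem xE zE
  have wE := mul_mem yE xE
  have aw : x * z * (y * x) = z * y := by
    rw [Ecm zE (EQ xE), Ecm xE (EQ yE), mul_assoc, ← mul_assoc x, E2 xE, one_mul]
  have πa : D.π (x * z) = ![0, 1] := by
    rw [D.π_mul _ xE.1 _ zV, πx, πz]; exact vec2_ext (by simp [two]) (by simp)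
  have πw : D.π (y * x) = ![1, 0] := by
    rw [D.π_mul _ yE.1 _ xE.1, πx, πy]; exact vec2_ext (by simp) (by simp [two])
  have kw : k * (y * x) * k⁻¹ = x * z := by rw [← conj_mul, kx, ← hx]
  have ka : k * (x * z) * k⁻¹ = x * z * (y * x) := by rw [← conj_mul, kx, ← hy, aw]
  have ba : b * (x * z) * b⁻¹ = x * z * (y * x) := by rw [← conj_mul, bx, bz, aw, Ecm zE (EQ yE)]
  generalize x * z = a at aE πa kw ka ba
  generalize y * x = w at wE πw kw ka ba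
  have hc : Commute a w := Ecm wE (EQ aE)
  have WE : WW a w ≤ E := WW_le.2 ⟨aE, wE⟩
  have sur : ∀ v : Fin 2 → F, ∃ u ∈ WW a w, D.π u = v := fun v => by
    rcases f01 (v 0) with e0 | e0 <;> rcases f01 (v 1) with e1 | e1
    · exact ⟨1, one_mem _, D.π_one.trans (vec2_ext e0.symm e1.symm)⟩
    · exact ⟨a, left_mem_WW _ _, πa.trans (vec2_ext e0.symm e1.symm)⟩
    · exact ⟨w, right_mem_WW _ _, πw.trans (vec2_ext e0.symm e1.symm)⟩
    · refine ⟨a * w, mul_mem (left_mem_WW _ _) (right_mem_WW _ _), ?_⟩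
      rw [D.π_mul _ aE.1 _ wE.1, πa, πw]
      exact vec2_ext (by simp [e0]) (by simp [e1])
  have blk : Blk Q a w k := by
    refine ⟨EQ aE, EQ wE, Ec aE, Ec wE, E2 aE, E2 wE, fun e => ?_, fun e => ?_, PN kP, kw, ka, fun x hx => ?_⟩
    · simpa [e, D.π_one] using congrFun πw 0
    · simpa [e, πw] using congrFun πa 0
    have hv : ⁅k, x⁆ ∈ V := by
      rw [← commutatorElement_inv]
      exact inv_mem (n.QK (commutator_mem_commutator hx kR))
    obtain ⟨u, hu, e1⟩ := sur (D.π ⁅k, x⁆)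
    obtain ⟨v, hv', e2⟩ := l2c_exists_comm (E2 aE) (E2 wE) hc kw ka hu
    have e3 : ⁅k, v⁻¹ * x⁆ = u⁻¹ * ⁅k, x⁆ := by
      calc _ = (k * v * k⁻¹)⁻¹ * (⁅k, x⁆ * v) := by simp only [commutatorElement_def]; group
        _ = v⁻¹ * (u⁻¹ * ⁅k, x⁆ * v) := by rw [e2]; group
        _ = _ := by rw [Ecm (WE hv') (mul_mem (inv_mem (EQ (WE hu))) (n.VQ hv))]; group
    have e4 := (D.π_eq_iff (WE hu).1 hv).1 e1
    have e5 := commute_of_odd ko (x := v⁻¹ * x)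
      (e3 ▸ two_of_mem (n.pB.to_le QB) (n.VQ (D.le e4))) (e3 ▸ (n.K0 kR _ e4).symm)
    exact inv_mul_eq_one.1 (e3.symm.trans e5.commutator_eq) ▸ hu
  refine ⟨a, w, k, b, ⟨blk, n.pB, QB, bB, fun e => ?_, fun x hx => ?_, ba, fun d hd hc => ?_⟩, kP, fun x hx => ?_⟩
  · exact one_ne_zero (uu_eq_one_iff.1 (hb ▸ (mQ bB).1 e))
  · obtain ⟨c, e⟩ := hB.le (D.φ_mem_img (BP hx) hx)
    rw [mQ hx, mQ (mul_mem hx bB), D.φ_mul (BP hx) bP, e, hb, ← uu_add, uu_eq_one_iff, uu_eq_one_iff]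
    exact (f01 c).imp_right fun e => by rw [e, two]
  · have hd' := conj_mem_of_le_normalizer PN bP hd
    have e1 : ⁅k, b * d * b⁻¹⁆ = ⁅q, b * d * b⁻¹⁆ := by
      have e2 : k⁻¹ * q * (b * d * b⁻¹) = b * d * b⁻¹ * (k⁻¹ * q) := by rw [← e, conj_mul, conj_mul, hc.eq]
      calc _ = k * (b * d * b⁻¹ * (k⁻¹ * q)) * q⁻¹ * (b * d * b⁻¹)⁻¹ := by
            simp only [commutatorElement_def]; group
        _ = _ := by rw [← e2]; simp only [commutatorElement_def]; group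
    obtain ⟨q₀, hq₀, c, hc', rfl⟩ := mK qP hq'
    have e3 : ⁅q₀ * c, b * d * b⁻¹⁆ = ⁅q₀, b * d * b⁻¹⁆ := by
      have e4 := hc' _ hd'
      generalize b * d * b⁻¹ = y at e4
      calc _ = q₀ * (c * y) * c⁻¹ * q₀⁻¹ * y⁻¹ := by simp only [commutatorElement_def]; group
        _ = _ := by rw [← e4]; simp only [commutatorElement_def]; group
    rw [e3] at e1
    exact commutatorElement_eq_one_iff_commute.1 (e1 ▸ blk.comm_eq_one hq₀ hd' (e1 ▸ blk.kQ _ hd'))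
  · have h1 : upU F ≤ D.img (B ⊔ zpowers k) := hB ▸ D.img_mono le_sup_left
    have h2 : loU F ≤ D.img (B ⊔ zpowers k) := by
      rintro _ ⟨c, rfl⟩
      have h3 := mul_mem (inv_mem (h1 (uu_mem 1))) (D.φ_mem_img kP (mem_sup_right (mem_zpowers k)))
      rw [hk1, inv_mul_cancel_left] at h3
      rcases f01 c with rfl | rfl
      · rw [ll_zero]; exact one_mem _
      · exact h3
    have h4 := D.mem_sup_ker hx ((upU_sup_loU.ge.trans (sup_le h1 h2)) (mem_top _))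
    refine (sup_le le_sup_left (hk'.trans (sup_le ?_ ?_))) h4
    · exact QB.trans (le_sup_left.trans le_sup_left)
    · exact inf_le_right.trans le_sup_right

end CfsgLib.OFP
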