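import Mathlib
import Cfsg.Agent.Lib.OFP.T2Main

/-!
Control of the `2`-local subgroups by `M`: the main theorem with both endgames as hypotheses.
-/

set_option autoImplicit false
set_option linter.unusedSectionVars false

namespace CfsgLib.OFP

open Subgroup Cfsg CfsgLib.LAE CfsgLib.Push CfsgLib.Blocks CfsgLib.ZJ
open scoped commutatorElement

variable {Γ : Type*} [Group Γ] [Finite Γ]

/-- The configuration over the field with two elements inside the subgroup `G`. -/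
structure Sm2 (G M S B Q : Subgroup Γ) (a w k b : Γ) : Prop extends Sm B Q a w k b where
  syl : IsSylowIn 2 S G
  BS : B ≤ S
  kG : k ∈ G
  kM : k ∉ CM M Q
  bad : ∀ C : Subgroup Γ, WW a w ≤ C → C ≤ Q → B ⊓ 𝒞[C] ≤ C → B ≤ 𝒩[C] → ¬ G ⊓ 𝒩[C] ≤ CM M C
  hm : ∀ (U T : Subgroup Γ) (k' : Γ), Q ≤ U → U ≤ S → k' ∈ G → k' ∈ 𝒩[U] → k'⁻¹ * k ∈ 𝒞[Q] → IsPGroup 2 T →
    T ≤ G → B ≤ T → T ≤ 𝒩[U] → bau 2 T = B
  hc : ∀ C T : Subgroup Γ, WW a w ≤ C → C ≤ Q → B ⊓ 𝒞[C] ≤ C → T ≤ S → B ≤ T → T ≤ 𝒩[C] → bau 2 T = B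

/-- Either an element of `N_S(B)` moves `W` out of `Q`, or `B` is the Baumann subgroup of `S`. -/
theorem Sm2.cases {G M S B Q : Subgroup Γ} {a w k b : Γ} (h : Sm2 G M S B Q a w k b) :
    (∃ σ ∈ S, σ ∈ 𝒩[B] ∧ ¬ conjS σ (WW a w) ≤ Q) ∨
      (bau 2 S = B ∧ ∀ σ ∈ S, conjS σ (WW a w) ≤ Q) := by
  by_cases h1 : ∀ σ ∈ S ⊓ 𝒩[B], conjS σ (WW a w) ≤ Q
  swap
  · push Not at h1
    obtain ⟨σ, hσ, hC⟩ := h1
    exact Or.inl ⟨σ, hσ.1, hσ.2, hC⟩
  obtain ⟨C, c1, c2, c3, c4⟩ := Cop.cf2_core h.toSm inf_le_right h1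
  have e := h.hc C _ c1 c2 c3 inf_le_left (le_inf h.BS le_normalizer) c4
  have hSB : S ≤ S ⊓ 𝒩[B] := by
    by_contra hn
    obtain ⟨y, y1, y2, y3, -⟩ := end1_exists_norm h.syl.isPGroup inf_le_left hn
    have := normalizer_le_normalizer_bau (p := 2) _ y2
    rw [e] at this
    exact y3 ⟨y1, this⟩
  rw [le_antisymm inf_le_left hSB] at e h1
  exact Or.inr ⟨e, h1⟩

/-- In the first case the final configuration `Ed` arises. -/
theorem Sm2.exists_ed {G M S B Q : Subgroup Γ} {a w k b σ : Γ} (h : Sm2 G M S B Q a w k b) (σS : σ ∈ S)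
    (hσ : σ ∈ 𝒩[B]) (hC : ¬ conjS σ (WW a w) ≤ Q) :
    ∃ (aG : a ∈ G) (wG : w ∈ G) (bG : σ * a * σ⁻¹ ∈ G) (σG : σ ∈ G),
      CfA (S.subgroupOf G) (B.subgroupOf G) (Q.subgroupOf G) ⟨a, aG⟩ ⟨w, wG⟩ ⟨k, h.kG⟩ ⟨σ * a * σ⁻¹, bG⟩ ⟨σ, σG⟩ ∧
      ∃ D : Subgroup Γ, Ed S D a (σ * a * σ⁻¹) w σ := by
  obtain ⟨h1, h2, h3, h4⟩ := Cop.cf2_swap h.toSm hσ hC
  have h' := h.toSm.change h2 h3
  have hS := h.syl
  have BG : B ≤ G := h.BS.trans hS.le
  have QG : Q ≤ G := h.QB.trans BG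
  have hf := G.subtype_injective
  have eS : (S.subgroupOf G).map G.subtype = S := map_subgroupOf_eq_of_le hS.le
  have eB : (B.subgroupOf G).map G.subtype = B := map_subgroupOf_eq_of_le BG
  have eQ : (Q.subgroupOf G).map G.subtype = Q := map_subgroupOf_eq_of_le QG
  have ho : Odd (Nat.card G.subtype.ker) := by rw [ker_subtype, card_bot]; exact odd_one
  have c : CfA (S.subgroupOf G) (B.subgroupOf G) (Q.subgroupOf G) ⟨a, QG h.aQ⟩ ⟨w, QG h.wQ⟩ ⟨k, h.kG⟩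
      ⟨σ * a * σ⁻¹, BG h2⟩ ⟨σ, hS.le σS⟩ := by
    refine ⟨Cop.cf2_sm hf (by rw [eB, eQ]; exact h'), subgroupOf_self G ▸ hS.subgroupOf le_rfl,
      comap_mono h.BS, ?_, fun d hd hc => Cop.cf2_comm hf (h4 _ hd (hc.map G.subtype)), σS,
      Cop.cf2_norm hf (by rw [eB]; exact hσ), Subtype.ext h1, rfl⟩
    intro U T k' u1 u2 u3 u4 pT t1 t2
    refine map_injective hf ?_
    rw [sec_bau ho pT, eB]
    refine h.hm (U.map G.subtype) _ k' (eQ ▸ map_mono u1) (eS ▸ map_mono u2) k'.2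
      (le_normalizer_map G.subtype (mem_map_of_mem _ u3)) ?_ (pT.map _) (map_subtype_le T) (eB ▸ map_mono t1)
      ((map_mono t2).trans (le_normalizer_map G.subtype))
    have := Cop.cf2_cent' (f := G.subtype) u4
    rwa [eQ] at this
  obtain ⟨D, hD⟩ := c.exists_ed
  have := Cop.cf2_ed hf hD
  rw [eS] at this
  exact ⟨_, _, _, _, c, _, this⟩

theorem step2g {A G S M : Subgroup Γ} (hS : IsSylowIn 2 S G) (SM : S ≤ M) (MG : M ≤ G) (AS : A ≤ 𝒩[S])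
    (inv : ∀ C ≤ S, C ≠ ⊥ → S ≤ 𝒩[C] → A ≤ 𝒩[C] → G ⊓ 𝒩[C] ≤ CM M C)
    (cz : ∀ R ≤ S, G ⊓ 𝒞[omegaZ 2 S] ⊓ 𝒩[R] ≤ CM M R)
    (small : ∀ (F : Type) [Field F] [Fintype F] [CharP F 2] (B Q P V V₀ : Subgroup Γ) (a w k b : Γ),
      Lf F G M S B Q P V V₀ → Fintype.card F = 2 → k ∈ P → Sm2 G M S B Q a w k b → False)
    (big : ∀ (F : Type) [Field F] [Fintype F] [CharP F 2] (B Q P V V₀ : Subgroup Γ),
      Lf F G M S B Q P V V₀ → 2 < Fintype.card F → Cop.BigE B G (omegaZ 2 S) → False) :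
    ∀ U ≤ S, G ⊓ 𝒩[U] ≤ CM M U := by
  intro U₀ US
  by_contra hbad
  have hf := G.subtype_injective
  have ho : Odd (Nat.card G.subtype.ker) := by rw [ker_subtype]; simp
  have pS := hS.isPGroup
  have SG := hS.le
  obtain ⟨S, rfl⟩ : ∃ S' : Subgroup G, S'.map G.subtype = S := ⟨_, map_subgroupOf_eq_of_le SG⟩
  obtain ⟨M, rfl⟩ : ∃ M' : Subgroup G, M'.map G.subtype = M := ⟨_, map_subgroupOf_eq_of_le MG⟩
  have sub : ∀ C ≤ G, ∃ C' : Subgroup G, C'.map G.subtype = C := fun C h => ⟨_, map_subgroupOf_eq_of_le h⟩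
  have ml : ∀ {C D : Subgroup G}, C.map G.subtype ≤ D.map G.subtype ↔ C ≤ D :=
    map_le_map_iff_of_injective hf
  obtain ⟨U₀, rfl⟩ := sub U₀ (US.trans SG)
  have hS' : IsSylowIn 2 S ⊤ := by
    have := hS.subgroupOf le_rfl
    rwa [subgroupOf_self, subgroupOf, comap_map_eq_self_of_injective hf] at this
  have SM' : S ≤ M := ml.1 SM
  have g : Gl2 S M {C | A ≤ 𝒩[C.map G.subtype]} := by
    refine ⟨hS', SM', fun C h1 h2 h3 => ?_, fun C h1 h2 => ?_, fun R hR x hx => ?_⟩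
    · by_cases e : C = ⊥
      · rw [e]; exact gd_bot
      exact gd_map_iff.2 (inv _ (map_mono h1) (fun e' => e ((map_eq_bot_iff_of_injective C hf).1 e'))
        (map_le_normalizer_map _ h2) h3)
    · have h3 := lg3_char hf h2
      have h4 : C.map G.subtype ≤ (bau 2 S).map G.subtype := map_mono h1
      have h5 := normalizer_le_of_characteristic ((C.map G.subtype).subgroupOf ((bau 2 S).map G.subtype))
      rw [map_subgroupOf_eq_of_le h4, sec_bau ho hS'.isPGroup] at h5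
      exact AS.trans ((normalizer_le_normalizer_bau _).trans h5)
    · refine (mem_CM_map_iff hf).1 (cz _ (map_mono hR) ⟨⟨x.2, ?_⟩, (bas1_norm_map hf).2 hx.2⟩)
      rw [← map_omegaZ hf]
      exact (bas1_cent_map hf).2 hx.1
  obtain ⟨U, T, m⟩ := exists_mx2 g
    ⟨U₀, hS'.isPGroup.to_le (ml.1 US), (ml.1 US).trans SM', fun h => hbad (gd_map_iff.1 h)⟩
  obtain ⟨F, _, _, _, Q, P, V, V₀, l⟩ := m.exists_lf g
  have l' := l.map_subtype
  rcases (show 2 ≤ Fintype.card F from Fintype.one_lt_card).eq_or_lt with hq | hq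
  swap
  · exact big F _ _ _ _ _ l' hq (Cop.lf_bigE l' hq)
  obtain ⟨a, w, k, b, s, kP, hP⟩ := l.toNL.small hq.symm l.ZB l.nc
  have hk : k ∉ CM M Q := fun h => l.bad (hP.trans (sup_le
    (sup_le (le_CM (l.BS.trans SM') s.QN) (zpowers_le.2 h)) cent_le_CM))
  have s' := lg3_sm hf s
  have hk' : G.subtype k ∉ CM (M.map G.subtype) (Q.map G.subtype) := fun h => hk ((mem_CM_map_iff hf).1 h)
  have bad : ∀ C : Subgroup Γ, WW (G.subtype a) (G.subtype w) ≤ C → C ≤ Q.map G.subtype →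
      (bau 2 T).map G.subtype ⊓ 𝒞[C] ≤ C → (bau 2 T).map G.subtype ≤ 𝒩[C] →
      ¬ G ⊓ 𝒩[C] ≤ CM (M.map G.subtype) C := by
    intro C h1 h2 h3 h4 h
    obtain ⟨C, rfl⟩ := sub C (h2.trans (map_subtype_le _))
    rw [← Cop.cf2_WW] at h1
    exact m.bad_of SM' s hk (ml.1 h1) (ml.1 h2)
      (fun x hx => (mem_map_iff_mem hf).1 (h3 ⟨mem_map_of_mem _ hx.1, (bas1_cent_map hf).2 hx.2⟩))
      (fun x hx => (bas1_norm_map hf).1 (h4 (mem_map_of_mem _ hx))) (gd_map_iff.2 h)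
  have QS := s'.QB.trans l'.BS
  exact small F _ _ _ _ _ _ _ _ _ l' hq.symm (mem_map_of_mem _ kP) ⟨s', hS, l'.BS, k.2, hk', bad,
    (fun R T' k' h1 h2 h3 h4 h5 h6 h7 h8 h9 => l'.hm R T' (pS.to_le h2) (h2.trans SM) (fun h => hk' (by
      have h10 : k' ∈ 𝒩[Q.map G.subtype] := by
        simpa using mul_mem s'.kN (inv_mem (centralizer_le_normalizer _ h5))
      simpa using mul_mem (mem_CM_of_le h1 h10 (h ⟨h3, h4⟩)) (cent_le_CM h5))) h6 h8 h7 h9),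
    (fun C T' h1 h2 h3 h4 h5 h6 => l'.hm C T' (pS.to_le (h2.trans QS)) ((h2.trans QS).trans SM)
      (bad C h1 h2 h3 (h5.trans h6)) (pS.to_le h4) h5 (h4.trans SG) h6)⟩

end CfsgLib.OFP
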