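import Mathlib
import Cfsg.Agent.Lib.OFP.EndA
import Cfsg.Agent.Lib.Coprime.Glauberman

/-!
The final configuration `Ed` with an operator group of odd order: a conjugate of `a` has a commuting orbit.
-/

set_option autoImplicit false
set_option linter.unusedSectionVars false

namespace CfsgLib.OFP

open Subgroup Cfsg CfsgLib.LAE CfsgLib.Push CfsgLib.Blocks CfsgLib.ZJ
open scoped commutatorElement

variable {Γ : Type*} [Group Γ] [Finite Γ]

variable {S D A : Subgroup Γ} {a b w t c x g v v' y : Γ}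

/-- The dihedral tower over `⟨a, w⟩`. -/
structure Tw (S D : Subgroup Γ) (a w c x : Γ) : Prop where
  pS : IsPGroup 2 S
  aS : a ∈ S
  xS : x ∈ S
  DS : D ≤ S
  aa : a * a = 1
  ww : w * w = 1
  w1 : w ≠ 1
  aw : Commute a w
  cx : c ∈ zpowers x
  cc : c * c = w
  ax : a * x * a⁻¹ = x⁻¹
  nx : ∀ y ∈ S, Commute y w → y ∈ 𝒩[zpowers x]
  ya : ∀ y ∈ S, Commute y w → a⁻¹ * (y * a * y⁻¹) ∈ zpowers x
  ex : ∃ σ ∈ S, Commute σ w ∧ σ * a * σ⁻¹ = a * x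
  Da : ∀ d ∈ D, Commute a d
  Dw : ∀ d ∈ D, Commute w d
  Dc : ∀ d ∈ D, Commute c d
  wD : w ∉ D
  cQ : ∀ y ∈ S, Commute a y → Commute w y → ∃ u ∈ WW a w, ∃ d ∈ D, y = u * d

theorem Ed.exists_tw (h : Ed S D a b w t) : ∃ x, Tw S D a w (a * b) x := by
  obtain ⟨x, hx, hmax⟩ := Set.exists_max_image {x | Good S D a b w x} orderOf (Set.toFinite _) ⟨_, h.good⟩
  obtain ⟨L, hL⟩ := exists_Sg S a w x
  have mL : ∀ {z : Γ}, z ∈ L ↔ z ∈ Sg S a w x := fun {z} => by rw [← hL]; rfl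
  have mC : ∀ {z : Γ}, z ∈ S ⊓ centralizer {w} ↔ z ∈ S ∧ Commute z w := fun {z} => by
    rw [mem_inf, mem_centralizer_singleton_iff]; rfl
  have hCL : S ⊓ centralizer {w} ≤ L := by
    by_contra hne
    obtain ⟨z, hz, hn, hzL, h2⟩ := end1_exists_norm (h.pS.to_le inf_le_left)
      (fun z hz => mC.2 ⟨(mL.1 hz).1, (mL.1 hz).2.1⟩) hne
    obtain ⟨zS, zw⟩ := mC.1 hz
    have vL := mL.1 (end1_conj_mem hn (mL.2 (Good.a_mem h hx)))
    obtain ⟨i, hi⟩ := mem_zpowers_iff.1 vL.2.2.2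
    have e : z * a * z⁻¹ * a * (z * a * z⁻¹)⁻¹ = a * x ^ i := by rw [hi, mul_inv_cancel_left]
    rcases Int.even_or_odd i with hi | hi
    · exact hzL (Good.even h hx hL zS zw hn hi e)
    · obtain ⟨g1, g2⟩ := Good.odd h hx hL zS zw hn h2 hi e
      exact absurd (hmax _ g1) (not_le.2 g2)
  obtain ⟨σ, hσ, e⟩ := hx.ex
  exact ⟨x, h.pS, h.aS, hx.xS, h.DS, h.aa, h.ww, h.w1, h.aw, hx.cx, h.cc, hx.ax,
    fun y h1 h2 => (mL.1 (hCL (mC.2 ⟨h1, h2⟩))).2.2.1, fun y h1 h2 => (mL.1 (hCL (mC.2 ⟨h1, h2⟩))).2.2.2,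
    ⟨σ, hσ.1, hσ.2.1, e⟩, h.Da, fun _ hd => h.Dw hd, fun d hd => (h.Da d hd).mul_left (h.Db d hd), h.wD, h.cQ⟩

theorem endN_comm {u z : Γ} (g : Γ) (h : Commute u z) : Commute (g * u * g⁻¹) (g * z * g⁻¹) := by
  simpa using h.map (MulAut.conj g)

theorem endN_comm' {u z : Γ} (h : Commute (g * u * g⁻¹) z) : Commute u (g⁻¹ * z * g) := by
  have := endN_comm g⁻¹ h
  simpa [mul_assoc] using this

theorem endN_zp {u : Γ} (h : u ∈ zpowers x) (g : Γ) : g * u * g⁻¹ ∈ zpowers (g * x * g⁻¹) := by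
  obtain ⟨k, rfl⟩ := mem_zpowers_iff.1 h
  rw [← conj_zpow]
  exact zpow_mem (mem_zpowers _) k

namespace Tw

theorem conj (h : Tw S D a w c x) (hg : g ∈ 𝒩[S]) :
    Tw S (conjS g D) (g * a * g⁻¹) (g * w * g⁻¹) (g * c * g⁻¹) (g * x * g⁻¹) := by
  have m := fun {u : Γ} (hu : u ∈ S) => end1_conj_mem hg hu
  have m' := fun {u : Γ} (hu : u ∈ S) => end1_conj_mem' hg hu
  have cj : ∀ u z : Γ, g * u * g⁻¹ * (g * z * g⁻¹) = g * (u * z) * g⁻¹ := fun u z => by group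
  obtain ⟨σ, h1, h2, h3⟩ := h.ex
  refine ⟨h.pS, m h.aS, m h.xS, conjS_le_iff_forall.2 fun d hd => m (h.DS hd), by rw [cj, h.aa]; simp,
    by rw [cj, h.ww]; simp, fun e => h.w1 (conj_eq_one_iff.1 e), endN_comm g h.aw, endN_zp h.cx g,
    by rw [cj, h.cc], ?_, fun y hy hw => end1_norm_zpowers ?_, fun y hy hw => ?_,
    ⟨g * σ * g⁻¹, m h1, endN_comm g h2, ?_⟩, ?_, ?_, ?_, fun e => h.wD (conj_mem_conjS.1 e), fun y hy h1 h2 => ?_⟩
  · calc _ = g * (a * x * a⁻¹) * g⁻¹ := by group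
      _ = _ := by rw [h.ax]; group
  · have := endN_zp (end1_conj_mem (h.nx _ (m' hy) (endN_comm' hw.symm).symm) (mem_zpowers x)) g
    convert this using 1
    group
  · have := endN_zp (h.ya _ (m' hy) (endN_comm' hw.symm).symm) g
    convert this using 1
    group
  · calc _ = g * (σ * a * σ⁻¹) * g⁻¹ := by group
      _ = _ := by rw [h3]; group
  · rintro _ ⟨d, hd, rfl⟩
    exact endN_comm g (h.Da d hd)
  · rintro _ ⟨d, hd, rfl⟩
    exact endN_comm g (h.Dw d hd)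
  · rintro _ ⟨d, hd, rfl⟩
    exact endN_comm g (h.Dc d hd)
  · obtain ⟨u, hu, d, hd, e⟩ := h.cQ _ (m' hy) (endN_comm' h1) (endN_comm' h2)
    refine ⟨g * u * g⁻¹, ?_, g * d * g⁻¹, conj_mem_conjS.2 hd, by rw [cj, ← e]; group⟩
    have aa : g * a * g⁻¹ * (g * a * g⁻¹) = 1 := by rw [cj, h.aa]; simp
    have ww : g * w * g⁻¹ * (g * w * g⁻¹) = 1 := by rw [cj, h.ww]; simp
    rw [mem_WW aa ww (endN_comm g h.aw)]
    rcases (mem_WW h.aa h.ww h.aw).1 hu with rfl | rfl | rfl | rfl <;> simp [cj]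

theorem conj' (h : Tw S D a w c x) (hg : g ∈ 𝒩[S]) (hw : g * w * g⁻¹ = w) :
    Tw S (conjS g D) (g * a * g⁻¹) w (g * c * g⁻¹) (g * x * g⁻¹) := by
  have := h.conj hg
  rwa [hw] at this

theorem wx (h : Tw S D a w c x) : w ∈ zpowers x := h.cc ▸ mul_mem h.cx h.cx

theorem ia (h : Tw S D a w c x) : a⁻¹ = a := inv_eq_of_mul_eq_one_right h.aa

theorem xw (h : Tw S D a w c x) : Commute x w := end1_comm (mem_zpowers x) h.wx

/-- A non-trivial element of `⟨x⟩` has `w` among its powers. -/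
theorem pow_w (h : Tw S D a w c x) (hy : y ∈ zpowers x) (h1 : y ≠ 1) : ∃ n : ℕ, y ^ n = w := by
  obtain ⟨n, n1, n2⟩ := (two_of_mem h.pS (zpowers_le.2 h.xS hy)).exists_inv h1
  exact ⟨n, (end1_inv_unique (pow_mem hy n) h.wx n2 h.ww h.w1).resolve_left n1⟩

theorem eq_one {E : Subgroup Γ} (h : Tw S D a w c x) (hy : y ∈ zpowers x) (hE : y ∈ E) (wE : w ∉ E) : y = 1 := by
  by_contra h1
  obtain ⟨n, e⟩ := h.pow_w hy h1
  exact wE (e ▸ pow_mem hE n)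

theorem ac (h : Tw S D a w c x) : a * c * a⁻¹ = c⁻¹ := by
  obtain ⟨k, e⟩ := mem_zpowers_iff.1 h.cx
  rw [← e, ← conj_zpow, h.ax, inv_zpow]

theorem ne_inv (h : Tw S D a w c x) : c ≠ c⁻¹ := fun e => h.w1 (by rw [← h.cc]; nth_rewrite 1 [e]; simp)

theorem cw (h : Tw S D a w c x) : Commute c w := end1_comm h.cx h.wx

theorem conj_c (h : Tw S D a w c x) (hy : y ∈ S) (hw : Commute y w) : y * c * y⁻¹ = c ∨ y * c * y⁻¹ = c⁻¹ := by
  have h1 : y * c * y⁻¹ ∈ zpowers x := end1_conj_mem (h.nx y hy hw) h.cx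
  have hc : Commute c⁻¹ (y * c * y⁻¹) := end1_comm (inv_mem h.cx) h1
  have e1 : y * c * y⁻¹ * (y * c * y⁻¹) = w := by
    rw [End2.conj_sq, h.cc, hw.eq, mul_inv_cancel_right]
  have e2 : c⁻¹ * (y * c * y⁻¹) * (c⁻¹ * (y * c * y⁻¹)) = 1 := by
    rw [hc.symm.mul_mul_mul_comm, e1, ← mul_inv_rev, h.cc, inv_mul_cancel]
  rcases end1_inv_unique (mul_mem (inv_mem h.cx) h1) h.wx e2 h.ww h.w1 with e | e
  · left
    exact (inv_mul_eq_one.1 e).symm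
  · right
    rw [inv_mul_eq_iff_eq_mul.1 e, eq_inv_iff_mul_eq_one, mul_assoc, ← h.cw.eq, ← mul_assoc, h.cc, h.ww]

theorem WW_comm (h : Tw S D a w c x) {u d : Γ} (hu : u ∈ WW a w) (hd : d ∈ D) : Commute u d := by
  rcases (mem_WW h.aa h.ww h.aw).1 hu with rfl | rfl | rfl | rfl
  exacts [Commute.one_left d, h.Da d hd, h.Dw d hd, (h.Da d hd).mul_left (h.Dw d hd)]

theorem WW_comm' (h : Tw S D a w c x) {u u' : Γ} (hu : u ∈ WW a w) (hu' : u' ∈ WW a w) : Commute u u' := by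
  have : WW a w ≤ 𝒞[WW a w] := WW_le.2 ⟨mem_cent_WW.2 ⟨Commute.refl a, h.aw.symm⟩,
    mem_cent_WW.2 ⟨h.aw, Commute.refl w⟩⟩
  exact this hu' u hu

theorem WW_sq (h : Tw S D a w c x) {u : Γ} (hu : u ∈ WW a w) : u * u = 1 := by
  rcases (mem_WW h.aa h.ww h.aw).1 hu with rfl | rfl | rfl | rfl
  exacts [mul_one 1, h.aa, h.ww, by rw [h.aw.symm.mul_mul_mul_comm, h.aa, h.ww, mul_one]]

/-- The conjugates of `a` over `w` invert `c`. -/
theorem inverts (h : Tw S D a w c x) (hg : g ∈ 𝒩[S]) (hw : g * w * g⁻¹ = w) :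
    g * a * g⁻¹ * c * (g * a * g⁻¹)⁻¹ = c⁻¹ := by
  have hw' : g⁻¹ * w * g⁻¹⁻¹ = w := by nth_rewrite 1 [← hw]; group
  have h' := h.conj' (inv_mem hg) hw'
  rcases h'.conj_c h.aS h.aw with e | e
  · exfalso
    obtain ⟨u, hu, d, hd, e'⟩ := h.cQ _ (zpowers_le.2 h'.xS h'.cx) (mul_inv_eq_iff_eq_mul.1 e) h'.cw.symm
    have := h'.cc
    rw [e', (h.WW_comm hu hd).symm.mul_mul_mul_comm, h.WW_sq hu, one_mul] at this
    exact h.wD (this ▸ mul_mem hd hd)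
  · calc _ = g * (a * (g⁻¹ * c * g⁻¹⁻¹) * a⁻¹) * g⁻¹ := by group
      _ = _ := by rw [e]; group

/-- Two elements commuting with `a` and `w` commute if their commutator lies in a cyclic group over `w`. -/
theorem trans (h : Tw S D a w c x) {D' : Subgroup Γ} {c' x' : Γ} (h' : Tw S D' v w c' x') (hv' : v' ∈ S)
    (hw : Commute v' w) (h1 : Commute a v) (h2 : Commute a v') : Commute v v' := by
  obtain ⟨u, hu, d, hd, e⟩ := h.cQ v h'.aS h1 h'.aw.symm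
  obtain ⟨u', hu', d', hd', e'⟩ := h.cQ v' hv' h2 hw.symm
  have h3 : v⁻¹ * (v' * v * v'⁻¹) = d⁻¹ * (d' * d * d'⁻¹) := by
    have k1 : v' * v * v'⁻¹ = u * (d' * d * d'⁻¹) := by
      have k2 : Commute u' (d' * (u * d) * d'⁻¹) :=
        ((h.WW_comm hu' hd').mul_right ((h.WW_comm' hu' hu).mul_right (h.WW_comm hu' hd))).mul_right
          (h.WW_comm hu' hd').inv_right
      calc _ = u' * (d' * (u * d) * d'⁻¹) * u'⁻¹ := by rw [e, e']; group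
        _ = d' * u * d * d'⁻¹ := by rw [k2.eq]; group
        _ = _ := by rw [← (h.WW_comm hu hd').eq]; group
    rw [k1, e]; group
  have h4 := h'.eq_one (h'.ya v' hv' hw) (h3 ▸ mul_mem (inv_mem hd) (mul_mem (mul_mem hd' hd) (inv_mem hd')))
    h.wD
  exact (mul_inv_eq_iff_eq_mul.1 (inv_mul_eq_one.1 h4).symm).symm

theorem xa (h : Tw S D a w c x) (j : ℤ) : x ^ j * a = a * x ^ (-j) := by
  have : a * x ^ (-j) * a⁻¹ = x ^ j := by rw [← conj_zpow, h.ax]; simp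
  rw [← this]; group

theorem dec (h : Tw S D a w c x) (hy : y ∈ S) (hw : Commute y w) {j : ℤ} (e : y * a * y⁻¹ = a * x ^ (j + j)) :
    ∃ u ∈ WW a w, ∃ d ∈ D, y = x ^ (-j) * (u * d) := by
  have h1 : x ^ j * y * a * (x ^ j * y)⁻¹ = a := by
    calc _ = x ^ j * (y * a * y⁻¹) * (x ^ j)⁻¹ := by group
      _ = x ^ j * a * x ^ j := by rw [e]; group
      _ = a := by rw [h.xa]; group
  obtain ⟨u, hu, d, hd, e'⟩ := h.cQ (x ^ j * y) (mul_mem (zpow_mem h.xS j) hy) (mul_inv_eq_iff_eq_mul.1 h1).symm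
    ((h.xw.symm.zpow_right j).mul_right hw.symm)
  exact ⟨u, hu, d, hd, by rw [← e']; group⟩

theorem conj_ax (h : Tw S D a w c x) (m : ℤ) : ∃ s ∈ S, Commute s w ∧ s * a * s⁻¹ = a * x ^ m := by
  obtain ⟨l, rfl | rfl⟩ := Int.even_or_odd' m
  · refine ⟨x ^ (-l), zpow_mem h.xS _, h.xw.zpow_left _, ?_⟩
    rw [h.xa]; group
  · obtain ⟨σ, h1, h2, h3⟩ := h.ex
    refine ⟨x ^ (-l) * σ, mul_mem (zpow_mem h.xS _) h1, (h.xw.zpow_left _).mul_left h2, ?_⟩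
    calc _ = x ^ (-l) * (σ * a * σ⁻¹) * (x ^ (-l))⁻¹ := by group
      _ = x ^ (-l) * a * x * x ^ l := by rw [h3]; group
      _ = _ := by rw [h.xa]; group

theorem even (h : Tw S D a w c x) (hv : v ∈ S) (hw : Commute v w) (vv : v * v = 1) (vc : v * c * v⁻¹ = c⁻¹)
    {j : ℤ} (e : v * a * v⁻¹ = a * x ^ (j + j)) : ∃ s ∈ S, Commute s w ∧ Commute (s * a * s⁻¹) v := by
  obtain ⟨u, hu, d, hd, e'⟩ := h.dec hv hw e
  obtain ⟨k, hk⟩ := mem_zpowers_iff.1 h.wx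
  have xc : Commute (x ^ (-j)) c := end1_comm (zpow_mem (mem_zpowers x) _) h.cx
  obtain ⟨m, hm⟩ : ∃ m : ℤ, x ^ (-j) * u = a * x ^ m := by
    rcases (mem_WW h.aa h.ww h.aw).1 hu with rfl | rfl | rfl | rfl
    · exact absurd ((mul_inv_eq_iff_eq_mul.2 (by
        rw [e']; exact (xc.mul_left ((Commute.one_left c).mul_left (h.Dc d hd).symm)).eq)).symm.trans vc) h.ne_inv
    · exact ⟨- -j, h.xa _⟩
    · exact absurd ((mul_inv_eq_iff_eq_mul.2 (by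
        rw [e']; exact (xc.mul_left (h.cw.symm.mul_left (h.Dc d hd).symm)).eq)).symm.trans vc) h.ne_inv
    · exact ⟨j + k, by rw [← mul_assoc, h.xa, ← hk]; group⟩
  rw [← mul_assoc, hm] at e'
  obtain ⟨s, h1, h2, h3⟩ := h.conj_ax m
  refine ⟨s, h1, h2, ?_⟩
  have h4 : d * x ^ m * d⁻¹ ∈ zpowers x :=
    end1_conj_mem (h.nx d (h.DS hd) (h.Dw d hd).symm) (zpow_mem (mem_zpowers x) m)
  have h5 : x ^ (-m) * (d * x ^ m * d⁻¹) * (d * d) = 1 := by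
    calc _ = (x ^ (-m) * a) * (a * d) * x ^ m * d := by
          rw [mul_assoc (x ^ (-m)) a, ← mul_assoc a, h.aa]; group
      _ = a * x ^ m * d * (a * x ^ m * d) := by rw [h.xa, (h.Da d hd).eq]; group
      _ = 1 := by rw [← e', vv]
  have h6 : d * d = 1 := h.eq_one (by
    rw [eq_inv_of_mul_eq_one_right h5]
    exact inv_mem (mul_mem (zpow_mem (mem_zpowers x) _) h4)) (mul_mem hd hd) h.wD
  rw [h6, mul_one, zpow_neg, inv_mul_eq_one, eq_comm, mul_inv_eq_iff_eq_mul] at h5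
  rw [h3, e']
  exact (Commute.refl _).mul_right ((h.Da d hd).mul_left (Commute.symm h5))

theorem conj_odd (h : Tw S D a w c x) (hy : y ∈ S) (hw : Commute y w) : ∃ e : ℤ, y * x * y⁻¹ = x ^ (2 * e + 1) := by
  obtain ⟨k, hk⟩ := mem_zpowers_iff.1 (end1_conj_mem (h.nx y hy hw) (mem_zpowers x))
  obtain ⟨e, rfl | rfl⟩ := Int.even_or_odd' k
  · exfalso
    have h1 : ∀ n : ℕ, y ^ n * x * (y ^ n)⁻¹ = x ^ ((2 * e) ^ n) := fun n => by
      induction n with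
      | zero => simp
      | succ n ih =>
        calc _ = y * (y ^ n * x * (y ^ n)⁻¹) * y⁻¹ := by rw [pow_succ']; group
          _ = _ := by rw [ih, ← conj_zpow, ← hk, ← zpow_mul, pow_succ']
    obtain ⟨n, hn⟩ := two_of_mem h.pS h.xS
    have h2 := h1 n
    have h3 : x ^ ((2 : ℤ) ^ n) = 1 := by exact_mod_cast hn
    rw [mul_pow, zpow_mul, h3, one_zpow, conj_eq_one_iff] at h2
    have h4 := h.wx
    rw [h2, zpowers_one_eq_bot, mem_bot] at h4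
    exact h.w1 h4
  · exact ⟨e, hk.symm⟩

theorem odd2 (h : Tw S D a w c x) {D' : Subgroup Γ} {c' x' : Γ} (h' : Tw S D' v w c' x')
    (ho : orderOf x' = orderOf x) (hv' : v' ∈ S) (hw' : Commute v' w) (vv' : v' * v' = 1)
    (vc : v * c * v⁻¹ = c⁻¹) (vc' : v' * c * v'⁻¹ = c⁻¹) {i i' : ℤ} (e : v * a * v⁻¹ = a * x ^ (2 * i + 1))
    (e' : v' * a * v'⁻¹ = a * x ^ (2 * i' + 1)) : ∃ j : ℤ, v' * v * v'⁻¹ = v * x' ^ (j + j) := by
  have iv' : v'⁻¹ = v' := inv_eq_of_mul_eq_one_right vv'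
  have h1 : x ^ (2 * i + 1) ∈ zpowers x' := by
    have := inv_mem (h'.ya a h.aS h.aw)
    convert this using 1
    rw [← inv_mul_eq_iff_eq_mul] at e
    rw [← e]
    simp only [mul_inv_rev, h.ia, h'.ia, mul_assoc]
  have h2 : zpowers x ≤ zpowers x' := by
    obtain ⟨m, hm⟩ := end1_odd_inv (two_of_mem h.pS h.xS) (k := 2 * i + 1) ⟨i, rfl⟩
    rw [zpowers_le, ← hm, zpow_mul]
    exact zpow_mem h1 m
  have h3 : zpowers x = zpowers x' := eq_of_le_of_card_ge h2 (by rw [Nat.card_zpowers, Nat.card_zpowers, ho])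
  obtain ⟨ε, hε⟩ := h.conj_odd h'.aS h'.aw
  have yS := mul_mem h'.aS hv'
  have yw := h'.aw.mul_left hw'
  have h4 : v * v' * a * (v * v')⁻¹ = a * x ^ ((i + ε + i' + 2 * ε * i' + 1) + (i + ε + i' + 2 * ε * i' + 1)) := by
    calc _ = v * (v' * a * v'⁻¹) * v⁻¹ := by group
      _ = v * a * v⁻¹ * (v * x * v⁻¹) ^ (2 * i' + 1) := by rw [e', conj_zpow]; group
      _ = _ := by rw [e, hε, ← zpow_mul, mul_assoc, ← zpow_add]; congr 2; ring
  obtain ⟨u, hu, d, hd, e1⟩ := h.dec yS yw h4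
  generalize i + ε + i' + 2 * ε * i' + 1 = j at e1
  obtain ⟨k, hk⟩ := mem_zpowers_iff.1 h.wx
  have xc : Commute (x ^ (-j)) c := end1_comm (zpow_mem (mem_zpowers x) _) h.cx
  have yc : v * v' * c * (v * v')⁻¹ = c := by
    calc _ = v * (v' * c * v'⁻¹) * v⁻¹ := by group
      _ = (v * c * v⁻¹)⁻¹ := by rw [vc']; group
      _ = c := by rw [vc, inv_inv]
  have uc : u * c * u⁻¹ = c := by
    have k1 : x ^ (-j) * (u * c * u⁻¹) * (x ^ (-j))⁻¹ = x ^ (-j) * c * (x ^ (-j))⁻¹ := by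
      calc _ = x ^ (-j) * (u * (d * c * d⁻¹) * u⁻¹) * (x ^ (-j))⁻¹ := by
            rw [← (h.Dc d hd).eq, mul_inv_cancel_right]
        _ = v * v' * c * (v * v')⁻¹ := by rw [e1]; group
        _ = _ := by rw [yc, xc.eq, mul_inv_cancel_right]
    exact mul_left_cancel (mul_right_cancel k1)
  obtain ⟨m, hm⟩ : ∃ m : ℤ, x ^ (-j) * u = x ^ m := by
    rcases (mem_WW h.aa h.ww h.aw).1 hu with rfl | rfl | rfl | rfl
    · exact ⟨-j, mul_one _⟩
    · exact absurd (uc.symm.trans h.ac) h.ne_inv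
    · exact ⟨-j + k, by rw [zpow_add, hk]⟩
    · refine absurd (uc.symm.trans ?_) h.ne_inv
      calc _ = a * (w * c * w⁻¹) * a⁻¹ := by group
        _ = _ := by rw [← h.cw.eq, mul_inv_cancel_right, h.ac]
  rw [← mul_assoc, hm] at e1
  obtain ⟨δ, hδ⟩ := h.conj_odd (h.DS hd) (h.Dw d hd).symm
  have h5 : v⁻¹ * (v' * v * v'⁻¹) = x ^ ((δ + 1) * m + (δ + 1) * m) * (d * d) := by
    calc _ = v * v' * (v * v') := by rw [h'.ia, iv']; group
      _ = x ^ m * (d * x * d⁻¹) ^ m * (d * d) := by rw [e1, conj_zpow]; group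
      _ = _ := by rw [hδ, ← zpow_mul, ← zpow_add]; congr 2; ring
  have h6 : d * d = 1 := h.eq_one (by
    have := mul_mem (inv_mem (zpow_mem (mem_zpowers x) ((δ + 1) * m + (δ + 1) * m))) (h3.ge (h'.ya v' hv' hw'))
    rwa [h5, inv_mul_cancel_left] at this) (mul_mem hd hd) h.wD
  obtain ⟨r, hr⟩ := mem_zpowers_iff.1 (h2 (mem_zpowers x))
  refine ⟨r * ((δ + 1) * m), ?_⟩
  rw [← inv_mul_eq_iff_eq_mul, h5, h6, mul_one, ← hr, ← zpow_mul]
  congr 1; ring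

/-- The elements fixing `w` and moving `a` to an element commuting with `a`. -/
def stab (h : Tw S D a w c x) : Subgroup Γ where
  carrier := {g | g ∈ 𝒩[S] ∧ g * w * g⁻¹ = w ∧ Commute a (g * a * g⁻¹)}
  one_mem' := ⟨one_mem _, by simp, by simp⟩
  inv_mem' := fun {g} ⟨h1, h2, h3⟩ => ⟨inv_mem h1, by nth_rewrite 1 [← h2]; group, by
    simpa using endN_comm' h3.symm⟩
  mul_mem' := fun {g g'} ⟨h1, h2, h3⟩ ⟨k1, k2, k3⟩ => by
    have hw : g⁻¹ * w * g⁻¹⁻¹ = w := by nth_rewrite 1 [← h2]; group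
    refine ⟨mul_mem h1 k1, ?_, ?_⟩
    · calc _ = g * (g' * w * g'⁻¹) * g⁻¹ := by group
        _ = w := by rw [k2, h2]
    · have := endN_comm g (h.trans (h.conj' (inv_mem h1) hw) (end1_conj_mem k1 h.aS) (h.conj' k1 k2).aw
        (by simpa using endN_comm' h3.symm) k3)
      convert this using 1 <;> group

/-- The product of `C_S(w)` with `stab`. -/
def big (h : Tw S D a w c x) : Subgroup Γ where
  carrier := {g | ∃ s ∈ S, Commute s w ∧ ∃ u ∈ h.stab, g = s * u}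
  one_mem' := ⟨1, one_mem _, Commute.one_left w, 1, one_mem _, by simp⟩
  inv_mem' := by
    rintro _ ⟨s, h1, h2, u, hu, rfl⟩
    refine ⟨u⁻¹ * s⁻¹ * u, end1_conj_mem' hu.1 (inv_mem h1), ?_, u⁻¹, inv_mem hu, by group⟩
    exact (endN_comm' (u := w) (by rw [hu.2.1]; exact h2.symm.inv_right)).symm
  mul_mem' := by
    rintro _ _ ⟨s, h1, h2, u, hu, rfl⟩ ⟨s', k1, k2, u', hu', rfl⟩
    refine ⟨s * (u * s' * u⁻¹), mul_mem h1 (end1_conj_mem hu.1 k1), h2.mul_left ?_, u * u', mul_mem hu hu',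
      by group⟩
    have := endN_comm u k2
    rwa [hu.2.1] at this

theorem mem_big (h : Tw S D a w c x) (hg : g ∈ 𝒩[S]) (hw : g * w * g⁻¹ = w) {s : Γ} (hs : s ∈ S)
    (sw : Commute s w) (e : Commute (s * a * s⁻¹) (g * a * g⁻¹)) : g ∈ h.big := by
  refine ⟨s, hs, sw, s⁻¹ * g, ⟨mul_mem (inv_mem (le_normalizer hs)) hg, ?_, ?_⟩, by group⟩
  · calc _ = s⁻¹ * (g * w * g⁻¹) * s := by group
      _ = w := by rw [hw, mul_assoc, ← sw.eq, inv_mul_cancel_left]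
  · convert endN_comm' e using 1
    group

theorem odd_of_not (h : Tw S D a w c x) (hg : g ∈ 𝒩[S]) (hw : g * w * g⁻¹ = w) (hn : g ∉ h.big) :
    ∃ i : ℤ, g * a * g⁻¹ * a * (g * a * g⁻¹)⁻¹ = a * x ^ (2 * i + 1) := by
  have h' := h.conj' hg hw
  obtain ⟨k, hk⟩ := mem_zpowers_iff.1 (h.ya _ h'.aS h'.aw)
  rw [eq_inv_mul_iff_mul_eq] at hk
  obtain ⟨i, rfl | rfl⟩ := Int.even_or_odd' k
  · obtain ⟨s, h1, h2, h3⟩ := h.even h'.aS h'.aw h'.aa (h.inverts hg hw) (j := i) (by rw [← hk, two_mul])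
    exact absurd (h.mem_big hg hw h1 h2 h3) hn
  · exact ⟨i, hk.symm⟩

theorem index_two (h : Tw S D a w c x) {g' : Γ} (hg : g ∈ 𝒩[S]) (hw : g * w * g⁻¹ = w) (hn : g ∉ h.big)
    (hg' : g' ∈ 𝒩[S]) (hw' : g' * w * g'⁻¹ = w) (hn' : g' ∉ h.big) : g⁻¹ * g' ∈ h.big := by
  have h1 := h.conj' hg hw
  have h2 := h.conj' hg' hw'
  have hi : g⁻¹ * w * g = w := by nth_rewrite 1 [← hw]; group
  obtain ⟨i, e⟩ := h.odd_of_not hg hw hn
  obtain ⟨i', e'⟩ := h.odd_of_not hg' hw' hn'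
  obtain ⟨j, hj⟩ := h.odd2 h1 ((MulAut.conj g).orderOf_eq x) h2.aS h2.aw h2.aa (h.inverts hg hw)
    (h.inverts hg' hw') e e'
  have h3 := h1.inverts (g := g' * g⁻¹) (mul_mem hg' (inv_mem hg)) (by
    calc _ = g' * (g⁻¹ * w * g) * g'⁻¹ := by group
      _ = w := by rw [hi, hw'])
  rw [show g' * g⁻¹ * (g * a * g⁻¹) * (g' * g⁻¹)⁻¹ = g' * a * g'⁻¹ by group] at h3
  obtain ⟨s, k1, k2, k3⟩ := h1.even h2.aS h2.aw h2.aa h3 hj
  refine h.mem_big (mul_mem (inv_mem hg) hg') ?_ (end1_conj_mem' hg k1)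
    (endN_comm' (u := w) (by rw [hw]; exact k2.symm)).symm ?_
  · calc _ = g⁻¹ * (g' * w * g'⁻¹) * g := by group
      _ = w := by rw [hw', hi]
  · convert endN_comm g⁻¹ k3 using 1 <;> group

theorem odd_mem (h : Tw S D a w c x) (hg : g ∈ 𝒩[S]) (hw : g * w * g⁻¹ = w) (ho : Odd (orderOf g)) :
    g ∈ h.big := by
  by_contra hn
  have h1 := h.index_two (inv_mem hg) (by nth_rewrite 1 [← hw]; group) (fun e => hn (inv_mem_iff.1 e)) hg hw hn
  obtain ⟨k, hk⟩ := ho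
  have h2 : (g⁻¹⁻¹ * g) ^ (k + 1) = g := by
    rw [inv_inv, ← sq, ← pow_mul, show 2 * (k + 1) = orderOf g + 1 by omega, pow_succ, pow_orderOf_eq_one, one_mul]
  exact hn (h2 ▸ pow_mem h1 (k + 1))

/-- A conjugate of `a` commutes with its images under the stabilizer of `w` in `A`. -/
theorem exists_conj (h : Tw S D a w c x) (AS : A ≤ 𝒩[S]) (oA : Odd (Nat.card A)) :
    ∃ s ∈ S, Commute s w ∧ ∀ α ∈ A, α * w * α⁻¹ = w → s⁻¹ * α * s ∈ h.stab := by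
  have mC : ∀ {z : Γ}, z ∈ centralizer {w} ↔ Commute z w := fun {z} => mem_centralizer_singleton_iff
  have p2 : IsPGroup 2 (S ⊓ centralizer {w} : Subgroup Γ) := h.pS.to_le inf_le_left
  have n1 : A ⊓ centralizer {w} ≤ 𝒩[(S ⊓ centralizer {w} : Subgroup Γ)] :=
    fun g hg => mem_normalizer_fintype fun z hz => ⟨end1_conj_mem (AS hg.1) hz.1,
      (centralizer {w}).mul_mem ((centralizer {w}).mul_mem hg.2 hz.2) ((centralizer {w}).inv_mem hg.2)⟩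
  have o1 : Odd (Nat.card (A ⊓ centralizer {w} : Subgroup Γ)) := oA.of_dvd_nat (card_dvd_of_le inf_le_left)
  obtain ⟨n, hn⟩ := p2.exists_card_eq
  have := p2.isNilpotent
  obtain ⟨k, hk, e⟩ := CfsgLib.Coprime.exists_conj_mem_of_subset_mul (S := h.stab) n1
    (by rw [hn]; exact (Nat.coprime_two_right.2 o1).pow_right n) (Or.inr inferInstance) fun α hα => by
      obtain ⟨s, h1, h2, u, hu, e⟩ := h.odd_mem (AS hα.1) (mul_inv_eq_iff_eq_mul.2 (mC.1 hα.2).eq)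
        (oA.of_dvd_nat (orderOf_dvd_natCard _ hα.1))
      exact ⟨s, ⟨h1, mC.2 h2⟩, u, hu, e⟩
  refine ⟨k⁻¹, inv_mem hk.1, (mC.1 hk.2).inv_left, fun α h1 h2 => ?_⟩
  rw [inv_inv]
  exact e α ⟨h1, mC.2 (mul_inv_eq_iff_eq_mul.1 h2)⟩

theorem comm_of_ne (h : Tw S D a w c x) (hg : g ∈ 𝒩[S]) (hne : g * w * g⁻¹ ≠ w) (h1 : Commute a (g * w * g⁻¹))
    (h2 : Commute (g * a * g⁻¹) w) : Commute a (g * a * g⁻¹) := by
  have h' := h.conj hg
  have h3 := inv_mem (h'.ya a h.aS h1)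
  have h4 := h.eq_one (h.ya _ h'.aS h2) (E := zpowers (g * x * g⁻¹)) (by
    convert h3 using 1
    generalize g * a * g⁻¹ = v at h'
    simp only [mul_inv_rev, h.ia, h'.ia, mul_assoc]) fun e =>
      (end1_inv_unique e h'.wx h.ww h'.ww h'.w1).elim h.w1 fun e => hne e.symm
  exact (mul_inv_eq_iff_eq_mul.1 (inv_mul_eq_one.1 h4).symm).symm

end Tw

open EndA End3 in
/-- The conjugates of `w` commute with each other and with `a`. -/
theorem Ed.conj_comm (h : Ed S D a b w t) :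
    (∀ g ∈ 𝒩[S], Commute w (g * w * g⁻¹)) ∧ ∀ g ∈ 𝒩[S], Commute a (g * w * g⁻¹) := by
  have cc := h.cc
  have p4 := h.p4
  set c := a * b with hc
  have cw : Commute c w := cc ▸ (Commute.refl c).mul_right (Commute.refl c)
  have pg : ∀ g ∈ 𝒩[S], P4 S (g * c * g⁻¹) := fun g hg => p4.conj hg
  have sg : ∀ g : Γ, g * c * g⁻¹ * (g * c * g⁻¹) = g * w * g⁻¹ := fun g => by rw [End2.conj_sq, cc]
  have X2 : ∀ g ∈ 𝒩[S], ∀ g' ∈ 𝒩[S], Commute (g * w * g⁻¹) (g' * w * g'⁻¹) := fun g hg g' hg' => by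
    rw [← sg, ← sg]
    exact (pg g hg).comm_sq h.pS (pg g' hg')
  have cg : ∀ g ∈ 𝒩[S], g * w * g⁻¹ ≠ w → Commute (g * c * g⁻¹) c := fun g hg hne =>
    (pg g hg).comm h.pS p4 (by rwa [sg, cc])
  set B := closure {y | ∃ g ∈ 𝒩[S], g * w * g⁻¹ = y} with hB
  have nB : 𝒩[S] ≤ 𝒩[B] := norm_cl w
  have gB : ∀ g ∈ 𝒩[S], g * w * g⁻¹ ∈ B := fun g hg => subset_closure ⟨g, hg, rfl⟩
  have X3 : ∀ x ∈ {y | ∃ g ∈ 𝒩[S], g * w * g⁻¹ = y}, ∀ y ∈ {y | ∃ g ∈ 𝒩[S], g * w * g⁻¹ = y}, Commute x y := by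
    rintro _ ⟨g, hg, rfl⟩ _ ⟨g', hg', rfl⟩
    exact X2 g hg g' hg'
  have BS : B ≤ S := (closure_le _).2 (by
    rintro _ ⟨g, hg, rfl⟩
    exact end1_conj_mem hg h.wS)
  have Bc : B ≤ centralizer {c} := (closure_le _).2 (by
    rintro _ ⟨g, hg, rfl⟩
    refine mem_centralizer_singleton_iff.2 ?_
    by_cases e : g * w * g⁻¹ = w
    · rw [e]; exact cw.symm.eq
    · rw [← sg]; exact ((cg g hg e).mul_left (cg g hg e)).eq)
  have sB : ∀ y ∈ B, y * y = 1 := fun y hy => mem_bot.1 (sq_cl (A := ⊥) X3 (by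
      rintro _ ⟨g, hg, rfl⟩
      rw [End2.conj_sq, h.ww, mul_one, mul_inv_cancel]
      exact one_mem _) hy)
  have aL : a ∈ 𝒩[S] := le_normalizer h.aS
  have cD : ∀ d ∈ D, Commute c d := fun d hd => (h.Da d hd).mul_left (h.Db d hd)
  refine ⟨fun g hg => by simpa using X2 1 (one_mem _) g hg, fun g hg => ?_⟩
  obtain ⟨i, d, hd, e0⟩ := h.lemU BS (le_normalizer.trans nB) (fun y hy => mem_centralizer_singleton_iff.1 (Bc hy))
    (fun y hy => by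
      rw [sq]
      exact sB _ (B.mul_mem ((mem_normalizer_iff.1 (nB aL) y).1 hy) (B.inv_mem hy))) (gB g hg)
  have e := sB _ (gB g hg)
  rw [e0] at e ⊢
  rw [← hc, ← sq, ((cD d hd).pow_left i).mul_pow, ← pow_mul, mul_comm i 2, pow_mul, sq c, cc] at e
  rcases pow_inv2 h.ww i with ⟨-, j, rfl⟩ | ⟨e', -⟩
  · rw [← hc, ← two_mul, pow_mul, sq, cc]
    exact (h.aw.pow_right j).mul_right (h.Da d hd)
  · rw [e'] at e
    exact absurd (eq_inv_of_mul_eq_one_left e ▸ D.inv_mem (D.pow_mem hd 2)) h.wD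

/-- For an operator group `A` of odd order, the `A`-conjugates of `⟨a ^ s, w⟩` commute for a suitable `s ∈ C_S(w)`. -/
theorem Ed.exists_comm (h : Ed S D a b w t) (AS : A ≤ 𝒩[S]) (oA : Odd (Nat.card A)) :
    ∃ s ∈ S, Commute s w ∧ ∀ α ∈ A, Commute (s * a * s⁻¹) (α * (s * a * s⁻¹) * α⁻¹) ∧
      Commute (s * a * s⁻¹) (α * w * α⁻¹) ∧ Commute w (α * w * α⁻¹) := by
  obtain ⟨x, T⟩ := h.exists_tw
  obtain ⟨c1, c2⟩ := h.conj_comm
  obtain ⟨s, hs, sw, e⟩ := T.exists_conj AS oA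
  have sN : s ∈ 𝒩[S] := le_normalizer hs
  have sw' : s * w * s⁻¹ = w := mul_inv_eq_iff_eq_mul.2 sw.eq
  refine ⟨s, hs, sw, fun α hα => ?_⟩
  have gN : s⁻¹ * α * s ∈ 𝒩[S] := mul_mem (mul_mem (inv_mem sN) (AS hα)) sN
  have e1 : s * (s⁻¹ * α * s * w * (s⁻¹ * α * s)⁻¹) * s⁻¹ = α * w * α⁻¹ := by
    nth_rewrite 2 [← sw']; group
  refine ⟨?_, e1 ▸ endN_comm s (c2 _ gN), c1 α (AS hα)⟩
  have : Commute a (s⁻¹ * α * s * a * (s⁻¹ * α * s)⁻¹) := by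
    by_cases hw : α * w * α⁻¹ = w
    · exact (e α hα hw).2.2
    · refine T.comm_of_ne gN (fun e2 => hw (by rw [← e1, e2, sw'])) (c2 _ gN) ?_
      convert endN_comm (s⁻¹ * α * s) (c2 _ (inv_mem gN)) using 1
      group
  convert endN_comm s this using 1
  group

end CfsgLib.OFP
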