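import Mathlib
import Cfsg.Agent.Lib.OFP.Bas1
import Cfsg.Agent.Lib.Flav.Gen
import Cfsg.Agent.Lib.Flav.ActS
import Cfsg.Agent.Lib.CoA.Red
import Cfsg.Agent.S0205

set_option autoImplicit false
set_option linter.unusedSectionVars false

namespace CfsgLib.OFP

open Subgroup Cfsg CfsgLib.LAE CfsgLib.Push CfsgLib.Blocks CfsgLib.ZJ
open scoped commutatorElement

variable {Γ : Type*} [Group Γ] [Finite Γ]

universe u

variable {r : ℕ} {G H : Subgroup Γ} {φ x : Γ}

theorem Hy.mono (h : Hy r G φ) (hH : H ≤ G) (hφ : φ ∈ 𝒩[H]) : Hy r H φ :=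
  ⟨h.hr, h.r2, h.hφ, hφ, fun e => h.rG (e.trans (card_dvd_of_le hH)), fun x hx => h.odd x (hH hx)⟩

theorem Hy.cop (h : Hy r G φ) (hH : H ≤ G) : (Nat.card (zpowers φ)).Coprime (Nat.card H) := by
  rw [Nat.card_zpowers]
  exact Nat.Coprime.coprime_dvd_left (orderOf_dvd_of_pow_eq_one h.hφ)
    (h.hr.coprime_iff_not_dvd.2 fun e => h.rG (e.trans (card_dvd_of_le hH)))

theorem Hy.eq_one (h : Hy r G φ) (hx : x ∈ G) (h2 : Two x) (hc : Commute φ x) : x = 1 := by
  by_contra h1
  obtain ⟨n, e1, e2⟩ := h2.exists_inv h1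
  exact e1 (h.odd _ (pow_mem hx n) e2 (hc.pow_right n))

theorem red_cent_zp {Δ : Type*} [Group Δ] {a y : Δ} : y ∈ 𝒞[zpowers a] ↔ Commute a y := by
  refine ⟨fun e => e a (mem_zpowers a), fun e g hg => ?_⟩
  obtain ⟨k, rfl⟩ := mem_zpowers_iff.1 hg
  exact e.zpow_left k

/-- As `Oku.Hy.map` (Lib/Oku/A7): by `Coprime.map_inf_centralizer` a fixed involution of the image is the image of
a fixed element `x`; its `2`-part is fixed, hence trivial, so `x` has odd order. -/
theorem Hy.map (h : Hy r G φ) {Δ : Type*} [Group Δ] (f : Γ →* Δ) : Hy r (G.map f) (f φ) := by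
  refine ⟨h.hr, h.r2, by rw [← map_pow, h.hφ, map_one], le_normalizer_map f (mem_map_of_mem f h.φG),
    fun e => h.rG (e.trans (card_map_dvd G f)), fun y hy e c => ?_⟩
  obtain ⟨x, hx, rfl⟩ := (Coprime.map_inf_centralizer f (zpowers_le.2 h.φG) (h.cop inf_le_left)
    (.inl (Coprime.isSolvable_zpowers φ))).ge ⟨hy, MonoidHom.map_zpowers f φ ▸ red_cent_zp.2 c⟩
  obtain ⟨u, v, h1, h2, h3, -, h4, -⟩ := exists_two_odd x
  obtain ⟨k, hk⟩ := mem_zpowers_iff.1 h4
  have u1 : u = 1 := h.eq_one (zpowers_le.2 hx.1 h4) h1 (hk ▸ (red_cent_zp.1 hx.2).zpow_right k)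
  rw [u1, one_mul] at h3
  subst h3
  obtain ⟨m, hm⟩ := h2
  have h5 := congrArg f (pow_orderOf_eq_one x)
  rwa [hm, map_pow, pow_succ, pow_mul, pow_two, e, one_pow, one_mul, map_one] at h5

theorem Hy.sub (h : Hy r G φ) (hG : G ≤ H) (hφ : φ ∈ H) : Hy r (G.subgroupOf H) ⟨φ, hφ⟩ :=
  ⟨h.hr, h.r2, Subtype.ext h.hφ, mem_normalizer_iff.2 fun y => mem_normalizer_iff.1 h.φG y,
    Core.card_subgroupOf_of_le hG ▸ h.rG,
    fun y hy e c => Subtype.ext (h.odd y hy (congrArg Subtype.val e) (congrArg Subtype.val c))⟩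

theorem red_aux (hO : ∀ (Δ : Type u) [Group Δ] [Finite Δ] (G : Subgroup Δ) (φ : Δ), ¬ Cx r G φ) (n : ℕ) :
    ∀ (Δ : Type u) [Group Δ] [Finite Δ] (G : Subgroup Δ) (a : Δ), Nat.card G = n → Hy r G a → Group.IsSolvable G := by
  induction n using Nat.strong_induction_on with
  | _ n ih =>
  suffices ∀ (Δ : Type u) [Group Δ] [Finite Δ] (G : Subgroup Δ) (a : Δ), G.Normal → Nat.card G = n → Hy r G a →
      Group.IsSolvable G from fun Δ _ _ G a hn h => Coprime.isSolvable_of_mulEquiv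
    (subgroupOfEquivOfLe le_normalizer) (this _ _ _ inferInstance
      ((Core.card_subgroupOf_of_le le_normalizer).trans hn) (h.sub le_normalizer h.φG))
  intro Δ _ _ G a _ hn h
  by_cases hF : fittingSubgroup Δ ⊓ G = ⊥
  · by_cases h0 : G = ⊥
    · rw [h0]; infer_instance
    obtain ⟨L, hL, hLG⟩ := CoA.exists_comp_le hF (Subgroup.Normal.isSubnormal inferInstance) le_rfl h0
    have hs := CoA.simple_of_comp hF hL hLG
    have hc := Comp.qs_not_isMulCommutative hL.2
    have ns : ¬ Group.IsSolvable L := fun e => hc ⟨⟨IsSimpleGroup.comm_iff_isSolvable.2 e⟩⟩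
    exfalso
    by_cases ha : a ∈ 𝒩[L]
    · obtain rfl : L = G := by_contra fun e =>
        ns (ih _ (hn ▸ Core.card_lt_of_lt (hLG.lt_of_ne e)) Δ L a rfl (h.mono hLG ha))
      have h1 : L ≤ L ⊔ zpowers a := le_sup_left
      have h2 : a ∈ L ⊔ zpowers a := mem_sup_right (mem_zpowers a)
      have h3 := h.sub h1 h2
      have e := subgroupOfEquivOfLe h1
      refine hO _ _ _ ⟨h3, map_injective (subtype_injective _) ?_, e.isSimpleGroup,
        fun c => hc ⟨⟨fun x y => e.symm.injective ?_⟩⟩, fun H k1 k2 k3 => ih _ ?_ _ H _ rfl (h3.mono k1 k3)⟩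
      · rw [Subgroup.map_sup, MonoidHom.map_zpowers, map_subgroupOf_eq_of_le h1, ← MonoidHom.range_eq_map,
          range_subtype]
        rfl
      · rw [map_mul, map_mul]
        exact c.is_comm.comm _ _
      · rw [← hn, ← Core.card_subgroupOf_of_le h1]
        exact Core.card_lt_of_lt (k1.lt_of_ne k2)
    obtain ⟨δ, hδ⟩ := CoA.exists_inj hF hL hLG (zpowers a)
    have h1 : ∀ x : L, (x : Δ) ∈ L ⊓ centralizer ((zpowers a ⊓ 𝒩[L] : Subgroup Δ) : Set Δ) := fun x =>
      ⟨x.2, fun g hg => by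
        have e : g = 1 := by
          by_contra e
          have o : orderOf a = r := by
            have := Fact.mk h.hr
            exact orderOf_eq_prime h.hφ fun k => ha (k ▸ one_mem _)
          have c : Nat.card (zpowers g) = Nat.card (zpowers a) := by
            rw [Nat.card_zpowers a, o]
            refine ((Nat.dvd_prime h.hr).1 ?_).resolve_left fun k => e ?_
            · rw [← o, ← Nat.card_zpowers a]
              exact card_dvd_of_le (zpowers_le.2 hg.1)
            · rwa [Nat.card_zpowers, orderOf_eq_one_iff] at k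
          exact ha (zpowers_le.2 hg.2 ((eq_of_le_of_card_ge (zpowers_le.2 hg.1) c.ge).ge (mem_zpowers a)))
        rw [e, one_mul, mul_one]⟩
    refine ns (Cfsg.Agent.S0205.result (Nat.not_even_iff_odd.1 fun e => ?_))
    obtain ⟨t, ht⟩ := exists_prime_orderOf_dvd_card' 2 (even_iff_two_dvd.1 e)
    have t2 : (⟨t, h1 t⟩ : ↥(L ⊓ centralizer ((zpowers a ⊓ 𝒩[L] : Subgroup Δ) : Set Δ))) * ⟨t, h1 t⟩ = 1 :=
      Subtype.ext (congrArg Subtype.val ((pow_two t).symm.trans (ht ▸ pow_orderOf_eq_one t)) :)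
    have t3 := h.odd _ (δ ⟨t, h1 t⟩).2.1 (by rw [← coe_mul, ← map_mul, t2, map_one, coe_one])
      (red_cent_zp.1 (δ ⟨t, h1 t⟩).2.2)
    have t4 : t = 1 := Subtype.ext (congrArg Subtype.val (hδ ((Subtype.ext t3).trans (map_one δ).symm)) :)
    rw [t4, orderOf_one] at ht
    omega
  have := CoA.fit_inf_normal (G := G)
  have := CoA.fit_inf_solvable (G := G)
  let π := QuotientGroup.mk' (fittingSubgroup Δ ⊓ G)
  have h1 : Group.IsSolvable (G.map π) := ih _ (hn ▸ CoA.card_map_lt hF inf_le_right) _ _ _ rfl (h.map π)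
  have h2 : Group.IsSolvable π.ker := by rwa [QuotientGroup.ker_mk']
  have := Core.isSolvable_comap π (G.map π)
  exact Group.isSolvable_of_isSolvable_injective (inclusion_injective (le_comap_map π G))

/-- Copy of `Oku.solv_aux` (Lib/Oku/A7). In the simple case pass to the type `G ⊔ ⟨φ⟩` (`Hy.sub`). If `φ` does not
normalize the component `L`, then `L` embeds in `C_G(φ)` (`CoA.exists_inj`), so it has no involution, has odd
order and is solvable (`Cfsg.Agent.S0205.result`). -/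
theorem solv_of (hO : ∀ (Δ : Type u) [Group Δ] [Finite Δ] (G : Subgroup Δ) (φ : Δ), ¬ Cx r G φ)
    {Δ : Type u} [Group Δ] [Finite Δ] {G : Subgroup Δ} {φ : Δ} (h : Hy r G φ) : Group.IsSolvable G :=
  red_aux hO _ Δ G φ rfl h

end CfsgLib.OFP
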