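import Mathlib
import Cfsg.Agent.Lib.OFP.Red

set_option autoImplicit false
set_option linter.unusedSectionVars false

namespace CfsgLib.OFP

open Subgroup Cfsg CfsgLib.LAE CfsgLib.Push CfsgLib.Blocks CfsgLib.ZJ
open scoped commutatorElement

variable {Γ : Type*} [Group Γ] [Finite Γ]

variable {r : ℕ} {G H R V S Q : Subgroup Γ} {φ : Γ}

theorem Hy.inv_prim (h : Hy r G φ) {s : ℕ} (hs : s.Prime) (s2 : s ≠ 2) (hR : R ≤ G) (pR : IsPGroup s R)
    (φR : φ ∈ 𝒩[R]) (hV : V ≤ G) (pV : IsPGroup 2 V) (φV : φ ∈ 𝒩[V]) (hn : R ≤ 𝒩[V]) :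
    ⁅R, zpowers φ⁆ ≤ 𝒞[V] := by
  have := Fact.mk hs
  refine Flav.comm_zp_le (normalizer_le_normalizer_centralizer V φV) fun x hx => ?_
  by_cases e : r = s
  · obtain ⟨k, hk⟩ := IsPGroup.iff_card.1 pR
    have k0 : k = 0 := by_contra fun k0 =>
      h.rG ((e ▸ dvd_pow_self s k0 : r ∣ s ^ k).trans (hk ▸ card_dvd_of_le hR))
    rw [k0, pow_zero, card_eq_one] at hk
    rw [hk, mem_bot] at hx
    simp [hx]
  have := Fusion.finite_mulAut' V
  have pQ : IsPGroup s ((R.subgroupOf 𝒩[V]).map V.normalizerMonoidHom) := pR.comap_subtype.map _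
  have key := Flav.comm_of_rep (Flav.frRep pV) (a := V.normalizerMonoidHom ⟨φ, φV⟩) h.hr
    (by rw [← map_pow, show (⟨φ, φV⟩ : 𝒩[V]) ^ r = 1 from Subtype.ext h.hφ, map_one])
    (Flav.frRep_fix pV fun y e => Subtype.ext (h.eq_one (hV y.2) (two_of_mem pV y.2)
      (mul_inv_eq_iff_eq_mul.1 (congrArg Subtype.val e)))) hs e
    (fun e' => s2 ((Nat.prime_dvd_prime_iff_eq Nat.prime_two hs).1
      ((ZMod.natCast_eq_zero_iff s 2).1 e')).symm) pQ
    (le_normalizer_map _ (mem_map_of_mem _ (le_normalizer_comap _ φR)))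
    (fun z hz e' => Flav.frRep_ker pV e' (by
      obtain ⟨k, hk⟩ := IsPGroup.iff_card.1 pQ
      exact (((Nat.coprime_primes hs Nat.prime_two).2 s2).pow_left k).coprime_dvd_left
        (hk ▸ Subgroup.orderOf_dvd_natCard _ hz))) (.inl s2)
    (mem_map_of_mem _ (x := ⟨x, hn hx⟩) hx)
  have : ⁅(⟨φ, φV⟩ : 𝒩[V]), ⟨x, hn hx⟩⁆ ∈ V.normalizerMonoidHom.ker := by
    rw [MonoidHom.mem_ker, map_commutatorElement, Flav.comm_one key]
  rwa [normalizerMonoidHom_ker] at this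

theorem Hy.inv_syl (h : Hy r G φ) {X T : Subgroup Γ} (hX : X ≤ G) (φX : φ ∈ 𝒩[X])
    (hT : Tech.IsSylowIn 2 T G) (φT : φ ∈ 𝒩[T]) (hTX : ⁅T, zpowers φ⁆ ≤ X)
    (ho : ∀ s : ℕ, s.Prime → s ≠ 2 → ∀ S ≤ G, IsPGroup s S → φ ∈ 𝒩[S] → ⁅S, zpowers φ⁆ ≤ X) :
    ⁅G, zpowers φ⁆ ≤ X := by
  refine Flav.comm_le_of_sylow h.φG (h.cop le_rfl) hX φX fun s hs => ?_
  by_cases s2 : s = 2
  · exact s2 ▸ ⟨T, hT, φT, hTX⟩
  have := Fact.mk hs
  obtain ⟨S, hS, φS, -⟩ := Flav.exists_inv_sylow s h.φG (h.cop le_rfl) bot_le IsPGroup.of_bot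
    (le_normalizer_of_normal (mem_top φ))
  exact ⟨S, hS, φS, ho s hs s2 S hS.le hS.pgroup φS⟩

theorem inv_comm_le (φS : φ ∈ 𝒩[S]) : ⁅S, zpowers φ⁆ ≤ S :=
  Coprime.commutator_le_of_le_normalizer (zpowers_le.2 φS)

/-- First for `R` an `s`-group, `s` odd: in the ambient group `MulAut V` apply `Flav.comm_of_rep` to
`Flav.frRep` (`frRep_fix`, `frRep_ker`), `α` the automorphism induced by `φ` (fixed point free by `Hy.eq_one`) and
the image of `R`. In general use `Flav.comm_le_of_sylow` for `R` with `X = R ⊓ C(V)` and invariant Sylow subgroups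
(`Flav.exists_inv_sylow`; these use `Tech.IsSylowIn`); the Sylow `2`-subgroup of `R` is trivial. -/
theorem Hy.comm_le (h : Hy r G φ) (hR : R ≤ G) (oR : Odd (Nat.card R)) (φR : φ ∈ 𝒩[R]) (hV : V ≤ G)
    (pV : IsPGroup 2 V) (φV : φ ∈ 𝒩[V]) (hn : R ≤ 𝒩[V]) : ⁅R, zpowers φ⁆ ≤ 𝒞[V] :=
  ((h.mono hR φR).inv_syl (X := R ⊓ 𝒞[V]) (T := ⊥) inf_le_left
    (Flav.norm_inf φR (normalizer_le_normalizer_centralizer V φV))
    ⟨bot_le, IsPGroup.of_bot, by rw [relIndex_bot_left]; exact oR.not_two_dvd_nat⟩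
    (le_normalizer_of_normal (mem_top φ)) (by simp) fun _ hs s2 _ h1 h2 h3 =>
      le_inf ((inv_comm_le h3).trans h1)
        (h.inv_prim hs s2 (h1.trans hR) h2 h3 hV pV φV (h1.trans hn))).trans inf_le_right

/-- `Flav.comm_le_of_sylow` for `G` with `X = G ⊓ C(Ω Z(S))`: for `s = 2` the Sylow subgroup is `S`, for odd `s`
use `comm_le` with `V = S`. -/
theorem Hy.comm_le_omegaZ (h : Hy r G φ) (hS : IsSylowIn 2 S G) (φS : φ ∈ 𝒩[S]) (hn : G ≤ 𝒩[S]) :
    ⁅G, zpowers φ⁆ ≤ 𝒞[omegaZ 2 S] :=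
  (h.inv_syl (X := G ⊓ 𝒞[omegaZ 2 S]) inf_le_left
    (Flav.norm_inf h.φG (normalizer_le_normalizer_centralizer _ (normalizer_le_normalizer_omegaZ S φS)))
    ⟨hS.le, hS.isPGroup, hS.not_dvd_relIndex⟩ φS
    ((inv_comm_le φS).trans (le_inf hS.le (le_centralizer_omegaZ S))) fun _ hs s2 _ h1 h2 h3 =>
      le_inf ((inv_comm_le h3).trans h1)
        ((h.inv_prim hs s2 h1 h2 h3 hS.le hS.isPGroup φS (h1.trans hn)).trans
          (centralizer_le (omegaZ_le S)))).trans inf_le_right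

/-- Case `O(G) = 1` of `acin`: `V = O₂(G)` contains its centralizer in `G`. For odd `s` an invariant Sylow
`s`-subgroup `R` has `[R, φ] ≤ R ⊓ C(V) = 1`; with an invariant Sylow `2`-subgroup `T`, `Flav.comm_le_of_sylow`
gives `[G, φ] ≤ T`. Also `T = [T, φ]` (coprime action, `C_T(φ) = 1`), so `T = [G, φ]` is normal in `G`. -/
theorem Hy.two_closed (h : Hy r G φ) (hc : IsCharP 2 G) : ∃ T, IsSylowIn 2 T G ∧ G ≤ 𝒩[T] := by
  obtain ⟨T, hT, φT, -⟩ := Flav.exists_inv_sylow 2 h.φG (h.cop le_rfl) bot_le IsPGroup.of_bot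
    (le_normalizer_of_normal (mem_top φ))
  have hT' : IsSylowIn 2 T G := isSylowIn_of_not_dvd_relIndex hT.le hT.pgroup hT.not_dvd
  have h1 := h.inv_syl hT.le φT hT φT (inv_comm_le φT) fun _ hs s2 _ h1 h2 h3 =>
    (le_inf ((inv_comm_le h3).trans h1) (h.inv_prim hs s2 h1 h2 h3 (pCoreOf_le G) (isPGroup_pCoreOf G)
      (normalizer_le_normalizer_pCoreOf G h.φG) (h1.trans (le_normalizer_pCoreOf G)))).trans
        (hc.trans hT'.pCoreOf_le)
  have h2 := Coprime.commutator_sup_centralizer (zpowers_le.2 φT) (h.cop hT.le)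
    (.inl (Coprime.isSolvable_zpowers φ))
  have h3 : T ⊓ 𝒞[zpowers φ] = ⊥ := eq_bot_iff.2 fun x hx =>
    h.eq_one (hT.le hx.1) (two_of_mem hT.pgroup hx.1) (hx.2 φ (mem_zpowers φ))
  rw [h3, sup_bot_eq] at h2
  refine ⟨T, hT', ?_⟩
  rw [le_antisymm (h2.ge.trans (commutator_mono hT.le le_rfl)) h1]
  exact normalizer_commutator_ge_left _ _

theorem Hy.acin_normal [G.Normal] (h : Hy r G φ) (hs : Group.IsSolvable G) (pQ : IsPGroup 2 Q) :
    ACin G Q := by
  have := Core.pPrimeCore_characteristic 2 G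
  have oO : (Nat.card ((pPrimeCore 2 G).map G.subtype)).Coprime 2 := by
    rw [card_subtype]
    exact Core.coprime_card_pPrimeCore 2 G
  set π := QuotientGroup.mk' ((pPrimeCore 2 G).map G.subtype) with hπ
  have sj := π.subgroupMap_surjective G
  have kr : (π.subgroupMap G).ker = pPrimeCore 2 G := by
    rw [Subgroup.ker_subgroupMap, hπ, QuotientGroup.ker_mk', subgroupOf,
      comap_map_eq_self_of_injective G.subtype_injective]
  have := Group.isSolvable_of_surjective sj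
  obtain ⟨T, hT, nT⟩ := (h.map π).two_closed (isCharP_iff.2
    (Core.centralizer_pCore_le_of_isSolvable Nat.prime_two (by
      rw [← Core.map_pPrimeCore_eq sj (by rw [kr]; exact Core.coprime_card_pPrimeCore 2 G),
        Subgroup.map_eq_bot_iff, kr])))
  have m : ∀ x ∈ G, Two x → π x ∈ T := fun x hx ⟨n, hn⟩ => zpowers_le.1 (hT.le_of_normalizes
    (Two.isPGroup ⟨n, by rw [← map_pow, hn, map_one]⟩) (zpowers_le.2 (mem_map_of_mem π hx))
    (zpowers_le.2 (nT (mem_map_of_mem π hx))))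
  refine acin_of_two fun x hx y hy nx ny tx ty => ?_
  obtain ⟨n, hn⟩ := two_of_mem hT.isPGroup (mul_mem (m x hx tx) (m y hy ty))
  rw [← map_mul, ← map_pow, hπ, QuotientGroup.mk'_apply, QuotientGroup.eq_one_iff] at hn
  refine ⟨n, fun q hq => (Flav.of_comm_one ?_).eq⟩
  rw [← mem_bot, ← Core.isPGroup_inf_eq_bot_of_coprime pQ oO]
  exact mem_inf.2 ⟨Flav.comm_mem_left (pow_mem (mul_mem nx ny) _) hq,
    Flav.comm_mem_right (le_normalizer_of_normal (mem_top q)) hn⟩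

/-- Pass to the type `N(G)` (`Hy.sub`, `acin_subgroupOf_iff`), so `G` is normal; let `O = O_{2'}(G)` (normal in the
ambient group) and `π` the quotient map. The image of `G` is solvable with trivial `O_{2'}`, so its Fitting
subgroup is `O₂` and it has characteristic `2`; `two_closed` applies by `Hy.map`. For `2`-elements
`x, y ∈ N_G(Q)` the image of `x y` is a `2`-element, so `(x y) ^ 2 ^ n ∈ O ⊓ N(Q)`, and
`[O ⊓ N(Q), Q] ≤ O ⊓ Q = 1`. Use `acin_of_two`. -/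
theorem Hy.acin (h : Hy r G φ) (hs : Group.IsSolvable G) (hQ : Q ≤ G) (pQ : IsPGroup 2 Q) : ACin G Q :=
  have := Group.isSolvable_of_surjective (f := (subgroupOfEquivOfLe (le_normalizer (H := G))).symm.toMonoidHom)
    (MulEquiv.surjective _)
  (acin_subgroupOf_iff le_normalizer (hQ.trans le_normalizer)).1
    ((h.sub le_normalizer h.φG).acin_normal this pQ.comap_subtype)

end CfsgLib.OFP
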