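import Mathlib
import Cfsg.Agent.Lib.OFP.Inv

set_option autoImplicit false
set_option linter.unusedSectionVars false

namespace CfsgLib.OFP

open Subgroup Cfsg CfsgLib.LAE CfsgLib.Push CfsgLib.Blocks CfsgLib.ZJ
open scoped commutatorElement

variable {Γ : Type*} [Group Γ] [Finite Γ]

variable {r : ℕ} {G : Subgroup Γ} {φ : Γ}

theorem Cx.normal (h : Cx r G φ) : G.Normal :=
  normalizer_eq_top_iff.1 (top_le_iff.1 (h.gen.ge.trans (sup_le le_normalizer (zpowers_le.2 h.φG))))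

theorem Cx.gl_nsolv (h : Cx r G φ) : ¬ Group.IsSolvable G := fun e =>
  have := h.simple
  h.nc ⟨⟨IsSimpleGroup.comm_iff_isSolvable.2 e⟩⟩

theorem Cx.gl_ord (h : Cx r G φ) : orderOf φ = r := by
  have := Fact.mk h.hr
  refine orderOf_eq_prime h.hφ fun e => ?_
  obtain ⟨x, hx⟩ := exists_prime_orderOf_dvd_card' (G := G) 2 (by_contra fun c =>
    h.gl_nsolv (Cfsg.Agent.S0205.result (Nat.odd_iff.2 (by omega))))
  have h1 : x * x = 1 := by rw [← pow_two, ← hx, pow_orderOf_eq_one]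
  have h2 : x = 1 := Subtype.ext (h.odd x x.2 (congrArg Subtype.val h1) (e ▸ Commute.one_left _))
  simp [h2] at hx

/-- `G` has even order (`S0205`), so `φ` does not centralize an involution of `G`; in particular `φ ≠ 1`, its order
is `r` and `φ ∉ G`. -/
theorem Cx.not_mem (h : Cx r G φ) : φ ∉ G := fun e =>
  h.rG (h.gl_ord ▸ Subgroup.orderOf_dvd_natCard G e)

theorem Cx.gl_dec (h : Cx r G φ) (x : Γ) : ∃ g ∈ G, ∃ j : ℤ, x = g * φ ^ j := by
  obtain ⟨g, hg, _, ⟨j, rfl⟩, e⟩ := (mem_sup_iff_of_right_le_normalizer (zpowers_le.2 h.φG)).1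
    (h.gen.ge (mem_top x))
  exact ⟨g, hg, j, e⟩

theorem Cx.gl_index (h : Cx r G φ) : G.index = r := by
  have := h.normal
  have := Fact.mk h.hr
  have h1 : zpowers (φ : Γ ⧸ G) = ⊤ := eq_top_iff.2 fun y _ => by
    obtain ⟨x, rfl⟩ := QuotientGroup.mk_surjective y
    obtain ⟨g, hg, j, rfl⟩ := h.gl_dec x
    rw [QuotientGroup.mk_mul, (QuotientGroup.eq_one_iff g).2 hg, one_mul, QuotientGroup.mk_zpow]
    exact zpow_mem_zpowers _ j
  rw [index, ← card_top, ← h1, Nat.card_zpowers]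
  exact orderOf_eq_prime (by rw [← QuotientGroup.mk_pow, h.hφ, QuotientGroup.mk_one])
    fun e => h.not_mem ((QuotientGroup.eq_one_iff φ).1 e)

theorem Cx.gl_pow (h : Cx r G φ) (x : Γ) : x ^ r ∈ G :=
  have := h.normal
  h.gl_index ▸ G.pow_index_mem x

theorem Cx.gl_syl (h : Cx r G φ) {y : Γ} (hy : orderOf y = r) : IsSylowIn r (zpowers y) ⊤ := by
  have := Fact.mk h.hr
  refine isSylowIn_of_not_dvd_relIndex le_top (IsPGroup.of_card (n := 1)
    (by rw [Nat.card_zpowers, hy, pow_one])) fun e => h.rG ?_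
  have h1 := (zpowers y).card_mul_index
  rw [← G.card_mul_index, h.gl_index, Nat.card_zpowers, hy, mul_comm] at h1
  rwa [relIndex_top_right, Nat.eq_of_mul_eq_mul_right h.hr.pos h1] at e

/-- A subgroup `H` not contained in `G` contains a conjugate of `φ`: `Γ / G` is generated by the image of `φ`, of
order `r`, so `r ∣ |H|`; `⟨φ⟩` is a Sylow `r`-subgroup of `Γ` (`|Γ| = r |G|`), so an element of order `r` of `H`
generates a conjugate of `⟨φ⟩`. -/
theorem Cx.exists_conj (h : Cx r G φ) {H : Subgroup Γ} (hH : ¬ H ≤ G) : ∃ g : Γ, φ ∈ conjS g H := by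
  have := Fact.mk h.hr
  obtain ⟨x, hx, xG⟩ := SetLike.not_le_iff_exists.1 hH
  obtain ⟨y, hy⟩ := exists_prime_orderOf_dvd_card' (G := H) r (by_contra fun c => by
    obtain ⟨m, hm⟩ := exists_pow_eq_self_of_coprime (x := x) ((h.hr.coprime_iff_not_dvd.2 c).coprime_dvd_right
      (Subgroup.orderOf_dvd_natCard H hx))
    exact xG (hm ▸ pow_mem (h.gl_pow x) m))
  obtain ⟨g, -, e⟩ := (h.gl_syl ((orderOf_coe y).trans hy)).exists_conj (h.gl_syl h.gl_ord)
  exact ⟨g, conjS_mono (zpowers_le.2 y.2) (e.ge (mem_zpowers φ))⟩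

theorem Cx.gl_two (h : Cx r G φ) (x : Γ) (hx : Two x) : x ∈ G := by
  obtain ⟨n, hn⟩ := hx
  obtain ⟨m, hm⟩ := exists_pow_eq_self_of_coprime (x := x)
    ((((Nat.coprime_primes h.hr Nat.prime_two).2 h.r2).pow_right n).coprime_dvd_right
      (orderOf_dvd_of_pow_eq_one hn))
  exact hm ▸ pow_mem (h.gl_pow x) m

theorem Cx.gl_ac (h : Cx r G φ) {V Q : Subgroup Γ} (pV : IsPGroup 2 V) (V1 : V ≠ ⊥) (φV : φ ∈ 𝒩[V])
    (hQ : Q ≤ 𝒩[V]) (pQ : IsPGroup 2 Q) : ACin 𝒩[V] Q := by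
  have φH : φ ∈ 𝒩[G ⊓ 𝒩[V]] := Flav.norm_inf h.φG (le_normalizer φV)
  have VG : V ≤ G := fun x hx => h.gl_two x (two_of_mem pV hx)
  have h1 := (h.toHy.mono inf_le_left φH).acin (h.solv _ inf_le_left (fun e => ?_) φH)
    (le_inf (fun x hx => h.gl_two x (two_of_mem pQ hx)) hQ) pQ
  · exact acin_of_two fun x hx y hy nx ny tx ty =>
      h1 x ⟨h.gl_two x tx, hx⟩ y ⟨h.gl_two y ty, hy⟩ nx ny (tx.p2 Q) (ty.p2 Q)
  have := h.simple
  rcases ((normal_subgroupOf_iff_le_normalizer VG).2 (inf_eq_left.1 e)).eq_bot_or_eq_top with e | e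
  · exact V1 (by rwa [subgroupOf_eq_bot, disjoint_iff, inf_eq_left.2 VG] at e)
  · have := (pV.to_le (subgroupOf_eq_top.1 e)).isNilpotent
    exact h.gl_nsolv inferInstance

/-- `S` is a `φ`-invariant Sylow `2`-subgroup of `G` (`Flav.exists_inv_sylow`), Sylow in `Γ` as `|Γ : G| = r` is odd.
* `two`: the image in `Γ / G` has order dividing `r` and a power of `2`.
* `cenG`: otherwise `φ` centralizes a conjugate of `x` (`exists_conj` for `H = C(x)`).
* `fix`: `g = s φ ^ j`, and `φ ^ j ∈ G` forces `φ ^ j = 1`.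
* `ac`: conjugating, `φ ∈ N(V)`; `H = G ⊓ N(V)` is `φ`-invariant and proper (`V ≤ G` is not normal in the
  non-abelian simple group `G`), hence solvable; `Hy.acin` and `acin_of_two` (`2`-elements lie in `G`). To conjugate
  back use `acin_map_iff` with `MulAut.conj g`.
* `i2`: `N(S) = (G ⊓ N(S)) ⟨φ⟩` and `Hy.comm_le_omegaZ` for `G ⊓ N(S)`. -/
theorem Cx.exists_gl (h : Cx r G φ) : ∃ S, Gl r G S φ := by
  obtain ⟨S, hS, φS, -⟩ := Flav.exists_inv_sylow 2 h.φG (h.cop le_rfl) bot_le IsPGroup.of_bot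
    (le_normalizer_of_normal (mem_top φ))
  have syl : IsSylowIn 2 S ⊤ := isSylowIn_of_not_dvd_relIndex le_top hS.pgroup fun e => by
    rw [relIndex_top_right, ← relIndex_mul_index hS.le, h.gl_index] at e
    exact (Nat.prime_two.dvd_mul.1 e).elim hS.not_dvd fun e =>
      h.r2 ((Nat.prime_dvd_prime_iff_eq Nat.prime_two h.hr).1 e).symm
  refine ⟨S, h.hr, h.hφ, syl, φS, h.not_mem, h.gl_two, fun x xx x1 g hg => by_contra fun c => ?_,
    fun g hg gG => ?_, fun V pV V1 nV Q hQ pQ => ?_, fun n hn z hz => ?_⟩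
  · obtain ⟨k, hk⟩ := h.exists_conj (H := centralizer {x}) fun e =>
      c (e (mem_centralizer_singleton_iff.2 hg))
    have h1 := mem_centralizer_singleton_iff.1 (mem_conjS.1 hk)
    refine x1 (conj_eq_one_iff.1 (h.odd (k * x * k⁻¹) (h.gl_two _ (Two.conj ⟨1, by
      rw [pow_one, pow_two, xx]⟩ k)) (by rw [conj_mul, xx]; group) ?_))
    calc φ * (k * x * k⁻¹) = k * (k⁻¹ * φ * k * x) * k⁻¹ := by group
      _ = _ := by rw [h1]; group
  · obtain ⟨s, hs, y, hy, rfl⟩ := (mem_sup_iff_of_right_le_normalizer (zpowers_le.2 φS)).1 hg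
    have h1 : y ∈ zpowers φ ⊓ G := ⟨hy, (mul_mem_cancel_left (hS.le hs)).1 gG⟩
    rw [disjoint_iff.1 (disjoint_of_coprime_natCard (h.cop le_rfl)), mem_bot] at h1
    rwa [h1, mul_one]
  · obtain ⟨k, hk⟩ := h.exists_conj nV
    rw [conjS_normalizer] at hk
    have h1 := h.gl_ac (isPGroup_conjS pV k) (fun e => V1 (conjS_eq_bot_iff.1 e)) hk
      ((conjS_mono hQ).trans (conjS_normalizer k V).le) (isPGroup_conjS pQ k)
    rw [← conjS_normalizer] at h1
    exact (acin_map_iff (MulAut.conj k).injective).1 h1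
  · obtain ⟨g, hg, j, rfl⟩ := h.gl_dec n
    have gS : g ∈ 𝒩[S] := (mul_mem_cancel_right (zpow_mem φS j)).1 hn
    have h1 := (h.toHy.mono inf_le_left (Flav.norm_inf h.φG (le_normalizer φS))).comm_le_omegaZ
      (syl.mono (le_inf hS.le le_normalizer) le_top) φS inf_le_right
      (commutator_mem_commutator (inv_mem (mem_inf.2 ⟨hg, gS⟩)) (inv_mem (mem_zpowers φ))) _
      (LAE.conj_mem_of_mem_normalizer (zpow_mem (normalizer_le_normalizer_omegaZ S φS) j) hz)
    calc g * φ ^ j * (φ * z * φ⁻¹) * (g * φ ^ j)⁻¹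
        = φ * g * (⁅g⁻¹, φ⁻¹⁆ * (φ ^ j * z * (φ ^ j)⁻¹)) * φ⁻¹ * g⁻¹ := by
          rw [commutatorElement_def]; group
      _ = _ := by rw [← h1, commutatorElement_def]; group

end CfsgLib.OFP
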