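import Mathlib
import Cfsg.Agent.Lib.OFP.Bas2
import Cfsg.Agent.Lib.OFP.Gl
import Cfsg.Agent.S1169
import Cfsg.Agent.S0506
import Cfsg.Agent.Lib.BCor.Str

set_option autoImplicit false
set_option linter.unusedSectionVars false

namespace CfsgLib.OFP

open Subgroup Cfsg CfsgLib.LAE CfsgLib.Push CfsgLib.Blocks CfsgLib.ZJ
open scoped commutatorElement

variable {Γ : Type*} [Group Γ] [Finite Γ]

variable {r : ℕ} {G S : Subgroup Γ} {φ : Γ}

theorem gold_card {X : Type*} [Group X] [Finite X] (S : Sylow 2 X) {a m : ℕ} (h : Nat.card X = 2 ^ a * m)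
    (hm : m % 2 = 1) : Nat.card S = 2 ^ a := by
  have : Fact (Nat.Prime 2) := ⟨Nat.prime_two⟩
  rw [S.card_eq_multiplicity, h, Nat.factorization_mul (by positivity) (by omega)]
  simp [Nat.prime_two.factorization_pow, Nat.factorization_eq_zero_of_not_dvd (show ¬ 2 ∣ m by omega)]

/-- `S0506`: `r ∣ |S| - 1` with `|S|` the `2`-part of `|G|` gives `r ∣ |G|`. `L₂(2 ^ a)`: `|S| = 2 ^ a`;
`L₂(q)`, `q ≡ 3, 5 (8)`: `|S| = 4`, `r = 3 ∣ q (q² - 1) / 2`; Ree type: `|S| = 8`, `r = 7 ∣ q³ + 1`; `J₁`: `|S| = 8`. -/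
theorem dvd_of_abelian {X : Type*} [Group X] [Finite X] [IsSimpleGroup X] (hX : ¬ IsMulCommutative X)
    (S : Sylow 2 X) (hS : IsMulCommutative (S : Subgroup X)) (hr : r.Prime) (h : r ∣ Nat.card S - 1) :
    r ∣ Nat.card X := by
  rcases Cfsg.Agent.S0506.result hX S hS with ⟨a, ha, F, _, _, hF, ⟨e⟩⟩ | ⟨F, _, _, hF, ⟨e⟩⟩ | ⟨-, m, -, hm⟩ | ⟨-, hm⟩
  · have h1 := Dickson.card_psl (K := F)
    rw [← Nat.card_congr e.toEquiv, Nat.card_eq_fintype_card (α := F), hF] at h1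
    obtain ⟨j, hj⟩ : ∃ j, 2 ^ a = 2 * j + 2 := by
      obtain ⟨a, rfl⟩ := Nat.exists_eq_add_of_le ha
      exact ⟨2 * 2 ^ a - 1, by have := Nat.one_le_two_pow (n := a); rw [pow_add]; omega⟩
    have e1 : (2 ^ a) ^ 2 - 1 = (2 ^ a - 1) * (2 * j + 3) := by
      rw [hj, show 2 * j + 2 - 1 = 2 * j + 1 by omega]
      exact Nat.sub_eq_of_eq_add (by ring)
    have e2 : Nat.gcd 2 (2 ^ a - 1) = 1 := by
      rw [hj, show 2 * j + 2 - 1 = 2 * j + 1 by omega]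
      simp
    rw [e2, one_mul, e1] at h1
    rw [gold_card S h1 (by rw [hj, show 2 * j + 2 - 1 = 2 * j + 1 by omega, Nat.mul_mod]; simp [Nat.add_mod])] at h
    rw [h1]
    exact (h.mul_right _).mul_left _
  · have h1 := Dickson.card_psl (K := F)
    rw [← Nat.card_congr e.toEquiv, Nat.card_eq_fintype_card (α := F)] at h1
    generalize Fintype.card F = q at h1 hF
    have e2 : Nat.gcd 2 (q - 1) = 2 := Nat.gcd_eq_left (by omega)
    rw [e2] at h1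
    obtain ⟨m, hm, hm2⟩ : ∃ m, Nat.card X = 2 ^ 2 * m ∧ m % 2 = 1 := by
      rcases hF with hF | hF
      · obtain ⟨j, rfl⟩ : ∃ j, q = 8 * j + 3 := ⟨q / 8, by omega⟩
        rw [show (8 * j + 3) ^ 2 - 1 = 8 * ((4 * j + 1) * (2 * j + 1)) from Nat.sub_eq_of_eq_add (by ring)] at h1
        refine ⟨(8 * j + 3) * ((4 * j + 1) * (2 * j + 1)), by linarith, ?_⟩
        exact Nat.odd_iff.1 (Odd.mul ⟨4 * j + 1, by ring⟩ (Odd.mul ⟨2 * j, by ring⟩ ⟨j, rfl⟩))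
      · obtain ⟨j, rfl⟩ : ∃ j, q = 8 * j + 5 := ⟨q / 8, by omega⟩
        rw [show (8 * j + 5) ^ 2 - 1 = 8 * ((4 * j + 3) * (2 * j + 1)) from Nat.sub_eq_of_eq_add (by ring)] at h1
        refine ⟨(8 * j + 5) * ((4 * j + 3) * (2 * j + 1)), by linarith, ?_⟩
        exact Nat.odd_iff.1 (Odd.mul ⟨4 * j + 2, by ring⟩ (Odd.mul ⟨2 * j + 1, by ring⟩ ⟨j, rfl⟩))
    rw [gold_card S hm hm2] at h
    have r3 : r = 3 := (Nat.prime_dvd_prime_iff_eq hr Nat.prime_three).1 h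
    subst r3
    have h3 : 3 ∣ q * (q ^ 2 - 1) := by
      obtain ⟨j, rfl⟩ : ∃ j, q = j + 1 := ⟨q - 1, by omega⟩
      rw [show (j + 1) ^ 2 - 1 = j * (j + 2) from Nat.sub_eq_of_eq_add (by ring)]
      have : j % 3 = 0 ∨ (j + 1) % 3 = 0 ∨ (j + 2) % 3 = 0 := by omega
      rcases this with e | e | e
      · exact ((Nat.dvd_of_mod_eq_zero e).mul_right _).mul_left _
      · exact (Nat.dvd_of_mod_eq_zero e).mul_right _
      · exact ((Nat.dvd_of_mod_eq_zero e).mul_left _).mul_left _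
    omega
  · have h8 : 3 ^ (2 * m + 1) % 8 = 3 := by
      rw [pow_succ, pow_mul, Nat.mul_mod, Nat.pow_mod]; simp
    have h7 : 7 ∣ (3 ^ (2 * m + 1)) ^ 3 + 1 := by
      apply Nat.dvd_of_mod_eq_zero
      rw [← pow_mul, show (2 * m + 1) * 3 = 6 * m + 3 by ring, pow_add, pow_mul, Nat.add_mod, Nat.mul_mod,
        Nat.pow_mod]
      simp
    generalize 3 ^ (2 * m + 1) = q at hm h8 h7
    obtain ⟨j, rfl⟩ : ∃ j, q = 8 * j + 3 := ⟨q / 8, by omega⟩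
    have h1 : Nat.card X =
        2 ^ 3 * ((8 * j + 3) ^ 3 * ((2 * j + 1) * (64 * j ^ 2 + 40 * j + 7) * (4 * j + 1))) := by
      rw [hm, show 8 * j + 3 - 1 = 8 * j + 2 by omega]; ring
    rw [gold_card S h1 (Nat.odd_iff.1 (Odd.mul (Odd.pow ⟨4 * j + 1, by ring⟩)
      (Odd.mul (Odd.mul ⟨j, rfl⟩ ⟨32 * j ^ 2 + 20 * j + 3, by ring⟩) ⟨2 * j, by ring⟩)))] at h
    have r7 : r = 7 := (Nat.prime_dvd_prime_iff_eq hr (by norm_num)).1 h
    rw [r7, hm]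
    exact (h7.mul_left _).mul_right _
  · rw [gold_card S (a := 3) (m := 21945) hm (by norm_num)] at h
    have r7 : r = 7 := (Nat.prime_dvd_prime_iff_eq hr (by norm_num)).1 h
    rw [r7, hm]
    norm_num

/-- Suppose all `2`-subgroups satisfy `AC`. `Z = Ω Z(S) ≠ 1` is strongly closed in `S`: if `z ∈ Z` and
`z' = g z g⁻¹ ∈ S`, then `ext` for `U = ⟨z'⟩ ≤ S, g S g⁻¹` gives `g S g⁻¹ = c S c⁻¹` with `c ∈ C(z')`, so
`z' ∈ c Z c⁻¹` and `z' ∈ Z`. Apply `S1169` in the type `G`. A strongly embedded subgroup makes all involutions of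
`G` conjugate (`BCor.se_isConj`): `φ z φ⁻¹ = g z g⁻¹`, so `g⁻¹ φ ∈ G` by `cenG`, a contradiction. If `S` is
abelian, `φ` acts fixed point freely on `S`, `r ∣ |S| - 1` (`Flav.dvd_card_sub_one`), `dvd_of_abelian`. -/
theorem Cx.exists_nac (h : Cx r G φ) (g : Gl r G S φ) : ∃ U : Subgroup Γ, IsPGroup 2 U ∧ ¬ AC U := by
  have : Fact (Nat.Prime 2) := ⟨Nat.prime_two⟩
  by_contra hn
  have hac : ∀ U : Subgroup Γ, IsPGroup 2 U → AC U := fun U hU => by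
    by_contra h1
    exact hn ⟨U, hU, h1⟩
  have := h.simple
  have SG : S ≤ G := fun x hx => g.two x (two_of_mem g.syl.isPGroup hx)
  have hS : IsSylowIn 2 S G := g.syl.mono SG le_top
  have hab : ¬ IsMulCommutative (hS.toSylow : Subgroup G) := by
    intro hc
    refine h.rG (dvd_of_abelian h.nc hS.toSylow hc h.hr ?_)
    have e : Nat.card hS.toSylow = Nat.card (⊤ : Subgroup S) := by
      rw [card_top]
      exact Nat.card_congr (subgroupOfEquivOfLe SG).toEquiv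
    rw [e]
    refine Flav.dvd_card_sub_one (α := S.normalizerMonoidHom ⟨φ, g.φS⟩) h.hr ?_ (fun _ _ => mem_top _) ?_
    · rw [← map_pow, show (⟨φ, g.φS⟩ : 𝒩[S]) ^ r = 1 from Subtype.ext h.hφ, map_one]
    · intro y hy
      have hy' : φ * y * φ⁻¹ = y := congrArg Subtype.val hy
      rw [mul_inv_eq_iff_eq_mul] at hy'
      by_contra y1
      obtain ⟨n, n1, n2⟩ := (two_of_mem g.syl.isPGroup y.2).exists_inv fun e => y1 (Subtype.ext e)
      exact n1 (h.odd _ (pow_mem (SG y.2) n) n2 (Commute.pow_right hy' n))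
  have S0 : S ≠ ⊥ := by
    rintro rfl
    refine hab ⟨⟨fun x y => Subtype.ext (Subtype.ext ?_)⟩⟩
    have hx : ((x : G) : Γ) = 1 := mem_bot.1 x.2
    have hy : ((y : G) : Γ) = 1 := mem_bot.1 y.2
    simp [hx, hy]
  obtain ⟨⟨z, hz⟩, z1⟩ := ne_bot_iff_exists_ne_one.1 (omegaZ_ne_bot (p := 2) g.syl.isPGroup S0)
  have z1' : z ≠ 1 := fun e => z1 (Subtype.ext e)
  have zG : z ∈ G := SG (omegaZ_le S hz)
  have z2 : z * z = 1 := by rw [← pow_two]; exact (mem_omegaZ.1 hz).2.2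
  have hsc : IsStronglyClosed ((omegaZ 2 S).subgroupOf G) (hS.toSylow : Subgroup G) := by
    refine ⟨fun x hx => omegaZ_le S hx, fun x hx c hc => ?_⟩
    have hx' : (x : Γ) ∈ omegaZ 2 S := hx
    have hc' : (c : Γ) * x * (c : Γ)⁻¹ ∈ S := hc
    show (c : Γ) * x * (c : Γ)⁻¹ ∈ omegaZ 2 S
    have hs := g.syl.conj (c : Γ)
    rw [conjS_top] at hs
    obtain ⟨d, hd, e⟩ := ext (U := zpowers ((c : Γ) * x * (c : Γ)⁻¹)) (fun V hV _ => hac V hV) g.syl hs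
      (zpowers_le.2 hc') (zpowers_le.2 (conj_mem_conjS.2 (omegaZ_le S hx')))
    have h1 : (c : Γ) * x * (c : Γ)⁻¹ ∈ conjS d (omegaZ 2 S) := by
      rw [conjS_omegaZ, ← e, ← conjS_omegaZ]
      exact conj_mem_conjS.2 hx'
    rw [mem_conjS] at h1
    have h2 := hd _ (mem_zpowers _)
    rwa [mul_assoc, h2, inv_mul_cancel_left] at h1
  rcases Cfsg.Agent.S1169.result hS.toSylow ((omegaZ 2 S).subgroupOf G)
    (ne_bot_iff_exists_ne_one.2 ⟨⟨⟨z, zG⟩, hz⟩, fun e => z1' (congrArg (fun x => ((x.1 : G) : Γ)) e)⟩)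
    ⟨⟨fun x y => Subtype.ext (Subtype.ext
      ((mem_omegaZ.1 (show ((y : G) : Γ) ∈ omegaZ 2 S from y.2)).2.1 _ (omegaZ_le S x.2)))⟩⟩
    hsc with h1 | ⟨H, hH⟩
  · exact hab h1
  · have o2 : ∀ x : G, x * x = 1 → x ≠ 1 → orderOf x = 2 := fun x h1 h2 =>
      orderOf_eq_prime (by rw [pow_two, h1]) h2
    obtain ⟨c, hc⟩ := BCor.se_isConj hH (o2 ⟨z, zG⟩ (Subtype.ext z2) fun e => z1' (congrArg Subtype.val e))
      (o2 ⟨φ * z * φ⁻¹, LAE.conj_mem_of_mem_normalizer h.φG zG⟩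
        (Subtype.ext (by show φ * z * φ⁻¹ * (φ * z * φ⁻¹) = 1; rw [conj_mul, z2]; simp))
        fun e => z1' (conj_eq_one_iff.1 (congrArg Subtype.val e)))
    have hc' : (c : Γ) * z * (c : Γ)⁻¹ = φ * z * φ⁻¹ := congrArg Subtype.val hc
    have := g.cenG z z2 z1' ((c : Γ)⁻¹ * φ) (by
      show (c : Γ)⁻¹ * φ * z = z * ((c : Γ)⁻¹ * φ)
      calc _ = (c : Γ)⁻¹ * (φ * z * φ⁻¹) * φ := by group
        _ = _ := by rw [← hc']; group)
    exact g.φG ((G.mul_mem_cancel_left (inv_mem c.2)).1 this)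

end CfsgLib.OFP
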