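import Mathlib
import Cfsg.Agent.Lib.OFP.Gold
import Cfsg.Agent.Lib.OFP.Lg3
import Cfsg.Agent.Lib.OFP.Fin
import Cfsg.Agent.Lib.OFP.End3

set_option autoImplicit false
set_option linter.unusedSectionVars false

namespace CfsgLib.OFP

open Subgroup Cfsg CfsgLib.LAE CfsgLib.Push CfsgLib.Blocks CfsgLib.ZJ
open scoped commutatorElement

variable {Γ : Type*} [Group Γ] [Finite Γ]

variable {r : ℕ} {G : Subgroup Γ} {φ : Γ}

theorem not_cx (h : Cx r G φ) : False := by
  obtain ⟨S, g⟩ := h.exists_gl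
  obtain ⟨U, T, m⟩ := exists_mx g.syl (h.exists_nac g)
  obtain ⟨Q, a, w, k, b, s⟩ := m.exists_sm g
  have fix : ∀ y ∈ S ⊔ zpowers φ, ∀ x ∈ S, x ≠ 1 → Commute y x → y ∈ S := fun y hy x hx h1 hc => by
    obtain ⟨n, h2, h3⟩ := (two_of_mem g.syl.isPGroup hx).exists_inv h1
    exact g.fix y hy (g.cenG _ h3 h2 y (hc.pow_right n))
  have BS : bau 2 T ≤ S := (bau_le T).trans m.TS
  obtain ⟨b', t, c⟩ := s.exists_cf g.syl BS m.hm (fun C hC hn => m.ac_inv g hC hn)
    fun y hy hc => fix y hy w (BS (s.QB s.wQ)) s.w1 hc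
  obtain ⟨D, e⟩ := c.exists_ed
  exact e.false g.hr g.hφ g.φS (fun hS => g.φG (g.two _ (two_of_mem g.syl.isPGroup hS))) fix

/-- A finite group with a coprime automorphism of odd prime order fixing no involution is solvable. -/
theorem Hy.solvable (h : Hy r G φ) : Group.IsSolvable G :=
  solv_of (fun _ _ _ _ _ => not_cx) h

end CfsgLib.OFP
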