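import Mathlib
import Cfsg.Agent.Lib.OFP.Blk
import Cfsg.Agent.Lib.OFP.EndA
import Cfsg.Agent.Lib.Cop.Cf2

set_option autoImplicit false
set_option linter.unusedSectionVars false

namespace CfsgLib.OFP

open Subgroup Cfsg CfsgLib.LAE CfsgLib.Push CfsgLib.Blocks CfsgLib.ZJ
open scoped commutatorElement

variable {Γ : Type*} [Group Γ] [Finite Γ]

variable {B Q L S D : Subgroup Γ} {a w k b t : Γ}

/-- If `nclIn W L ≤ Q`, let `N = B ⊓ C(nclIn W L)`: it is normalized by `L`, lies in `Q` (`Sm.mem_Q`), contains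
`W ≤ C(Q)`, hence `nclIn W L` (`nclIn_le`), so `B ⊓ C(N) ≤ N`; this contradicts `hN`. Now copy `Sm.exists_cf`
(Blk.lean). -/
theorem Sm.partner (h : Sm B Q a w k b) (BL : B ≤ L) (LB : L ≤ 𝒩[B])
    (hN : ∀ N : Subgroup Γ, WW a w ≤ N → N ≤ Q → L ≤ 𝒩[N] → ¬ B ⊓ 𝒞[N] ≤ N) :
    ∃ σ ∈ L, σ * w * σ⁻¹ = w ∧ σ * a * σ⁻¹ ∉ Q ∧ ∀ d ∈ Q, Commute k d → Commute (σ * a * σ⁻¹) d := by
  by_cases h2 : ∀ σ ∈ L, conjS σ (WW a w) ≤ Q
  · obtain ⟨C, c1, c2, c3, c4⟩ := Cop.cf2_core h LB h2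
    exact absurd c3 (hN C c1 c2 c4)
  · push Not at h2
    obtain ⟨σ, hσ, hC⟩ := h2
    obtain ⟨h1, -, h3, h4⟩ := Cop.cf2_swap h (LB hσ) hC
    exact ⟨σ, hσ, h1, h3, h4⟩

/-- `exists_prod` (EndA.lean) with `D = Q ⊓ C(k)`, `K = B`. The conjugates `w' = g w g⁻¹` are central in `B`
(`Sm.cw`). Let `w' ≠ w`, `x = g a g⁻¹`; `⁅y, x⁆ ∈ {1, w'}` for `y ∈ B` (`Sm.bk_W`), with value `w'` for
`y = g b g⁻¹`. If `x ∉ Q` then `⁅a, x⁆ = w`. So `x = u d` (`Blk.split`), `⁅b, x⁆ = ⁅b, u⁆ ∈ {1, w}` is trivial,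
`y = q` or `q b` with `q = u' d' ∈ Q`, and `w' = ⁅q, x⁆ = ⁅d', d⁆ ∈ D`. -/
theorem Sm.fixed (h : Sm B Q a w k b) (bD : ∀ d ∈ Q, Commute k d → Commute b d) (LB : L ≤ 𝒩[B]) :
    ∃ x ∈ B, x ≠ 1 ∧ ∀ g ∈ L, Commute g x := by
  have wB : ∀ g ∈ L, g * w * g⁻¹ ∈ B := fun g hg => LAE.conj_mem_of_mem_normalizer (LB hg) (h.QB h.wQ)
  have wc : ∀ g ∈ L, ∀ y ∈ B, Commute y (g * w * g⁻¹) := fun g hg y hy => by
    have := (h.cw (conj_inv_mem_of_mem_normalizer (LB hg) hy)).conj g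
    rwa [show g * (g⁻¹ * y * g) * g⁻¹ = y by group] at this
  refine EndA.exists_prod (D := 𝒞[zpowers k]) (w := w) (fun e => h.w1 (h.toBlk.eq_one (right_mem_WW a w) ?_))
    (fun g hg g' hg' => wc g' hg' _ (wB g hg)) wB fun g hg hne => ?_
  · exact mem_centralizer_iff.1 e k (mem_zpowers k)
  · have := Cop.cf2_orb h bD (LB hg) hne
    rw [mem_centralizer_iff]
    rintro _ ⟨n, rfl⟩
    exact this.zpow_left n

theorem Ed.map (h : Ed S D a b w t) {Δ : Type*} [Group Δ] [Finite Δ] {f : Γ →* Δ} (hf : Function.Injective f) :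
    Ed (S.map f) (D.map f) (f a) (f b) (f w) (f t) := by
  exact Cop.cf2_ed hf h

end CfsgLib.OFP
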