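import Mathlib
import Cfsg.Agent.Lib.OFP.Main
import Cfsg.Agent.Lib.Frob.Quaternion
import Cfsg.Agent.S0225

/-!
Non-solvable groups with an odd prime not adjacent to `2` are almost simple modulo the solvable radical.
-/

set_option autoImplicit false
set_option linter.unusedSectionVars false

namespace CfsgLib.OFP

open Subgroup Cfsg CfsgLib.LAE
open scoped commutatorElement

variable {G : Type*} [Group G] [Finite G] {r : ℕ}

theorem exists_orderOf_of_dvd {x : G} {n : ℕ} (h : n ∣ orderOf x) : ∃ y : G, orderOf y = n :=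
  ⟨x ^ (orderOf x / n), orderOf_pow_orderOf_div (orderOf_pos x).ne' h⟩

theorem ord_two_mul (hr : r.Prime) (h2 : r ≠ 2) {x y : G} (hx : orderOf x = 2) (hy : orderOf y = r)
    (hc : Commute x y) : orderOf (x * y) = 2 * r := by
  rw [hc.orderOf_mul_eq_mul_orderOf_of_coprime, hx, hy]
  rw [hx, hy]
  exact (Nat.coprime_primes Nat.prime_two hr).2 h2.symm

theorem ord_two {x : G} (h : x * x = 1) (h1 : x ≠ 1) : orderOf x = 2 :=
  orderOf_eq_prime (by rw [pow_two, h]) h1

theorem even_of_simple {L : Type*} [Group L] [Finite L] [IsSimpleGroup L] (hc : ¬ IsMulCommutative L) :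
    Even (Nat.card L) := by
  by_contra h
  have := Cfsg.Agent.S0205.result (G := L) (Nat.not_even_iff_odd.1 h)
  exact hc ⟨⟨IsSimpleGroup.comm_iff_isSolvable.2 this⟩⟩

theorem exists_inv_of_simple {L : Type*} [Group L] [Finite L] [IsSimpleGroup L] (hc : ¬ IsMulCommutative L) :
    ∃ x : L, orderOf x = 2 :=
  exists_prime_orderOf_dvd_card' 2 (even_iff_two_dvd.1 (even_of_simple hc))

/-- A non-abelian simple group contains a four-group. -/
theorem exists_four {L : Type*} [Group L] [Finite L] [IsSimpleGroup L] (hc : ¬ IsMulCommutative L) :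
    ∃ E : Subgroup L, IsKleinFour E := by
  by_contra h
  push Not at h
  obtain ⟨z, hz, N, hN, ho, hzN⟩ := Cfsg.Agent.S0225.result (even_of_simple hc) h
  rcases hN.eq_bot_or_eq_top with rfl | rfl
  · have hZ : z ∈ center L := mem_center_iff.2 fun g => by
      have := mem_bot.1 (hzN g)
      rw [mul_inv_eq_one, mul_inv_eq_iff_eq_mul] at this
      exact this.symm
    rcases (inferInstance : (center L).Normal).eq_bot_or_eq_top with e | e
    · rw [e, mem_bot] at hZ
      simp [hZ] at hz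
    · exact hc ⟨⟨fun a b => (mem_center_iff.1 (e.ge (mem_top b)) a)⟩⟩
  · rw [card_top] at ho
    exact Nat.not_odd_iff_even.2 (even_of_simple hc) ho

theorem inverts (hr : r.Prime) (h2 : r ≠ 2) (hno : ∀ g : G, orderOf g ≠ 2 * r) {P : Subgroup G}
    (hP : IsPGroup r P) {u y : G} (hu : orderOf u = 2) (hn : u ∈ 𝒩[P]) (hy : y ∈ P) : u * y * u⁻¹ = y⁻¹ := by
  have := Fact.mk hr
  have hf : MonoidHom.FixedPointFree (P.normalizerMonoidHom ⟨u, hn⟩) := fun x hx => by
    by_contra h1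
    obtain ⟨k, hk⟩ := IsPGroup.iff_orderOf.1 hP x
    obtain _ | k := k
    · exact h1 (orderOf_eq_one_iff.1 hk)
    have e : Commute u (x : G) := by
      have := congrArg Subtype.val hx
      exact mul_inv_eq_iff_eq_mul.1 this
    refine hno _ (ord_two_mul hr h2 hu (y := (x : G) ^ r ^ k) ?_ (e.pow_right _))
    rw [orderOf_pow, orderOf_coe, hk, Nat.gcd_eq_right (pow_dvd_pow r k.le_succ), pow_succ,
      Nat.mul_div_cancel_left _ (pow_pos hr.pos k)]
  have h3 : u * u = 1 := by rw [← pow_two, ← hu, pow_orderOf_eq_one]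
  have := congrFun (hf.coe_eq_inv_of_involutive fun x => Subtype.ext (by
    change u * (u * x * u⁻¹) * u⁻¹ = x
    calc _ = (u * u) * x * (u * u)⁻¹ := by group
      _ = x := by rw [h3]; group)) ⟨y, hy⟩
  exact congrArg Subtype.val this

/-- A `2`-subgroup normalizing a non-trivial `r`-subgroup has a cyclic subgroup of index at most two. -/
theorem exists_cyc (hr : r.Prime) (h2 : r ≠ 2) (hno : ∀ g : G, orderOf g ≠ 2 * r) {P T : Subgroup G}
    (hP : IsPGroup r P) (h0 : P ≠ ⊥) (hT : IsPGroup 2 T) (hn : T ≤ 𝒩[P]) :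
    ∃ c : G, ∀ x ∈ T, ∀ y ∈ T, x ∈ zpowers c ∨ y ∈ zpowers c ∨ x * y ∈ zpowers c := by
  have := Fact.mk hr
  obtain ⟨y, hy⟩ := exists_prime_orderOf_dvd_card' (G := P) r
    (hP.card_eq_or_dvd.resolve_left fun e => h0 (card_eq_one.1 e))
  have k : ∀ u v : T, orderOf u = 2 → orderOf v = 2 → v ∈ zpowers u := fun u v hu hv => by
    have e1 := inverts hr h2 hno hP ((orderOf_coe u).trans hu) (hn u.2) (P.inv_mem y.2)
    have e2 := inverts hr h2 hno hP ((orderOf_coe v).trans hv) (hn v.2) y.2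
    have e3 : Commute ((u * v : T) : G) y := by
      change (u : G) * v * y = y * (u * v)
      rw [inv_inv] at e1
      calc (u : G) * v * y = u * (v * y * (v : G)⁻¹) * (u : G)⁻¹ * (u * v) := by group
        _ = _ := by rw [e2, e1]
    by_cases h1 : u * v = 1
    · rw [eq_inv_of_mul_eq_one_right h1]
      exact inv_mem (mem_zpowers u)
    obtain ⟨n, h3, h4⟩ := (two_of_mem hT (u * v).2).exists_inv fun e => h1 (Subtype.ext e)
    exact absurd (ord_two_mul hr h2 (ord_two h4 h3) ((orderOf_coe y).trans hy) (e3.pow_left n)) (hno _)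
  have m : ∀ c x : T, x ∈ zpowers c → (x : G) ∈ zpowers (c : G) := by
    rintro c _ ⟨n, rfl⟩
    exact ⟨n, by simp⟩
  rcases Frob.exists_gens_of_forall_mem_zpowers hT k with ⟨⟨c, hc⟩⟩ | ⟨-, c, -, -, hc, -⟩
  · exact ⟨c, fun x hx _ _ => .inl (m c ⟨x, hx⟩ (hc _))⟩
  · refine ⟨c, fun x hx y hy => ?_⟩
    by_cases h1 : (⟨x, hx⟩ : T) ∈ zpowers c
    · exact .inl (m c _ h1)
    by_cases h3 : (⟨y, hy⟩ : T) ∈ zpowers c
    · exact .inr (.inl (m c _ h3))
    exact .inr (.inr (m c _ ((mul_mem_iff_of_index_two hc).2 (iff_of_false h1 h3))))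

theorem inv_unique_cyc {c x y : G} (hx : x ∈ zpowers c) (hy : y ∈ zpowers c) (ox : orderOf x = 2)
    (oy : orderOf y = 2) : x = y := by
  classical
  have := Fintype.ofFinite (zpowers c)
  have h := IsCyclic.card_pow_eq_one_le (α := zpowers c) (n := 2) two_pos
  by_contra hne
  have x1 : x ≠ 1 := by rintro rfl; simp at ox
  have y1 : y ≠ 1 := by rintro rfl; simp at oy
  have : ({1, ⟨x, hx⟩, ⟨y, hy⟩} : Finset (zpowers c)) ⊆ Finset.univ.filter fun a => a ^ 2 = 1 := by
    intro a ha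
    simp only [Finset.mem_insert, Finset.mem_singleton] at ha
    rcases ha with rfl | rfl | rfl
    · simp
    · simpa [Subtype.ext_iff] using ox ▸ pow_orderOf_eq_one x
    · simpa [Subtype.ext_iff] using oy ▸ pow_orderOf_eq_one y
  have h3 := (Finset.card_le_card this).trans h
  rw [Finset.card_eq_three.2 ⟨_, _, _, by simpa [Subtype.ext_iff] using x1.symm,
    by simpa [Subtype.ext_iff] using y1.symm, by simpa [Subtype.ext_iff] using hne, rfl⟩] at h3
  omega

theorem exists_mem_four {E T : Subgroup G} (hE : IsKleinFour E) (hT : E ≤ T) {c : G}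
    (hc : ∀ x ∈ T, ∀ y ∈ T, x ∈ zpowers c ∨ y ∈ zpowers c ∨ x * y ∈ zpowers c) :
    ∃ x ∈ E, orderOf x = 2 ∧ x ∈ zpowers c := by
  have o : ∀ x : E, x ≠ 1 → orderOf (x : G) = 2 := fun x hx =>
    ord_two (congrArg Subtype.val (IsKleinFour.mul_self x)) fun e => hx (Subtype.ext e)
  have : Nontrivial E := Finite.one_lt_card_iff_nontrivial.1 (by rw [hE.card_four]; decide)
  obtain ⟨x, hx⟩ : ∃ x : E, x ≠ 1 := exists_ne 1
  obtain ⟨y, hy⟩ : ∃ y : E, y ∉ zpowers x := by
    by_contra h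
    push Not at h
    exact IsKleinFour.not_isCyclic ⟨⟨x, h⟩⟩
  have y1 : y ≠ 1 := by rintro rfl; exact hy (one_mem _)
  have xy : x * y ≠ 1 := fun e => hy (eq_inv_of_mul_eq_one_right e ▸ inv_mem (mem_zpowers x))
  rcases hc x (hT x.2) y (hT y.2) with e | e | e
  exacts [⟨x, x.2, o x hx, e⟩, ⟨y, y.2, o y y1, e⟩, ⟨_, (x * y).2, o _ xy, e⟩]

theorem isKleinFour_map {L : Subgroup G} {E : Subgroup L} (h : IsKleinFour E) : IsKleinFour (E.map L.subtype) :=
  have e := E.equivMapOfInjective L.subtype L.subtype_injective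
  ⟨(Nat.card_congr e.toEquiv).symm.trans h.card_four, (Monoid.exponent_eq_of_mulEquiv e).symm.trans h.exponent_two⟩

theorem isPGroup_four {E : Subgroup G} (h : IsKleinFour E) : IsPGroup 2 E :=
  IsPGroup.of_card (n := 2) h.card_four

/-- There is only one component. -/
theorem comp_unique (hr : r.Prime) (h2 : r ≠ 2) (hno : ∀ g : G, orderOf g ≠ 2 * r)
    (hF : fittingSubgroup G ⊓ ⊤ = ⊥)
    (h : r ∣ Nat.card G ∨ ∃ (T : Subgroup G) (c : G), IsSylowIn 2 T ⊤ ∧
      ∀ x ∈ T, ∀ y ∈ T, x ∈ zpowers c ∨ y ∈ zpowers c ∨ x * y ∈ zpowers c)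
    {K L : Subgroup G} (hK : IsComponent K) (hL : IsComponent L) : K = L := by
  by_contra hne
  have := Fact.mk hr
  have sK := CoA.simple_of_comp hF hK le_top
  have sL := CoA.simple_of_comp hF hL le_top
  have cK := Comp.qs_not_isMulCommutative hK.2
  have cL := Comp.qs_not_isMulCommutative hL.2
  have hc := Comp.comp_le_centralizer_of_ne hK hL hne
  rcases h with h | ⟨T, c, hT, h⟩
  · obtain ⟨x, hx⟩ := exists_prime_orderOf_dvd_card' r h
    obtain ⟨u, hu⟩ := exists_inv_of_simple cK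
    by_cases hn : x ∈ 𝒩[L]
    · have := Hy.solvable (r := r) (G := L) (φ := x) ⟨hr, h2, hx ▸ pow_orderOf_eq_one x, hn, fun e => ?_,
        fun y _ e1 e2 => by_contra fun e3 => hno _ (ord_two_mul hr h2 (ord_two e1 e3) hx e2.symm)⟩
      · exact cL ⟨⟨IsSimpleGroup.comm_iff_isSolvable.2 this⟩⟩
      obtain ⟨y, hy⟩ := exists_prime_orderOf_dvd_card' r e
      exact hno _ (ord_two_mul hr h2 ((orderOf_coe u).trans hu) ((orderOf_coe y).trans hy)
        (Commute.symm (hc u.2 y y.2)))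
    obtain ⟨δ, hδ⟩ := CoA.exists_inj hF hL le_top (zpowers x)
    obtain ⟨v, hv⟩ := exists_inv_of_simple cL
    have h1 : (v : G) ∈ L ⊓ centralizer ((zpowers x ⊓ 𝒩[L] : Subgroup G) : Set G) := ⟨v.2, fun g hg => by
      have : g = 1 := by_contra fun e => hn (zpowers_le.2 hg.2 (by
        obtain ⟨k, hk⟩ := mem_zpowers_of_prime_card (G := zpowers x) (p := r) (by rw [Nat.card_zpowers, hx])
          (g := ⟨g, hg.1⟩) (g' := ⟨x, mem_zpowers x⟩) fun e' => e (congrArg Subtype.val e')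
        exact ⟨k, congrArg Subtype.val hk⟩))
      simp [this]⟩
    refine hno _ (ord_two_mul hr h2 (x := (δ ⟨v, h1⟩ : G)) ?_ hx (Commute.symm ((δ _).2.2 x (mem_zpowers x))))
    rw [orderOf_coe, orderOf_injective δ hδ, ← orderOf_coe]
    exact (orderOf_coe v).trans hv
  obtain ⟨E, hE⟩ := exists_four cK
  obtain ⟨F, hF'⟩ := exists_four cL
  have e1 := isKleinFour_map hE
  have e2 := isKleinFour_map hF'
  obtain ⟨g, -, hg⟩ := hT.exists_le_conj (Q := E.map K.subtype ⊔ F.map L.subtype)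
    (IsPGroup.to_sup_of_normal_right' (isPGroup_four e1) (isPGroup_four e2)
      ((map_subtype_le _).trans (hc.trans ((centralizer_le (map_subtype_le F)).trans
        (centralizer_le_normalizer _))))) le_top
  have h' : ∀ x ∈ conjS g T, ∀ y ∈ conjS g T, x ∈ zpowers (g * c * g⁻¹) ∨ y ∈ zpowers (g * c * g⁻¹) ∨
      x * y ∈ zpowers (g * c * g⁻¹) := fun x hx y hy => by
    have m : ∀ z, g⁻¹ * z * g ∈ zpowers c → z ∈ zpowers (g * c * g⁻¹) := fun z ⟨n, hn⟩ =>
      ⟨n, by dsimp only at hn ⊢; rw [conj_zpow, hn]; group⟩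
    rcases h _ (mem_conjS.1 hx) _ (mem_conjS.1 hy) with e | e | e
    exacts [.inl (m _ e), .inr (.inl (m _ e)), .inr (.inr (m _ (by convert e using 1; group)))]
  obtain ⟨x, hx, ox, mx⟩ := exists_mem_four e1 (le_sup_left.trans hg) h'
  obtain ⟨y, hy, oy, my⟩ := exists_mem_four e2 (le_sup_right.trans hg) h'
  obtain rfl := inv_unique_cyc mx my ox oy
  have : x = 1 := mem_bot.1 ((CoA.inf_cent_eq_bot hF hL le_top).le ⟨map_subtype_le _ hy, hc (map_subtype_le _ hx)⟩)
  simp [this] at ox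

theorem almost_simple (hns : ¬ Group.IsSolvable G) (hr : r.Prime) (h2 : r ≠ 2) (hrG : r ∣ Nat.card G)
    (hno : ∀ g : G, orderOf g ≠ 2 * r) (R : Subgroup G) [R.Normal] (hRs : Group.IsSolvable R)
    (hR : ∀ N : Subgroup G, N.Normal → Group.IsSolvable N → N ≤ R) :
    ∃ S : Subgroup (G ⧸ R), S.Normal ∧ IsSimpleGroup S ∧ ¬ IsMulCommutative S ∧
      centralizer (S : Set (G ⧸ R)) = ⊥ := by
  have := Fact.mk hr
  let π := QuotientGroup.mk' R
  have hk : Group.IsSolvable π.ker := by rwa [QuotientGroup.ker_mk']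
  have hF : fittingSubgroup (G ⧸ R) ⊓ ⊤ = ⊥ := by
    have := CoA.fit_inf_normal (G := (⊤ : Subgroup (G ⧸ R)))
    have := CoA.fit_inf_solvable (G := (⊤ : Subgroup (G ⧸ R)))
    have h1 := hR _ inferInstance (Core.isSolvable_comap π (fittingSubgroup (G ⧸ R) ⊓ ⊤))
    refine eq_bot_iff.2 fun x hx => ?_
    obtain ⟨y, rfl⟩ := QuotientGroup.mk'_surjective R x
    exact (QuotientGroup.eq_one_iff y).2 (h1 hx)
  have hno' : ∀ g : G ⧸ R, orderOf g ≠ 2 * r := fun g hg => by
    obtain ⟨y, rfl⟩ := QuotientGroup.mk'_surjective R g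
    obtain ⟨z, hz⟩ := exists_orderOf_of_dvd (hg ▸ orderOf_map_dvd π y)
    exact hno z hz
  have u : ∀ {K L : Subgroup (G ⧸ R)}, IsComponent K → IsComponent L → K = L := by
    refine comp_unique hr h2 hno' hF ?_
    rw [← R.card_mul_index] at hrG
    rcases hr.dvd_mul.1 hrG with e | e
    · obtain ⟨P, hP⟩ := exists_isSylowIn r R
      obtain ⟨T, hT⟩ := exists_isSylowIn 2 𝒩[P]
      obtain ⟨c, hc⟩ := exists_cyc hr h2 hno hP.isPGroup (hP.ne_bot e) hT.isPGroup hT.le
      have e1 : (𝒩[P]).map π = ⊤ := eq_top_iff.2 fun x _ => by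
        obtain ⟨y, rfl⟩ := QuotientGroup.mk'_surjective R x
        obtain ⟨n, hn, z, hz, rfl⟩ := hP.frattini (x := y) (le_normalizer_of_normal (mem_top y))
        exact ⟨z, hz, by rw [map_mul, show π n = 1 from (QuotientGroup.eq_one_iff n).2 hn, one_mul]⟩
      refine .inr ⟨T.map π, π c, e1 ▸ hT.map π, ?_⟩
      rintro _ ⟨x, hx, rfl⟩ _ ⟨y, hy, rfl⟩
      rw [← map_mul, ← MonoidHom.map_zpowers]
      exact (hc x hx y hy).imp (mem_map_of_mem π) (Or.imp (mem_map_of_mem π) (mem_map_of_mem π))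
    · exact .inl e
  have h0 : (⊤ : Subgroup (G ⧸ R)) ≠ ⊥ := fun e => hns (by
    have : R = ⊤ := eq_top_iff.2 fun x _ => (QuotientGroup.eq_one_iff x).1 (mem_bot.1 (e.le (mem_top _)))
    subst this
    exact Group.isSolvable_of_surjective (f := (⊤ : Subgroup G).subtype) fun x => ⟨⟨x, trivial⟩, rfl⟩)
  obtain ⟨L, hL, -⟩ := CoA.exists_comp_le hF (Subgroup.Normal.isSubnormal inferInstance) le_rfl h0
  have hn : L.Normal := ⟨fun x hx g => (u (Comp.comp_map_conj hL g) hL).le ⟨x, hx, rfl⟩⟩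
  have cL := Comp.qs_not_isMulCommutative hL.2
  refine ⟨L, hn, CoA.simple_of_comp hF hL le_top, cL, by_contra fun e => ?_⟩
  obtain ⟨K, hK, h1⟩ := CoA.exists_comp_le hF (Subgroup.Normal.isSubnormal inferInstance) le_top e
  obtain rfl := u hK hL
  exact cL ⟨⟨fun a b => Subtype.ext (h1 b.2 a a.2)⟩⟩

end CfsgLib.OFP
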