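import Mathlib
import Cfsg.Agent.Lib.OFP.Wrap
import Cfsg.Agent.Lib.OFP.Unb

/-!
Groups determined up to finitely many possibilities by their prime graph are almost simple.
-/

set_option autoImplicit false

namespace CfsgLib.OFP

open Subgroup Cfsg

/-- `G` has a non-abelian simple normal subgroup with trivial centralizer. -/
def AS (G : Type*) [Group G] : Prop :=
  ∃ N : Subgroup G, N.Normal ∧ IsSimpleGroup N ∧ ¬ IsMulCommutative N ∧ centralizer (N : Set G) = ⊥

theorem AS.of_equiv {G H : Type*} [Group G] [Group H] (e : G ≃* H) (h : AS G) : AS H := by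
  obtain ⟨N, h1, h2, h3, h4⟩ := h
  have f := N.equivMapOfInjective e.toMonoidHom e.injective
  refine ⟨N.map e.toMonoidHom, h1.map _ e.surjective, f.symm.isSimpleGroup, fun h => h3 ⟨⟨fun a b =>
    f.injective (by rw [map_mul, map_mul, h.is_comm.comm])⟩⟩, eq_bot_iff.2 fun x hx => ?_⟩
  obtain ⟨y, rfl⟩ := e.surjective x
  have : y ∈ centralizer (N : Set G) := fun z hz => e.injective (by
    rw [map_mul, map_mul]; exact hx _ ⟨z, hz, rfl⟩)
  rw [h4, mem_bot] at this
  simp [this]

theorem as_of_bounded {G : Type} [Group G] [Finite G] [Nontrivial G] {n : ℕ}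
    (h : ∀ (H : Type) [Group H] [Finite H], SameG G H → Nat.card H ≤ n) : AS G := by
  have hR : ∀ N : Subgroup G, N.Normal → Group.IsSolvable N → N ≤ ⊥ := fun N _ hs => le_bot_iff.2 (by
    by_contra h0
    obtain ⟨H, _, _, h1, h2⟩ := unbounded_of_solv N h0 hs n
    exact absurd (h H h1) (by omega))
  have hns : ¬ Group.IsSolvable G := fun hs => top_ne_bot (le_bot_iff.1 (hR ⊤ inferInstance inferInstance))
  have h2 : 2 ∣ Nat.card G := by_contra fun e =>
    hns (Cfsg.Agent.S0205.result (Nat.not_even_iff_odd.1 fun e' => e (even_iff_two_dvd.1 e')))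
  obtain ⟨r, hr, r2, rG, hno⟩ : ∃ r : ℕ, r.Prime ∧ r ≠ 2 ∧ r ∣ Nat.card G ∧ ∀ x : G, orderOf x ≠ 2 * r := by
    by_contra e
    push Not at e
    obtain ⟨H, _, _, h1, h3⟩ := unbounded_of_adj h2 e n
    exact absurd (h H h1) (by omega)
  exact AS.of_equiv QuotientGroup.quotientBot (almost_simple hns hr r2 rG hno ⊥ inferInstance hR)

theorem bounded_main {G : Type*} [Group G] [Finite G] [Nontrivial G]
    (h : ∃ n : ℕ, ∀ (H : Type) [Group H] [Finite H], SameG G H → Nat.card H ≤ n) :
    AS G ∧ ∀ (H : Type) [Group H] [Finite H], SameG G H → AS H := by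
  obtain ⟨n, h⟩ := h
  have k : ∀ (H : Type) [Group H] [Finite H], SameG G H → AS H := fun H _ _ hH => by
    have : Nontrivial H := by
      obtain ⟨p, hp, h1⟩ := Nat.exists_prime_and_dvd (Finite.one_lt_card (α := G)).ne'
      exact Finite.one_lt_card_iff_nontrivial.1
        (hp.one_lt.trans_le (Nat.le_of_dvd Nat.card_pos ((hH.1 p hp).1 h1)))
    exact as_of_bounded fun K _ _ hK => h K (hH.trans hK)
  have e : Shrink.{0} G ≃* G := Shrink.mulEquiv
  have : Finite (Shrink.{0} G) := Finite.of_equiv G e.symm.toEquiv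
  exact ⟨(k _ (SameG.of_equiv e.symm)).of_equiv e, k⟩

end CfsgLib.OFP
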